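import Mathlib
import Cfsg.Agent.AschComp.Base
import Cfsg.Agent.S1323

/-!
# S1308: the alternating groups `A_n`, `n ≥ 9` (helper61)
-/

set_option autoImplicit false

namespace Cfsg.Agent.AschComp.Alt

open Subgroup Cfsg Equiv

variable {n : ℕ}

/-- the points `0, 1, 2, 3` -/
abbrev P (x : Fin n) : Prop := (x : ℕ) < 4

/-- the pointwise stabilizer of `0, 1, 2, 3` -/
abbrev K (h4 : 4 ≤ n) : Subgroup ↥(alternatingGroup (Fin n)) :=
  ⨅ i : Fin 4, MulAction.stabilizer ↥(alternatingGroup (Fin n)) (Fin.castLE h4 i : Fin n)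

theorem mem_K {h4 : 4 ≤ n} {g : ↥(alternatingGroup (Fin n))} :
    g ∈ K h4 ↔ ∀ x : Fin n, P x → (g : Perm (Fin n)) x = x := by
  rw [K, Subgroup.mem_iInf]
  constructor
  · intro h x hx
    have h1 := h ⟨x, hx⟩
    rw [MulAction.mem_stabilizer_iff] at h1
    exact h1
  · intro h i
    rw [MulAction.mem_stabilizer_iff]
    exact h (Fin.castLE h4 i) i.2

/-- 3-cycles on points `≥ 4` are in `K` -/
theorem cyc_mem {h4 : 4 ≤ n} {x y w : Fin n} (hx : ¬ P x) (hy : ¬ P y) (hw : ¬ P w)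
    (hxy : x ≠ y) (hxw : x ≠ w) :
    ∃ k ∈ K h4, (k : Perm (Fin n)) = swap x y * swap x w := by
  refine ⟨⟨swap x y * swap x w, ?_⟩, ?_, rfl⟩
  · rw [Perm.mem_alternatingGroup, Perm.sign_mul, Perm.sign_swap hxy, Perm.sign_swap hxw]
    decide
  · rw [mem_K]
    intro u hu
    have h1 : u ≠ x := fun h => hx (h ▸ hu)
    have h2 : u ≠ y := fun h => hy (h ▸ hu)
    have h3 : u ≠ w := fun h => hw (h ▸ hu)
    change swap x y (swap x w u) = u
    rw [swap_apply_of_ne_of_ne h1 h3, swap_apply_of_ne_of_ne h1 h2]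

/-- an element of `C(K)` maps `x ≥ 4` into the support of each 3-cycle through `x` -/
theorem move {h4 : 4 ≤ n} {g : ↥(alternatingGroup (Fin n))} (hg : g ∈ centralizer (K h4 : Set _))
    {x y w : Fin n} (hx : ¬ P x) (hy : ¬ P y) (hw : ¬ P w) (hxy : x ≠ y) (hxw : x ≠ w) (hyw : y ≠ w) :
    (g : Perm (Fin n)) x = x ∨ (g : Perm (Fin n)) x = y ∨ (g : Perm (Fin n)) x = w := by
  obtain ⟨k, hk, hk'⟩ := cyc_mem (h4 := h4) hx hy hw hxy hxw
  have h1 : (k : Perm (Fin n)) * g = g * k := congrArg Subtype.val (mem_centralizer_iff.1 hg k hk)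
  have h2 : (k : Perm (Fin n)) (g.1 x) = g.1 (k.1 x) := congrArg (fun σ : Perm (Fin n) => σ x) h1
  have h3 : (k : Perm (Fin n)) x ≠ x := by
    rw [hk']
    change swap x y (swap x w x) ≠ x
    rw [swap_apply_left, swap_apply_of_ne_of_ne hxw.symm hyw.symm]
    exact hxw.symm
  by_contra hne
  push Not at hne
  obtain ⟨e1, e2, e3⟩ := hne
  have h5 : (k : Perm (Fin n)) (g.1 x) = g.1 x := by
    rw [hk']
    change swap x y (swap x w (g.1 x)) = g.1 x
    rw [swap_apply_of_ne_of_ne e1 e3, swap_apply_of_ne_of_ne e1 e2]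
  rw [h5] at h2
  exact h3 (g.1.injective h2).symm

/-- an element of `C(K)` fixes the points `≥ 4` -/
theorem fix {h4 : 4 ≤ n} (hn : 9 ≤ n) {g : ↥(alternatingGroup (Fin n))} (hg : g ∈ centralizer (K h4 : Set _))
    {x : Fin n} (hx : ¬ P x) : (g : Perm (Fin n)) x = x := by
  -- four other points
  have key : ∃ y w y' w' : Fin n, (¬ P y ∧ ¬ P w ∧ ¬ P y' ∧ ¬ P w') ∧ (x ≠ y ∧ x ≠ w ∧ x ≠ y' ∧ x ≠ w') ∧
      y ≠ w ∧ y' ≠ w' ∧ y ≠ y' ∧ y ≠ w' ∧ w ≠ y' ∧ w ≠ w' := by
    have hfin : ∀ m : ℕ, m < 5 → 4 + m < n := fun m hm => by omega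
    let q : Fin 5 → Fin n := fun m => ⟨4 + m, hfin m m.2⟩
    have hq : ∀ a b : Fin 5, q a = q b → a = b := by
      intro a b h
      have := congrArg Fin.val h
      simp only [q] at this
      exact Fin.ext (by omega)
    have hP : ∀ a, ¬ P (q a) := by
      intro a h
      simp only [P, q] at h
      omega
    by_cases h : ∃ a, x = q a
    · obtain ⟨a, ha⟩ := h
      have h1 : ∀ b, b ≠ a → x ≠ q b := fun b hb h => hb (hq _ _ (ha ▸ h).symm)
      fin_cases a
      · exact ⟨q 1, q 2, q 3, q 4, ⟨hP _, hP _, hP _, hP _⟩, ⟨h1 _ (by decide), h1 _ (by decide), h1 _ (by decide),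
          h1 _ (by decide)⟩, fun h => absurd (hq _ _ h) (by decide), fun h => absurd (hq _ _ h) (by decide),
          fun h => absurd (hq _ _ h) (by decide), fun h => absurd (hq _ _ h) (by decide),
          fun h => absurd (hq _ _ h) (by decide), fun h => absurd (hq _ _ h) (by decide)⟩
      · exact ⟨q 0, q 2, q 3, q 4, ⟨hP _, hP _, hP _, hP _⟩, ⟨h1 _ (by decide), h1 _ (by decide), h1 _ (by decide),
          h1 _ (by decide)⟩, fun h => absurd (hq _ _ h) (by decide), fun h => absurd (hq _ _ h) (by decide),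
          fun h => absurd (hq _ _ h) (by decide), fun h => absurd (hq _ _ h) (by decide),
          fun h => absurd (hq _ _ h) (by decide), fun h => absurd (hq _ _ h) (by decide)⟩
      · exact ⟨q 0, q 1, q 3, q 4, ⟨hP _, hP _, hP _, hP _⟩, ⟨h1 _ (by decide), h1 _ (by decide), h1 _ (by decide),
          h1 _ (by decide)⟩, fun h => absurd (hq _ _ h) (by decide), fun h => absurd (hq _ _ h) (by decide),
          fun h => absurd (hq _ _ h) (by decide), fun h => absurd (hq _ _ h) (by decide),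
          fun h => absurd (hq _ _ h) (by decide), fun h => absurd (hq _ _ h) (by decide)⟩
      · exact ⟨q 0, q 1, q 2, q 4, ⟨hP _, hP _, hP _, hP _⟩, ⟨h1 _ (by decide), h1 _ (by decide), h1 _ (by decide),
          h1 _ (by decide)⟩, fun h => absurd (hq _ _ h) (by decide), fun h => absurd (hq _ _ h) (by decide),
          fun h => absurd (hq _ _ h) (by decide), fun h => absurd (hq _ _ h) (by decide),
          fun h => absurd (hq _ _ h) (by decide), fun h => absurd (hq _ _ h) (by decide)⟩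
      · exact ⟨q 0, q 1, q 2, q 3, ⟨hP _, hP _, hP _, hP _⟩, ⟨h1 _ (by decide), h1 _ (by decide), h1 _ (by decide),
          h1 _ (by decide)⟩, fun h => absurd (hq _ _ h) (by decide), fun h => absurd (hq _ _ h) (by decide),
          fun h => absurd (hq _ _ h) (by decide), fun h => absurd (hq _ _ h) (by decide),
          fun h => absurd (hq _ _ h) (by decide), fun h => absurd (hq _ _ h) (by decide)⟩
    · push Not at h
      exact ⟨q 0, q 1, q 2, q 3, ⟨hP _, hP _, hP _, hP _⟩, ⟨h _, h _, h _, h _⟩,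
          fun h => absurd (hq _ _ h) (by decide), fun h => absurd (hq _ _ h) (by decide),
          fun h => absurd (hq _ _ h) (by decide), fun h => absurd (hq _ _ h) (by decide),
          fun h => absurd (hq _ _ h) (by decide), fun h => absurd (hq _ _ h) (by decide)⟩
  obtain ⟨y, w, y', w', ⟨a1, a2, a3, a4⟩, ⟨b1, b2, b3, b4⟩, c1, c2, c3, c4, c5, c6⟩ := key
  rcases move hg hx a1 a2 b1 b2 c1 with h | h | h
  · exact h
  · rcases move hg hx a3 a4 b3 b4 c2 with h' | h' | h'
    · exact h'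
    · exact absurd (h.symm.trans h') c3
    · exact absurd (h.symm.trans h') c4
  · rcases move hg hx a3 a4 b3 b4 c2 with h' | h' | h'
    · exact h'
    · exact absurd (h.symm.trans h') c5
    · exact absurd (h.symm.trans h') c6

/-- an element of `C(K)` preserves the four points -/
theorem pres {h4 : 4 ≤ n} (hn : 9 ≤ n) {g : ↥(alternatingGroup (Fin n))} (hg : g ∈ centralizer (K h4 : Set _))
    {x : Fin n} : P ((g : Perm (Fin n)) x) ↔ P x := by
  constructor
  · intro h
    by_contra hx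
    rw [fix hn hg hx] at h
    exact hx h
  · intro hx
    by_contra h
    have h1 := fix hn hg h
    exact h (by rw [g.1.injective h1]; exact hx)

/-- the four points -/
def e4 (h4 : 4 ≤ n) : {x : Fin n // P x} ≃ Fin 4 where
  toFun x := ⟨x.1, x.2⟩
  invFun i := ⟨Fin.castLE h4 i, i.2⟩
  left_inv _ := rfl
  right_inv _ := rfl

/-- the involution `(0 1)(2 3)` -/
def z (h4 : 4 ≤ n) : ↥(alternatingGroup (Fin n)) :=
  ⟨swap (Fin.castLE h4 0) (Fin.castLE h4 1) * swap (Fin.castLE h4 2) (Fin.castLE h4 3), by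
    have h1 : (Fin.castLE h4 0 : Fin n) ≠ Fin.castLE h4 1 := fun h => absurd ((Fin.castLE_injective h4) h) (by decide)
    have h2 : (Fin.castLE h4 2 : Fin n) ≠ Fin.castLE h4 3 := fun h => absurd ((Fin.castLE_injective h4) h) (by decide)
    rw [Perm.mem_alternatingGroup, Perm.sign_mul, Perm.sign_swap h1, Perm.sign_swap h2]
    decide⟩

theorem z_castLE (h4 : 4 ≤ n) (i : Fin 4) :
    (z h4 : Perm (Fin n)) (Fin.castLE h4 i) = Fin.castLE h4 ((swap 0 1 * swap 2 3 : Perm (Fin 4)) i) := by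
  have key : ∀ a b : Fin 4, ∀ u : Fin 4, swap (Fin.castLE h4 a : Fin n) (Fin.castLE h4 b) (Fin.castLE h4 u) =
      Fin.castLE h4 (swap a b u) := by
    intro a b u
    exact ((Fin.castLE_injective h4).swap_apply a b u)
  change swap (Fin.castLE h4 0 : Fin n) (Fin.castLE h4 1) (swap (Fin.castLE h4 2) (Fin.castLE h4 3) (Fin.castLE h4 i)) = _
  rw [key, key]
  rfl

theorem z_fix (h4 : 4 ≤ n) {x : Fin n} (hx : ¬ P x) : (z h4 : Perm (Fin n)) x = x := by
  have h : ∀ i : Fin 4, x ≠ Fin.castLE h4 i := fun i h => hx (by rw [h]; exact i.2)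
  change swap _ _ (swap _ _ x) = x
  rw [swap_apply_of_ne_of_ne (h 2) (h 3), swap_apply_of_ne_of_ne (h 0) (h 1)]

theorem orderOf_z (h4 : 4 ≤ n) : orderOf (z h4) = 2 := by
  rw [orderOf_eq_prime_iff]
  constructor
  · apply Subtype.ext
    apply Equiv.ext
    intro x
    rw [pow_two]
    change (z h4 : Perm (Fin n)) ((z h4 : Perm (Fin n)) x) = x
    by_cases hx : P x
    · have hx' : x = Fin.castLE h4 ⟨x, hx⟩ := rfl
      rw [hx', z_castLE, z_castLE]
      congr 1
      generalize (⟨x, hx⟩ : Fin 4) = i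
      revert i
      decide
    · rw [z_fix h4 hx, z_fix h4 hx]
  · intro h
    have h1 := z_castLE h4 0
    rw [h] at h1
    have h2 := (Fin.castLE_injective h4) h1
    revert h2
    decide

theorem z_cent (h4 : 4 ≤ n) : z h4 ∈ centralizer (K h4 : Set _) := by
  rw [mem_centralizer_iff]
  intro k hk
  apply Subtype.ext
  apply Equiv.ext
  intro x
  change (k : Perm (Fin n)) ((z h4 : Perm (Fin n)) x) = (z h4 : Perm (Fin n)) ((k : Perm (Fin n)) x)
  by_cases hx : P x
  · have h1 : (k : Perm (Fin n)) x = x := mem_K.1 hk x hx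
    have hx' : x = Fin.castLE h4 ⟨x, hx⟩ := rfl
    rw [h1]
    have h2 : P ((z h4 : Perm (Fin n)) x) := by
      rw [hx', z_castLE]
      exact Fin.isLt ((swap 0 1 * swap 2 3 : Perm (Fin 4)) ⟨x, hx⟩)
    exact mem_K.1 hk _ h2
  · have h1 : ¬ P ((k : Perm (Fin n)) x) := by
      intro h
      have h2 : (k : Perm (Fin n)) ((k : Perm (Fin n)) x) = (k : Perm (Fin n)) x := mem_K.1 hk _ h
      exact hx ((k.1.injective h2) ▸ h)
    rw [z_fix h4 hx, z_fix h4 h1]

/-- the subgroup of order 4 -/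
def V : Subgroup (Perm (Fin 4)) := alternatingGroup (Fin 4) ⊓ centralizer ({(swap 0 1 * swap 2 3 : Perm (Fin 4))} : Set _)

theorem card_V : Nat.card ↥V = 4 := by
  have h1 : ∀ σ : Perm (Fin 4), σ ∈ V ↔ (Perm.sign σ = 1 ∧ σ * (swap 0 1 * swap 2 3) = (swap 0 1 * swap 2 3) * σ) := by
    intro σ
    rw [V, mem_inf, Perm.mem_alternatingGroup, mem_centralizer_singleton_iff]
  rw [Nat.card_congr (Equiv.subtypeEquivRight h1), Nat.card_eq_fintype_card]
  decide

/-- the action on the four points -/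
noncomputable def ψ (h4 : 4 ≤ n) (hn : 9 ≤ n) :
    ↥(centralizer ({z h4} : Set _) ⊓ centralizer (K h4 : Set _)) →* Perm (Fin 4) where
  toFun g := (e4 h4).permCongr (Perm.subtypePerm (g.1 : Perm (Fin n)) (fun _ => pres hn g.2.2))
  map_one' := by
    apply Equiv.ext
    intro i
    rfl
  map_mul' a b := by
    apply Equiv.ext
    intro i
    rfl

theorem ψ_apply (h4 : 4 ≤ n) (hn : 9 ≤ n) (g : ↥(centralizer ({z h4} : Set _) ⊓ centralizer (K h4 : Set _))) (i : Fin 4) :
    Fin.castLE h4 (ψ h4 hn g i) = ((g : ↥(alternatingGroup (Fin n))) : Perm (Fin n)) (Fin.castLE h4 i) := rfl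

theorem ψ_inj (h4 : 4 ≤ n) (hn : 9 ≤ n) : Function.Injective (ψ h4 hn) := by
  intro a b hab
  apply Subtype.ext
  apply Subtype.ext
  apply Equiv.ext
  intro x
  by_cases hx : P x
  · have hx' : x = Fin.castLE h4 ⟨x, hx⟩ := rfl
    rw [hx', ← ψ_apply h4 hn, ← ψ_apply h4 hn, hab]
  · rw [fix hn a.2.2 hx, fix hn b.2.2 hx]

theorem ψ_mem (h4 : 4 ≤ n) (hn : 9 ≤ n) (g : ↥(centralizer ({z h4} : Set _) ⊓ centralizer (K h4 : Set _))) :
    ψ h4 hn g ∈ V := by
  rw [V, mem_inf]
  constructor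
  · rw [Perm.mem_alternatingGroup]
    have h1 : Perm.sign (ψ h4 hn g) = Perm.sign (Perm.subtypePerm (g.1 : Perm (Fin n)) (fun _ => pres hn g.2.2)) :=
      Perm.sign_permCongr _ _
    rw [h1, Perm.sign_subtypePerm]
    · exact Perm.mem_alternatingGroup.1 g.1.2
    · intro x hx
      by_contra h
      exact hx (fix hn g.2.2 h)
  · rw [mem_centralizer_singleton_iff]
    apply Equiv.ext
    intro i
    apply Fin.castLE_injective h4
    have h1 : ((g.1 : ↥(alternatingGroup (Fin n))) : Perm (Fin n)) * (z h4 : Perm (Fin n)) = z h4 * g.1 :=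
      congrArg Subtype.val (mem_centralizer_singleton_iff.1 g.2.1)
    have h2 := congrArg (fun σ : Perm (Fin n) => σ (Fin.castLE h4 i)) h1
    change ((g.1 : ↥(alternatingGroup (Fin n))) : Perm (Fin n)) ((z h4 : Perm (Fin n)) (Fin.castLE h4 i)) =
      (z h4 : Perm (Fin n)) (((g.1 : ↥(alternatingGroup (Fin n))) : Perm (Fin n)) (Fin.castLE h4 i)) at h2
    rw [z_castLE, ← ψ_apply h4 hn, ← ψ_apply h4 hn, z_castLE] at h2
    exact h2

theorem card_dvd (h4 : 4 ≤ n) (hn : 9 ≤ n) :
    Nat.card ↥(centralizer ({z h4} : Set _) ⊓ centralizer (K h4 : Set _)) ∣ 4 := by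
  have h1 : (ψ h4 hn).range ≤ V := by
    rintro _ ⟨g, rfl⟩
    exact ψ_mem h4 hn g
  rw [Nat.card_congr (MonoidHom.ofInjective (ψ_inj h4 hn)).toEquiv]
  have h2 := Subgroup.card_dvd_of_le h1
  have h3 := card_V
  exact h2.trans (dvd_of_eq h3)

/-- **The row `alt`.** -/
theorem concl (hn : 9 ≤ n) : Concl ↥(alternatingGroup (Fin n)) :=
  concl_of_std (orderOf_z (by omega : 4 ≤ n)) (z_cent _) (Cfsg.Agent.S1323.result n (by omega) hn)
    (goodCent_of_card (card_dvd _ hn))

theorem concl' {G : Type*} [Group G] [Finite G] (hn : 9 ≤ n) (e : G ≃* ↥(alternatingGroup (Fin n))) : Concl G := by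
  have h4 : 4 ≤ n := by omega
  have h1 := isStandard_map e.symm (Cfsg.Agent.S1323.result n h4 hn)
  refine concl_of_std (z := e.symm (z h4)) (by rw [MulEquiv.orderOf_eq, orderOf_z]) ?_ h1 ?_
  · rw [← map_centralizer_equiv]
    exact ⟨z h4, z_cent h4, rfl⟩
  · apply goodCent_of_card
    have h2 : (centralizer ({z h4} : Set ↥(alternatingGroup (Fin n))) ⊓
        centralizer (K h4 : Set ↥(alternatingGroup (Fin n)))).map e.symm.toMonoidHom =
        centralizer ({e.symm (z h4)} : Set G) ⊓ centralizer (((K h4).map e.symm.toMonoidHom : Subgroup G) : Set G) := by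
      rw [Subgroup.map_inf _ _ _ e.symm.injective, CTwoTab.map_centralizer_singleton, map_centralizer_equiv]
    have h3 := card_dvd h4 hn
    rw [← h2, ← Nat.card_congr (CTwoTab.subMap e.symm _).toEquiv]
    exact h3

end Cfsg.Agent.AschComp.Alt
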