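import Mathlib
import Cfsg.Agent.AschComp.Base
import Cfsg.Agent.OddHalf.LongSL.Rk
import Cfsg.Agent.Lib.PSL2Inv
import Cfsg.Agent.SignalizersComponents.SLQuasisimple
import Cfsg.Agent.S1152
import Cfsg.Agent.S1157
import Cfsg.Agent.OddTab.LTwo
import Cfsg.Agent.AschComp.SpSec
import Cfsg.Agent.GenType.Alt
import Cfsg.Agent.AschComp.Alt
import Cfsg.Agent.ResEven.Base
import Cfsg.Agent.SignalizersComponents.ComponentExists
import Cfsg.Agent.OddHalf.D3.Inst
import Cfsg.Prelude.Def_EvenType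
import Cfsg.Agent.OddTab.GpThree
import Cfsg.Agent.ResEven.LFour.Core
import Cfsg.Agent.LargeExtra.W2.LFour.PslFacts
import Cfsg.Agent.GenOrth.Cases
import Cfsg.Agent.FooteOrth.Spin
import Cfsg.Agent.GenPsu.Psu
import Cfsg.Agent.GenExc.LeviQs
import Cfsg.Agent.Nodes.NormX
import Cfsg.Agent.Nodes.RankOneSub
import Cfsg.Agent.Nodes.CardSup
import Cfsg.Agent.KFacts.RgdCent
import Cfsg.Agent.KFacts.RgdRigid
import Cfsg.Agent.GenExc.Data
import Cfsg.Agent.S1034
import Cfsg.Agent.S1054
import Cfsg.Agent.OddTab.D4Short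
import Cfsg.Agent.GenExc.TwE
import Cfsg.Agent.S1070
import Cfsg.Agent.CTwoTab.JTwo
import Cfsg.Agent.CTwoTab.He
import Cfsg.Agent.CTwoTab.Suz
import Cfsg.Agent.CTwoTab.Ru
import Cfsg.Agent.CTwoTab.Co1
import Cfsg.Agent.CTwoTab.Fi22
import Cfsg.Agent.KFacts.FiTTh.Quasi
import Cfsg.Agent.CTwoTab.FiTF
import Cfsg.Agent.CTwoTab.HN
import Cfsg.Agent.CTwoTab.MonsterOf
import Cfsg.Agent.MonsterU.NodesU
import Cfsg.Agent.MonsterP.Equiv
import Cfsg.Agent.CTwoTab.BInst
import Cfsg.Agent.AschSpor.MTwelve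
import Cfsg.Agent.SevenLow.DoubleCover
import Cfsg.Agent.TypeM.FactsMcL
import Cfsg.Agent.TypeM.FactsLy
import Cfsg.Agent.KFacts.Co3.Sheet
import Cfsg.Agent.KFacts.ON.Qs
import Cfsg.Agent.KFacts.HS.DFour
import Cfsg.Agent.CTwoTab.Kinds
import Cfsg.Agent.OddHalf.Quat.NoThreeSpor.J1
import Cfsg.Agent.S1619

-- merged: Cfsg.Agent.AschComp.LieBig
section

/-!
# S1308: groups of Lie type of rank at least 2 over fields of odd order `q > 3` (helper61)

Some involution centralizer has a component `SL₂(q)`.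
-/

set_option autoImplicit false

namespace Cfsg.Agent.AschComp

open Subgroup Cfsg Cfsg.Agent.OddHalf.LieOddFam Cfsg.Agent.OddHalf.LongSL

universe u

/-- `SL(2,q)`, `q` odd, has 2-rank 1. -/
theorem rank_sl {F : Type*} [Field F] [Fintype F] (hF : Odd (Fintype.card F)) :
    PRankLE 2 1 (Matrix.SpecialLinearGroup (Fin 2) F) := by
  intro A _ hA
  have h1 : (A : Set (Matrix.SpecialLinearGroup (Fin 2) F)) ⊆ {1, -1} := by
    intro a ha
    have h2 := hA a ha
    rw [pow_two] at h2
    exact Lib.PSL2Inv.sq_eq_one (two_ne_of_odd hF) h2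
  calc Nat.card ↥A = (A : Set (Matrix.SpecialLinearGroup (Fin 2) F)).ncard := rfl
    _ ≤ ({1, -1} : Set (Matrix.SpecialLinearGroup (Fin 2) F)).ncard := Set.ncard_le_ncard h1
    _ ≤ ({-1} : Set (Matrix.SpecialLinearGroup (Fin 2) F)).ncard + 1 := Set.ncard_insert_le 1 _
    _ = 2 ^ 1 := by rw [Set.ncard_singleton]; norm_num

/-- a long `SL₂(q)`, `q > 3`, is a component of 2-rank 1 -/
theorem rankOne_of_long {X : Type*} [Group X] {q : ℕ} (h : HasLong q X) (h3 : 3 < q) : RankOne X := by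
  obtain ⟨j, J, hj, -, hJ, hs, F, i1, i2, hF, ho, ⟨e⟩⟩ := h
  have hq : IsQuasisimple (Matrix.SpecialLinearGroup (Fin 2) F) :=
    SignalizersComponents.SLQuasisimple.isQuasisimple_two (by rw [Nat.card_eq_fintype_card, hF]; omega)
  refine ⟨j, J, hj, ⟨hJ, hs, ?_⟩, Or.inl ?_⟩
  · exact SignalizersComponents.Components.isQuasisimple_of_mulEquiv
      ((subgroupOfEquivOfLe hJ).trans e).symm hq
  · exact CpQuot.Congr.prankLE_of e.symm (rank_sl (by rw [hF]; exact ho))

/-- **Lie type of rank at least 2 over a field of odd order `q > 3`.** -/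
theorem rankOne_of_rk {X : Type u} [Group X] {q : ℕ} (hq : OddPow q) (h3 : q ≠ 3) (h : Rk X q) : RankOne X :=
  rankOne_of_long (hasLong_of_rk hq h) (by have := hq.ne_four h3; omega)

end Cfsg.Agent.AschComp

end

-- merged: Cfsg.Agent.AschComp.Model
section

/-!
# S1308: rows from a model of the centralizer (helper61)

* `rankOne_of_model` : `C(z) ≃* X` and a normal quasisimple subgroup `N` of `X` with `m₂(C_X(N)) ≤ 1`;
* `rankOne_of_prod` : `C(z) ≃* A × B`, `B` simple nonabelian, `m₂(A) ≤ 1`;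
* `rankOne_of_quasisimple` : `C(z)` quasisimple;
* `GoodCent.of_equiv`, `prankLE_of_card_two`.
-/

set_option autoImplicit false

namespace Cfsg.Agent.AschComp

open Subgroup Cfsg
open scoped commutatorElement
open Cfsg.Agent.CTwoTab (subMap isComponentOf_map map_centralizer_singleton)

universe u v w

theorem prankLE_of_injective {A : Type u} {B : Type v} [Group A] [Group B] (f : A →* B) (hf : Function.Injective f)
    {p k : ℕ} (h : PRankLE p k B) : PRankLE p k A := by
  intro E hE hE2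
  have h4 := h (E.map f) ?_ ?_
  · rwa [Nat.card_congr (E.equivMapOfInjective _ hf).symm.toEquiv] at h4
  · refine ⟨⟨?_⟩⟩
    rintro ⟨_, x, hx, rfl⟩ ⟨_, y, hy, rfl⟩
    apply Subtype.ext
    change f x * f y = f y * f x
    rw [← map_mul, ← map_mul]
    congr 1
    exact congrArg Subtype.val (hE.is_comm.comm ⟨x, hx⟩ ⟨y, hy⟩)
  · rintro _ ⟨x, hx, rfl⟩
    rw [← map_pow, hE2 x hx, map_one]

/-- a group of order at most 3 has 2-rank at most 1 -/
theorem prankLE_of_card {A : Type u} [Group A] [Finite A] (h : Nat.card A < 4) : PRankLE 2 1 A := by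
  have : Fact (Nat.Prime 2) := ⟨Nat.prime_two⟩
  intro E _ hE2
  have h1 : Nat.card ↥E ≤ Nat.card A := Subgroup.card_le_card_group E
  have h2 : IsPGroup 2 ↥E := fun x => ⟨1, Subtype.ext (by simpa using hE2 x x.2)⟩
  obtain ⟨k, hk⟩ := IsPGroup.iff_card.1 h2
  rw [hk] at h1 ⊢
  have : k < 2 := by
    by_contra hk2
    have h3 : 2 ^ 2 ≤ 2 ^ k := Nat.pow_le_pow_right (by norm_num) (by omega)
    omega
  exact Nat.pow_le_pow_right (by norm_num) (by omega)

/-- a group whose order is not divisible by 4 has 2-rank at most 1 -/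
theorem prankLE_of_not_four_dvd {A : Type u} [Group A] [Finite A] (h : ¬ 4 ∣ Nat.card A) : PRankLE 2 1 A := by
  have : Fact (Nat.Prime 2) := ⟨Nat.prime_two⟩
  intro E _ hE2
  have h1 : Nat.card ↥E ∣ Nat.card A := Subgroup.card_subgroup_dvd_card E
  have h2 : IsPGroup 2 ↥E := fun x => ⟨1, Subtype.ext (by simpa using hE2 x x.2)⟩
  obtain ⟨k, hk⟩ := IsPGroup.iff_card.1 h2
  rw [hk] at h1 ⊢
  have : k < 2 := by
    by_contra hk2
    exact h ((pow_dvd_pow 2 (show 2 ≤ k by omega)).trans h1)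
  exact Nat.pow_le_pow_right (by norm_num) (by omega)

/-- the centralizer of `N` in `C`, as a subgroup of `C` and of `G` -/
theorem centralizer_map_subtype {G : Type*} [Group G] (C : Subgroup G) (N : Subgroup ↥C) :
    (centralizer (N : Set ↥C)).map C.subtype = C ⊓ centralizer ((N.map C.subtype : Subgroup G) : Set G) := by
  ext x
  constructor
  · rintro ⟨y, hy, rfl⟩
    refine ⟨y.2, ?_⟩
    change (y : G) ∈ centralizer _
    rw [mem_centralizer_iff]
    rintro _ ⟨n, hn, rfl⟩
    exact congrArg Subtype.val (mem_centralizer_iff.1 hy n hn)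
  · rintro ⟨h1, h2⟩
    refine ⟨⟨x, h1⟩, ?_, rfl⟩
    rw [SetLike.mem_coe, mem_centralizer_iff]
    intro n hn
    exact Subtype.ext (mem_centralizer_iff.1 h2 n ⟨n, hn, rfl⟩)

/-- **From a model of the centralizer.** -/
theorem rankOne_of_model {G : Type u} {X : Type v} [Group G] [Group X] {z : G} (hz : orderOf z = 2)
    (e : ↥(centralizer ({z} : Set G)) ≃* X) (N : Subgroup X) (hN : N.IsSubnormal) (hq : IsQuasisimple ↥N)
    (h : PRankLE 2 1 ↥N ∨ PRankLE 2 1 ↥(centralizer (N : Set X))) : RankOne G := by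
  let C := centralizer ({z} : Set G)
  let M : Subgroup ↥C := N.map e.symm.toMonoidHom
  have hM : IsComponent M := SignalizersComponents.Components.isComponent_map_equiv e.symm ⟨hN, hq⟩
  have hK : IsComponentOf (M.map C.subtype) C := by
    refine ⟨map_subtype_le _, ?_⟩
    have h1 : (M.map C.subtype).subgroupOf C = M := by
      ext x
      simp [mem_subgroupOf]
    rw [h1]
    exact hM
  refine ⟨z, M.map C.subtype, hz, hK, ?_⟩
  rcases h with h | h
  · left
    have h1 : ↥(M.map C.subtype) ≃* ↥N :=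
      (M.equivMapOfInjective C.subtype C.subtype_injective).symm.trans (subMap e.symm N).symm
    exact CpQuot.Congr.prankLE_of h1.symm h
  · right
    have h1 : (centralizer (N : Set X)).map e.symm.toMonoidHom = centralizer (M : Set ↥C) :=
      map_centralizer_equiv e.symm N
    have h2 := centralizer_map_subtype C M
    rw [← h2, ← h1]
    exact CpQuot.Congr.prankLE_of
      ((subMap e.symm (centralizer (N : Set X))).trans (Subgroup.equivMapOfInjective _ C.subtype C.subtype_injective)) h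

/-- `C(z) ≃* A × B`, `B` simple nonabelian, `m₂(A) ≤ 1` -/
theorem rankOne_of_prod {G : Type u} {A : Type v} {B : Type w} [Group G] [Group A] [Group B] {z : G}
    (hz : orderOf z = 2) (e : ↥(centralizer ({z} : Set G)) ≃* A × B) (hB : IsSimpleGroup B)
    (hna : ¬ IsMulCommutative B) (hA : PRankLE 2 1 A) : RankOne G := by
  have hcen : center B = ⊥ := by
    have h1 : (center B).Normal := inferInstance
    rcases h1.eq_bot_or_eq_top with h | h
    · exact h
    · exact absurd ⟨⟨fun a b => (mem_center_iff.1 (h ▸ mem_top b : b ∈ center B) a)⟩⟩ hna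
  have hperf : Group.IsPerfect B := by
    rw [Group.isPerfect_def]
    have h1 : (_root_.commutator B).Normal := inferInstance
    rcases h1.eq_bot_or_eq_top with h | h
    · exfalso
      apply hna
      refine ⟨⟨fun a b => ?_⟩⟩
      have h2 : ⁅a, b⁆ ∈ _root_.commutator B := commutator_mem_commutator (mem_top a) (mem_top b)
      rw [h, mem_bot, commutatorElement_eq_one_iff_mul_comm] at h2
      exact h2
    · exact h
  have hBq : IsQuasisimple B :=
    ⟨hperf, (MulEquiv.isSimpleGroup_congr ((QuotientGroup.quotientMulEquivOfEq hcen).trans QuotientGroup.quotientBot)).2 hB⟩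
  let N : Subgroup (A × B) := (⊥ : Subgroup A).prod ⊤
  have eN : B ≃* ↥N :=
    { toFun := fun b => ⟨(1, b), mem_prod.2 ⟨mem_bot.2 rfl, mem_top b⟩⟩
      invFun := fun x => x.1.2
      left_inv := fun _ => rfl
      right_inv := fun x => Subtype.ext (Prod.ext (mem_bot.1 (mem_prod.1 x.2).1).symm rfl)
      map_mul' := fun a b => Subtype.ext (Prod.ext (mul_one (1 : A)).symm rfl) }
  have hNn : N.Normal := by
    change ((⊥ : Subgroup A).prod ⊤).Normal
    infer_instance
  refine rankOne_of_model hz e N hNn.isSubnormal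
    (SignalizersComponents.Components.isQuasisimple_of_mulEquiv eN hBq) (Or.inr ?_)
  let f : ↥(centralizer (N : Set (A × B))) →* A := (MonoidHom.fst A B).comp (Subgroup.subtype _)
  refine prankLE_of_injective f ?_ hA
  intro x y hxy
  have key : ∀ x : ↥(centralizer (N : Set (A × B))), x.1.2 = 1 := by
    intro x
    have h1 : x.1.2 ∈ center B := by
      rw [mem_center_iff]
      intro b
      have h2 := mem_centralizer_iff.1 x.2 (1, b) (mem_prod.2 ⟨mem_bot.2 rfl, mem_top b⟩)
      exact congrArg Prod.snd h2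
    rwa [hcen, mem_bot] at h1
  apply Subtype.ext
  exact Prod.ext hxy ((key x).trans (key y).symm)

/-- `C(z)` quasisimple -/
theorem rankOne_of_quasisimple {G : Type u} [Group G] {z : G} (hz : orderOf z = 2)
    (hq : IsQuasisimple ↥(centralizer ({z} : Set G))) (h : PRankLE 2 1 ↥(center ↥(centralizer ({z} : Set G)))) :
    RankOne G := by
  have hq' : IsQuasisimple ↥(⊤ : Subgroup ↥(centralizer ({z} : Set G))) :=
    SignalizersComponents.Components.isQuasisimple_of_mulEquiv Subgroup.topEquiv.symm hq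
  refine rankOne_of_model hz (MulEquiv.refl _) ⊤ Subgroup.IsSubnormal.top hq' (Or.inr ?_)
  rw [Subgroup.coe_top, Subgroup.centralizer_univ]
  exact h

/-- `C(z)` quasisimple with centre of order less than 4 -/
theorem rankOne_of_quasisimple_card {G : Type u} [Group G] [Finite G] {z : G} (hz : orderOf z = 2)
    (hq : IsQuasisimple ↥(centralizer ({z} : Set G)))
    (h : Nat.card ↥(center ↥(centralizer ({z} : Set G))) < 4) : RankOne G :=
  rankOne_of_quasisimple hz hq (prankLE_of_card h)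

/-- A normal quasisimple subgroup `N` of `C(z)` with `|C(z) ∩ C(N)|` not divisible by 4. -/
theorem rankOne_of_normal {G : Type u} [Group G] [Finite G] {z : G} {N : Subgroup G} (hz : orderOf z = 2)
    (hle : N ≤ centralizer ({z} : Set G)) (hn : ∀ g ∈ centralizer ({z} : Set G), ∀ x ∈ N, g * x * g⁻¹ ∈ N)
    (hq : IsQuasisimple ↥N)
    (h : ¬ 4 ∣ Nat.card ↥(centralizer ({z} : Set G) ⊓ centralizer (N : Set G))) : RankOne G := by
  refine ⟨z, N, hz, ⟨hle, ?_, ?_⟩, Or.inr (prankLE_of_not_four_dvd h)⟩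
  · have : (N.subgroupOf (centralizer ({z} : Set G))).Normal := by
      refine ⟨fun x hx g => ?_⟩
      rw [mem_subgroupOf] at hx ⊢
      exact hn g g.2 x hx
    exact this.isSubnormal
  · exact SignalizersComponents.Components.isQuasisimple_of_mulEquiv (subgroupOfEquivOfLe hle).symm hq

/-- A normal quasisimple subgroup `N` of `C(z)` with `|C(z)|` not divisible by `4 |N / Z(N)|`. -/
theorem rankOne_of_normal_card {G : Type u} [Group G] [Finite G] {z : G} {N : Subgroup G} (hz : orderOf z = 2)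
    (hle : N ≤ centralizer ({z} : Set G)) (hn : ∀ g ∈ centralizer ({z} : Set G), ∀ x ∈ N, g * x * g⁻¹ ∈ N)
    (hq : IsQuasisimple ↥N)
    (h : ¬ 4 * Nat.card (↥N ⧸ center ↥N) ∣ Nat.card ↥(centralizer ({z} : Set G))) : RankOne G := by
  refine rankOne_of_normal hz hle hn hq fun h4 => h ?_
  exact (Nat.mul_dvd_mul_right h4 _).trans (card_cent_mul hle)

/-! ### `GoodCent` -/

theorem GoodCent.of_equiv {A : Type u} {B : Type v} [Group A] [Group B] (e : A ≃* B) (h : GoodCent A) :
    GoodCent B := by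
  rcases h with h | ⟨h1, h2⟩
  · exact Or.inl (CpQuot.Congr.prankLE_of e h)
  · refine Or.inr ⟨Group.isSolvable_of_isSolvable_injective (f := e.symm.toMonoidHom) e.symm.injective, fun S => ?_⟩
    have hinj : Function.Injective e.toMonoidHom := e.injective
    have hr : (S : Subgroup B) ≤ e.toMonoidHom.range := by
      rw [MonoidHom.range_eq_top.2 e.surjective]
      exact le_top
    let T : Sylow 2 A := S.comapOfInjective e.toMonoidHom hinj hr
    have hT : (T : Subgroup A) = (S : Subgroup B).comap e.toMonoidHom := Sylow.coe_comapOfInjective ..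
    have e' : ↥(S : Subgroup B) ≃* ↥(T : Subgroup A) :=
      (MulEquiv.subgroupCongr ((Subgroup.map_comap_eq_self_of_surjective e.surjective _).symm.trans
        (by rw [hT]))).trans (subMap e (T : Subgroup A)).symm
    rcases h2 T with h3 | ⟨n, ⟨f⟩⟩
    · left
      obtain ⟨h4, h5⟩ := h3
      refine ⟨⟨⟨fun x y => ?_⟩⟩, ?_⟩
      · apply e'.injective
        rw [map_mul, map_mul]
        exact h4.is_comm.comm _ _
      · intro a ha
        have h6 := h5 (e.symm a) (by
          rw [hT, mem_comap]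
          have h7 : e.toMonoidHom (e.symm a) = a := e.apply_symm_apply a
          rw [h7]
          exact ha)
        apply e.symm.injective
        rw [map_pow, h6, map_one]
    · exact Or.inr ⟨n, ⟨e'.trans f⟩⟩

end Cfsg.Agent.AschComp

end

-- merged: Cfsg.Agent.AschComp.Ree
section

/-!
# S1308: the Ree groups (`C(z) ≅ 2 × L₂(q)`) and the groups `L₂(q)` (no component) (helper61)
-/

set_option autoImplicit false

namespace Cfsg.Agent.AschComp

open Subgroup Cfsg

/-- the quotient of a quasisimple group by its centre is not commutative -/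
theorem quo_not_comm {K : Type*} [Group K] (h : IsQuasisimple K) : ¬ IsMulCommutative (K ⧸ center K) := by
  intro hc
  obtain ⟨⟨h1⟩, h2⟩ := h
  have hle : _root_.commutator K ≤ center K := by
    rw [commutator_def, commutator_le]
    intro a _ b _
    rw [← QuotientGroup.eq_one_iff]
    have h3 := hc.is_comm.comm (a : K ⧸ center K) (b : K ⧸ center K)
    change (a : K ⧸ center K) * b * (a : K ⧸ center K)⁻¹ * (b : K ⧸ center K)⁻¹ = 1
    rw [h3]
    group
  have htop : center K = ⊤ := by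
    rw [eq_top_iff]
    exact h1.ge.trans hle
  obtain ⟨x, y, hxy⟩ := h2.toNontrivial
  induction x using QuotientGroup.induction_on with
  | H x =>
    induction y using QuotientGroup.induction_on with
    | H y =>
      apply hxy
      rw [QuotientGroup.eq, htop]
      trivial

/-- **The row `ree`.** -/
theorem rankOne_ree {X : Type*} [Group X] (h : Lie.IsoRee X) : RankOne X := by
  obtain ⟨F, _, _, m, hm, hF, ⟨e⟩⟩ := h
  refine RankOne.of_equiv e.symm ?_
  have hchar := Cfsg.Agent.S1157.charP_three hF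
  obtain ⟨a, haH, ha1, ha2⟩ := Cfsg.Agent.S1157.exists_involution hF
  obtain ⟨⟨f⟩, -⟩ := Cfsg.Agent.S1152.result hF a haH ha1 ha2
  have ha : orderOf a = 2 := orderOf_eq_prime (by rw [pow_two, ha2]) ha1
  have hq : 4 ≤ Nat.card F := by
    rw [Nat.card_eq_fintype_card, hF]
    calc 4 ≤ 3 ^ (2 * 1 + 1) := by norm_num
      _ ≤ 3 ^ (2 * m + 1) := Nat.pow_le_pow_right (by norm_num) (by omega)
  have hs : IsSimpleGroup (Matrix.ProjectiveSpecialLinearGroup (Fin 2) F) :=
    (SignalizersComponents.SLQuasisimple.isQuasisimple_two hq).2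
  refine rankOne_of_prod ha f hs ?_ (prankLE_of_card ?_)
  · exact quo_not_comm (SignalizersComponents.SLQuasisimple.isQuasisimple_two hq)
  · rw [Nat.card_congr (Multiplicative.toAdd), Nat.card_zmod]
    norm_num

/-- **The row `psl2`.** -/
theorem noComp_psl2 (F : Type) [Field F] [Fintype F] (_ : Odd (Fintype.card F)) (z : Matrix.ProjectiveSpecialLinearGroup (Fin 2) F)
    (K : Subgroup (Matrix.ProjectiveSpecialLinearGroup (Fin 2) F)) (hz : orderOf z = 2) :
    ¬ IsComponentOf K (centralizer ({z} : Set (Matrix.ProjectiveSpecialLinearGroup (Fin 2) F))) :=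
  OddTab.LTwo.not_isComponentOf (MulEquiv.refl _) (by
    rintro rfl
    rw [orderOf_one] at hz
    omega)

end Cfsg.Agent.AschComp

end

-- merged: Cfsg.Agent.AschComp.AltSeven
section

/-!
# S1308: no component in the centralizers of involutions of `A₇` (helper61)
-/

set_option autoImplicit false

namespace Cfsg.Agent.AschComp

open Subgroup Cfsg Cfsg.Agent.GenType

/-- **The row `alt7`.** -/
theorem noComp_alt7 : NoComp ↥(alternatingGroup (Fin 7)) := by
  intro x K hx hK
  obtain ⟨⟨j, hj⟩, hpos⟩ := card_moved x hx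
  have hsp := card_split x
  rw [Fintype.card_fin] at hsp
  have h8 : Fintype.card (Mv x) ≤ 8 := by omega
  have hq := solvable_quot x hx h8
  have h4 : Fintype.card (Fx x) ≤ 4 := by omega
  have hA := solvable_alt_four h4
  have hN : Group.IsSolvable ↥(rho x).ker :=
    Group.isSolvable_of_surjective (f := (kerEquiv x).toMonoidHom) (kerEquiv x).surjective
  have hC : Group.IsSolvable ↥(centralizer ({x} : Set (alternatingGroup (Fin 7)))) :=
    Group.isSolvable_of_ker_le_range (rho x).ker.subtype (QuotientGroup.mk' (rho x).ker)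
      (by rw [QuotientGroup.ker_mk', Subgroup.range_subtype])
  exact no_comp_of_solvable hC _ hK.2

end Cfsg.Agent.AschComp

end

-- merged: Cfsg.Agent.AschComp.Main
section

/-!
# S1308 from the rows (helper61)

`Rows3`: the rows which are not proved in `LieBig`, `Ree`, `Alt`, `AltSeven`. `concl_of_list`: the conclusion of S1308
from the conclusion of S1765.
-/

set_option autoImplicit false

namespace Cfsg.Agent.AschComp

open Subgroup Cfsg Cfsg.Agent.OddHalf.LieOddFam

universe u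

/-- The conclusion of S1765. -/
def List1765 (G : Type u) [Group G] : Prop :=
    ((∃ p : ℕ, p.Prime ∧ p ≠ 2 ∧ Cfsg.IsLieTypeChar p G) ∧
        ¬ (∃ (F : Type) (_ : Field F) (_ : Fintype F), ((Fintype.card F).Prime ∧ ((∃ k : ℕ, Fintype.card F + 1 = 2 ^ k) ∨ (∃ k : ℕ, Fintype.card F = 2 ^ k + 1)) ∨ Fintype.card F = 9) ∧
          Nonempty (G ≃* Matrix.ProjectiveSpecialLinearGroup (Fin 2) F)) ∧
        ¬ (∃ (F : Type) (_ : Field F) (_ : Fintype F), Fintype.card F = 3 ∧
          (Nonempty (G ≃* Matrix.ProjectiveSpecialLinearGroup (Fin 3) F) ∨ Nonempty (G ≃* Cfsg.PSp 2 F) ∨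
            Nonempty (G ≃* ↥(Cfsg.Lie.chevG2.group F)))) ∧
        ¬ (∃ (F : Type) (_ : Field F) (_ : Fintype F), Fintype.card F = 9 ∧ (Nonempty (G ≃* Cfsg.PSU 3 F 3) ∨ Nonempty (G ≃* Cfsg.PSU 4 F 3)))) ∨
      (∃ n : ℕ, (n = 7 ∨ 9 ≤ n) ∧ Nonempty (G ≃* ↥(alternatingGroup (Fin n)))) ∨
      Cfsg.Spor.IsoM12 G ∨ Cfsg.Spor.IsoJ1 G ∨ Cfsg.Spor.IsoJ2 G ∨ Cfsg.Spor.IsoMcL G ∨ Cfsg.Spor.IsoLy G ∨ Cfsg.Spor.IsoHS G ∨ Cfsg.Spor.IsoHe G ∨ Cfsg.Spor.IsoON G ∨ Cfsg.Spor.IsoSuz G ∨ Cfsg.Spor.IsoRu G ∨ Cfsg.Spor.IsoCo3 G ∨ Cfsg.Spor.IsoCo1 G ∨ Cfsg.Spor.IsoFi22 G ∨ Cfsg.Spor.IsoFi23 G ∨ Cfsg.Spor.IsoFi24' G ∨ Cfsg.Spor.IsoHN G ∨ Cfsg.Spor.IsoB G ∨ Cfsg.Spor.IsoM G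

/-- The rows over the field with three elements. -/
structure RowsThree : Prop where
  psl3 : ∀ (F : Type) [Field F] [Fintype F] (n : ℕ), Fintype.card F = 3 → 4 ≤ n →
    RankOne (Matrix.ProjectiveSpecialLinearGroup (Fin n) F)
  psu3 : ∀ (F : Type) [Field F] [Fintype F] (n : ℕ), Fintype.card F = 9 → 5 ≤ n → RankOne (PSU n F 3)
  psp3 : ∀ (F : Type) [Field F] [Fintype F] (m : ℕ), Fintype.card F = 3 → 3 ≤ m → RankOne (PSp m F)
  odd3 : ∀ (F : Type) [Field F] [Fintype F] (m : ℕ), Fintype.card F = 3 → 3 ≤ m →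
    RankOne (POmega F (quadFormOdd m F))
  plus3 : ∀ (F : Type) [Field F] [Fintype F] (m : ℕ), Fintype.card F = 3 → 4 ≤ m →
    RankOne (POmega F (quadFormPlus m F))
  minus3 : ∀ (F : Type) [Field F] [Fintype F] (m : ℕ) (b c : F), Fintype.card F = 3 → 4 ≤ m →
    (∀ z₁ z₂ : F, z₁ ^ 2 + b * z₁ * z₂ + c * z₂ ^ 2 = 0 → z₁ = 0 ∧ z₂ = 0) →
    RankOne (POmega F (quadFormMinus (m - 1) F b c))
  f4 : ∀ (F : Type) [Field F] [Fintype F], Fintype.card F = 3 → RankOne ↥(Lie.chevF4.group F)
  e6 : ∀ (F : Type) [Field F] [Fintype F], Fintype.card F = 3 → RankOne ↥(Lie.chevE6.group F)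
  e7 : ∀ (F : Type) [Field F] [Fintype F], Fintype.card F = 3 → RankOne ↥(Lie.chevE7.group F)
  e8 : ∀ (F : Type) [Field F] [Fintype F], Fintype.card F = 3 → RankOne ↥(Lie.chevE8.group F)
  e6t : ∀ (F : Type) [Field F] [Fintype F], Fintype.card F = 3 ^ 2 → RankOne ↥(Lie.twistedE6 F 3)
  d4t : ∀ (F : Type) [Field F] [Fintype F], Fintype.card F = 3 ^ 3 → RankOne ↥(Lie.twistedD4 F 3)

/-- The sporadic rows. -/
structure RowsSpor : Prop where
  m12 : RankOne ↥Spor.M12
  j1 : RankOne ↥Spor.J1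
  j2 : GoodRow Spor.J2
  mcl : RankOne ↥Spor.McL
  ly : RankOne Spor.Ly
  hs : RankOne ↥Spor.HS
  he : GoodRow Spor.He
  on : RankOne Spor.ON
  suz : GoodRow Spor.Suz
  ru : GoodRow Spor.Ru
  co3 : RankOne ↥Spor.Co3
  co1 : GoodRow Spor.Co1
  fi22 : RankOne Spor.Fi22
  fi23 : RankOne Spor.Fi23
  fi24 : RankOne Spor.Fi24'
  hn : RankOne Spor.HN
  b : RankOne Spor.BabyMonster
  m : RankOne Spor.Monster

/-- The families of Lie type in odd characteristic (alternating groups allowed). -/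
theorem lieOdd_cases' {X : Type u} [Group X] (h : ∃ p : ℕ, p.Prime ∧ p ≠ 2 ∧ IsLieTypeChar p X) :
    (∃ (F : Type) (_ : Field F) (_ : Fintype F), Nonempty (X ≃* Matrix.ProjectiveSpecialLinearGroup (Fin 2) F)) ∨
      Lie.IsoRee X ∨ ∃ q : ℕ, OddPow q ∧ Rk X q := by
  obtain ⟨p, hp, h2, h⟩ := h
  have key : (∃ q : ℕ, OddPow q ∧ Rk X q) →
      (∃ (F : Type) (_ : Field F) (_ : Fintype F), Nonempty (X ≃* Matrix.ProjectiveSpecialLinearGroup (Fin 2) F)) ∨
      Lie.IsoRee X ∨ ∃ q : ℕ, OddPow q ∧ Rk X q := fun h => Or.inr (Or.inr h)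
  rcases h with h | h | h | h | h | h | h | h | ⟨h', -⟩ | ⟨h', -⟩ | ⟨-, h⟩
  · -- linear groups
    obtain ⟨F, _, _, _, n, h1, h3, ⟨e⟩⟩ := h
    have hq := oddPow_card (F := F) hp h2
    by_cases hn : n = 2
    · subst hn
      exact Or.inl ⟨F, inferInstance, inferInstance, ⟨e⟩⟩
    · exact key ⟨_, hq, Or.inl ⟨F, _, _, n, rfl, by omega, ⟨e⟩⟩⟩
  · -- symplectic groups
    obtain ⟨F, _, _, _, m, h1, -, ⟨e⟩⟩ := h
    exact key ⟨_, oddPow_card (F := F) hp h2, Or.inr (Or.inl ⟨F, _, _, m, rfl, h1, ⟨e⟩⟩)⟩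
  · -- unitary groups
    obtain ⟨F, _, _, _, n, q, h1, h3, -, ⟨e⟩⟩ := h
    obtain ⟨a, ha, hF⟩ := card_pow (F := F) p
    have hq := oddPow_root hp h2 two_ne_zero ha (h1.symm.trans hF)
    exact key ⟨q, hq, Or.inr (Or.inr (Or.inl ⟨F, _, _, n, h1, h3, ⟨e⟩⟩))⟩
  · -- odd orthogonal groups
    obtain ⟨F, _, _, _, m, h1, -, ⟨e⟩⟩ := h
    exact key ⟨_, oddPow_card (F := F) hp h2, Or.inr (Or.inr (Or.inr (Or.inl ⟨F, _, _, m, rfl, h1, ⟨e⟩⟩)))⟩
  · -- `Ω⁺`
    obtain ⟨F, _, _, _, m, h1, ⟨e⟩⟩ := h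
    exact key ⟨_, oddPow_card (F := F) hp h2,
      Or.inr (Or.inr (Or.inr (Or.inr (Or.inl ⟨F, _, _, m, rfl, h1, ⟨e⟩⟩))))⟩
  · -- `Ω⁻`
    obtain ⟨F, _, _, _, m, b, c, h1, h3, ⟨e⟩⟩ := h
    exact key ⟨_, oddPow_card (F := F) hp h2,
      Or.inr (Or.inr (Or.inr (Or.inr (Or.inr (Or.inl ⟨F, _, _, m, b, c, rfl, h1, h3, ⟨e⟩⟩)))))⟩
  · -- untwisted exceptional groups
    obtain ⟨F, _, _, _, h⟩ := h
    refine key ⟨_, oddPow_card (F := F) hp h2, Or.inr (Or.inr (Or.inr (Or.inr (Or.inr (Or.inr ?_)))))⟩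
    rcases h with ⟨-, ⟨e⟩⟩ | ⟨⟨e⟩⟩ | ⟨⟨e⟩⟩ | ⟨⟨e⟩⟩ | ⟨⟨e⟩⟩
    · exact Or.inl ⟨F, _, _, rfl, ⟨e⟩⟩
    · exact Or.inr (Or.inl ⟨F, _, _, rfl, ⟨e⟩⟩)
    · exact Or.inr (Or.inr (Or.inl ⟨F, _, _, rfl, ⟨e⟩⟩))
    · exact Or.inr (Or.inr (Or.inr (Or.inl ⟨F, _, _, rfl, ⟨e⟩⟩)))
    · exact Or.inr (Or.inr (Or.inr (Or.inr (Or.inl ⟨F, _, _, rfl, ⟨e⟩⟩))))
  · -- twisted `E_6`, `D_4`
    obtain ⟨F, _, _, _, q, -, h⟩ := h
    obtain ⟨a, ha, hF⟩ := card_pow (F := F) p
    rcases h with ⟨h1, ⟨e⟩⟩ | ⟨h1, ⟨e⟩⟩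
    · exact key ⟨q, oddPow_root hp h2 two_ne_zero ha (h1.symm.trans hF),
        Or.inr (Or.inr (Or.inr (Or.inr (Or.inr (Or.inr (Or.inr (Or.inr (Or.inr (Or.inr (Or.inr
          (Or.inl ⟨F, _, _, h1, ⟨e⟩⟩)))))))))))⟩
    · exact key ⟨q, oddPow_root hp h2 three_ne_zero ha (h1.symm.trans hF),
        Or.inr (Or.inr (Or.inr (Or.inr (Or.inr (Or.inr (Or.inr (Or.inr (Or.inr (Or.inr (Or.inr
          (Or.inr ⟨F, _, _, h1, ⟨e⟩⟩)))))))))))⟩
  · exact absurd h' h2
  · exact absurd h' h2
  · exact Or.inr (Or.inl h)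

/-- Lie type over the field with three elements -/
theorem rankOne_three (R : RowsThree) {G : Type u} [Group G] (h : Rk G 3)
    (h3 : ¬ (∃ (F : Type) (_ : Field F) (_ : Fintype F), Fintype.card F = 3 ∧
          (Nonempty (G ≃* Matrix.ProjectiveSpecialLinearGroup (Fin 3) F) ∨ Nonempty (G ≃* Cfsg.PSp 2 F) ∨
            Nonempty (G ≃* ↥(Cfsg.Lie.chevG2.group F)))))
    (h9 : ¬ (∃ (F : Type) (_ : Field F) (_ : Fintype F), Fintype.card F = 9 ∧ (Nonempty (G ≃* Cfsg.PSU 3 F 3) ∨ Nonempty (G ≃* Cfsg.PSU 4 F 3)))) :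
    RankOne G := by
  rcases h with h | h | h | h | h | h | h | h | h | h | h | h | h
  · obtain ⟨F, i1, i2, n, hF, hn, ⟨e⟩⟩ := h
    rcases Nat.lt_or_ge n 4 with h4 | h4
    · obtain rfl : n = 3 := by omega
      exact absurd ⟨F, i1, i2, hF, Or.inl ⟨e⟩⟩ h3
    · exact (R.psl3 F n hF h4).of_equiv e.symm
  · obtain ⟨F, i1, i2, m, hF, hm, ⟨e⟩⟩ := h
    rcases Nat.lt_or_ge m 3 with h4 | h4
    · obtain rfl : m = 2 := by omega
      exact absurd ⟨F, i1, i2, hF, Or.inr (Or.inl ⟨e⟩)⟩ h3
    · exact (R.psp3 F m hF h4).of_equiv e.symm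
  · obtain ⟨F, i1, i2, n, hF, hn, ⟨e⟩⟩ := h
    rcases Nat.lt_or_ge n 5 with h4 | h4
    · have : n = 3 ∨ n = 4 := by omega
      rcases this with rfl | rfl
      · exact absurd ⟨F, i1, i2, hF, Or.inl ⟨e⟩⟩ h9
      · exact absurd ⟨F, i1, i2, hF, Or.inr ⟨e⟩⟩ h9
    · exact (R.psu3 F n hF h4).of_equiv e.symm
  · obtain ⟨F, i1, i2, m, hF, hm, ⟨e⟩⟩ := h
    exact (R.odd3 F m hF hm).of_equiv e.symm
  · obtain ⟨F, i1, i2, m, hF, hm, ⟨e⟩⟩ := h
    exact (R.plus3 F m hF hm).of_equiv e.symm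
  · obtain ⟨F, i1, i2, m, b, c, hF, hm, hbc, ⟨e⟩⟩ := h
    exact (R.minus3 F m b c hF hm hbc).of_equiv e.symm
  · obtain ⟨F, i1, i2, hF, ⟨e⟩⟩ := h
    exact absurd ⟨F, i1, i2, hF, Or.inr (Or.inr ⟨e⟩)⟩ h3
  · obtain ⟨F, i1, i2, hF, ⟨e⟩⟩ := h
    exact (R.f4 F hF).of_equiv e.symm
  · obtain ⟨F, i1, i2, hF, ⟨e⟩⟩ := h
    exact (R.e6 F hF).of_equiv e.symm
  · obtain ⟨F, i1, i2, hF, ⟨e⟩⟩ := h
    exact (R.e7 F hF).of_equiv e.symm
  · obtain ⟨F, i1, i2, hF, ⟨e⟩⟩ := h
    exact (R.e8 F hF).of_equiv e.symm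
  · obtain ⟨F, i1, i2, hF, ⟨e⟩⟩ := h
    exact (R.e6t F hF).of_equiv e.symm
  · obtain ⟨F, i1, i2, hF, ⟨e⟩⟩ := h
    exact (R.d4t F hF).of_equiv e.symm

/-- an isomorphic copy of a group with `GoodRow` -/
theorem GoodRow.of_equiv {X : Type u} {Y : Type*} [Group X] [Group Y] (e : X ≃* Y) (h : GoodRow X) : GoodRow Y := by
  intro z K hz hK hr
  have h1 := CTwoTab.isComponentOf_map e.symm hK
  rw [CTwoTab.map_centralizer_singleton] at h1
  have h2 := h (e.symm z) (K.map e.symm.toMonoidHom) (by rw [MulEquiv.orderOf_eq, hz]) h1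
    (fun h3 => hr (CpQuot.Congr.prankLE_of (CTwoTab.subMap e.symm K).symm h3))
  have h3 : (centralizer ({z} : Set Y) ⊓ centralizer (K : Set Y)).map e.symm.toMonoidHom =
      centralizer ({e.symm z} : Set X) ⊓ centralizer ((K.map e.symm.toMonoidHom : Subgroup X) : Set X) := by
    rw [Subgroup.map_inf _ _ _ e.symm.injective, CTwoTab.map_centralizer_singleton, map_centralizer_equiv]
  rw [← h3] at h2
  exact h2.of_equiv (CTwoTab.subMap e.symm _).symm

/-- **S1308 from the list of S1765 and the rows.** -/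
theorem concl_of_list (R : RowsThree) (S : RowsSpor) {G : Type u} [Group G] [Finite G] (hl : List1765 G)
    (hc : ∃ (z : G) (K : Subgroup G), orderOf z = 2 ∧ IsComponentOf K (centralizer ({z} : Set G)))
    (hs : StdEx G) : Concl G := by
  obtain ⟨z, K, hz, hK⟩ := hc
  rcases hl with ⟨h1, -, h3, h9⟩ | ⟨n, hn, ⟨e⟩⟩ | h | h | h | h | h | h | h | h | h | h | h | h | h | h | h | h | h | h
  · rcases lieOdd_cases' h1 with ⟨F, i1, i2, ⟨e⟩⟩ | h | ⟨q, hq, h⟩
    · exact absurd hK (OddTab.LTwo.not_isComponentOf e (by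
        rintro rfl
        rw [orderOf_one] at hz
        omega))
    · exact concl_of_rankOne (rankOne_ree h)
    · by_cases hq3 : q = 3
      · subst hq3
        exact concl_of_rankOne (rankOne_three R h h3 h9)
      · exact concl_of_rankOne (rankOne_of_rk hq hq3 h)
  · rcases hn with rfl | hn
    · exfalso
      have h1 := CTwoTab.isComponentOf_map e hK
      rw [CTwoTab.map_centralizer_singleton] at h1
      exact noComp_alt7 (e z) _ (by rw [MulEquiv.orderOf_eq, hz]) h1
    · have h1 := Alt.concl' (n := n) hn e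
      exact h1
  · obtain ⟨e⟩ := h
    exact concl_of_rankOne (S.m12.of_equiv e.symm)
  · obtain ⟨e⟩ := h
    exact concl_of_rankOne (S.j1.of_equiv e.symm)
  · obtain ⟨e⟩ := h
    exact concl_of_goodRow (S.j2.of_equiv e.symm) hs
  · obtain ⟨e⟩ := h
    exact concl_of_rankOne (S.mcl.of_equiv e.symm)
  · obtain ⟨e⟩ := h
    exact concl_of_rankOne (S.ly.of_equiv e.symm)
  · obtain ⟨e⟩ := h
    exact concl_of_rankOne (S.hs.of_equiv e.symm)
  · obtain ⟨e⟩ := h
    exact concl_of_goodRow (S.he.of_equiv e.symm) hs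
  · obtain ⟨e⟩ := h
    exact concl_of_rankOne (S.on.of_equiv e.symm)
  · obtain ⟨e⟩ := h
    exact concl_of_goodRow (S.suz.of_equiv e.symm) hs
  · obtain ⟨e⟩ := h
    exact concl_of_goodRow (S.ru.of_equiv e.symm) hs
  · obtain ⟨e⟩ := h
    exact concl_of_rankOne (S.co3.of_equiv e.symm)
  · obtain ⟨e⟩ := h
    exact concl_of_goodRow (S.co1.of_equiv e.symm) hs
  · obtain ⟨e⟩ := h
    exact concl_of_rankOne (S.fi22.of_equiv e.symm)
  · obtain ⟨e⟩ := h
    exact concl_of_rankOne (S.fi23.of_equiv e.symm)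
  · obtain ⟨e⟩ := h
    exact concl_of_rankOne (S.fi24.of_equiv e.symm)
  · obtain ⟨e⟩ := h
    exact concl_of_rankOne (S.hn.of_equiv e.symm)
  · obtain ⟨e⟩ := h
    exact concl_of_rankOne (S.b.of_equiv e.symm)
  · obtain ⟨e⟩ := h
    exact concl_of_rankOne (S.m.of_equiv e.symm)

/-- a component from a nontrivial layer -/
theorem exists_comp {G : Type u} [Group G] [Finite G] {t : G} (ht : orderOf t = 2)
    (hE : layer ↥(centralizer ({t} : Set G)) ≠ ⊥) :
    ∃ (z : G) (K : Subgroup G), orderOf z = 2 ∧ IsComponentOf K (centralizer ({z} : Set G)) := by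
  rw [Ne, SignalizersComponents.ComponentExists.layer_eq_bot_iff] at hE
  push Not at hE
  obtain ⟨K, hK⟩ := hE
  refine ⟨t, K.map (centralizer ({t} : Set G)).subtype, ht, map_subtype_le _, ?_⟩
  have h1 : (K.map (centralizer ({t} : Set G)).subtype).subgroupOf (centralizer ({t} : Set G)) = K := by
    ext x
    simp [mem_subgroupOf]
  rw [h1]
  exact hK

end Cfsg.Agent.AschComp

end

-- merged: Cfsg.Agent.AschComp.Std
section

/-!
# S1308: a standard component or a component of 2-rank 1 (helper61)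

From the existence of a terminal component (`OddHalf.D3.exists_terminal_component`) and S1796.
-/

set_option autoImplicit false

namespace Cfsg.Agent.AschComp

open Subgroup Cfsg Cfsg.Agent.OddHalf.D3

universe u

/-- **Some component is standard or has 2-rank at most 1.** -/
theorem stdEx_of {G : Type u} [Group G] [Finite G] (hFT : FT G) (hO : oddCore G = ⊥) (hB : HasBProperty G)
    (hc : ∃ (z : G) (K : Subgroup G), orderOf z = 2 ∧ IsComponentOf K (centralizer ({z} : Set G)))
    (h1796 : ∀ (x : G) (K : Subgroup G), IsTerminalPair 2 x K → PRankAtLeast 2 2 ↥K → IsStandardSubgroup K) :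
    StdEx G := by
  obtain ⟨z, K, hz, hK⟩ := hc
  obtain ⟨x, K, hx, hxK, hF, -⟩ := exists_terminal_component hFT (bl_of_B hFT hO hB) ⟨z, K, hz, ⟨hK.1, hK.2⟩⟩
  refine ⟨x, K, hx, ⟨hxK.le, hxK.comp⟩, ?_⟩
  by_cases hr : PRankLE 2 1 ↥K
  · exact Or.inl hr
  · right
    apply h1796 x K ⟨hx, ⟨hxK.le, hxK.comp⟩, hF.even, ?_⟩
    · unfold PRankLE at hr
      push Not at hr
      obtain ⟨A, h1, h2, h3⟩ := hr
      refine ⟨A, h1, h2, ?_⟩
      have hp : IsPGroup 2 ↥A := fun a => ⟨1, Subtype.ext (by simpa using h2 a a.2)⟩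
      have : Fact (Nat.Prime 2) := ⟨Nat.prime_two⟩
      obtain ⟨k, hk⟩ := IsPGroup.iff_card.1 hp
      rw [hk] at h3 ⊢
      exact Nat.pow_le_pow_right (by norm_num) ((Nat.pow_lt_pow_iff_right (by norm_num)).1 h3)
    · intro y hyK hy
      have := hF.term y hy hyK
      exact ⟨this.le, this.comp⟩

end Cfsg.Agent.AschComp

end

-- merged: Cfsg.Agent.AschComp.Final
section

/-!
# S1308 from its ingredients (helper61)
-/

set_option autoImplicit false

namespace Cfsg.Agent.AschComp

open Subgroup Cfsg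

universe u

/-- S1308 from the classification, the odd order theorem, S1765, S1796 and the rows. -/
theorem s1308_of (R : RowsThree) (S : RowsSpor)
    (h0 : ∀ (X : Type u) [Group X] [Finite X] [IsSimpleGroup X], IsKnownSimple' X)
    (hFT : ∀ (X : Type u) [Group X] [Finite X], Odd (Nat.card X) → Group.IsSolvable X)
    (h1765 : ∀ (X : Type u) [Group X] [Finite X] [IsSimpleGroup X], ¬ IsMulCommutative X → IsKProper X →
      ¬ IsCharacteristicTwoType X → List1765 X)
    (h1796 : ∀ (X : Type u) [Group X] [Finite X] [IsSimpleGroup X], ¬ IsMulCommutative X → IsKProper X →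
      ∀ (x : X) (K : Subgroup X), IsTerminalPair 2 x K → PRankAtLeast 2 2 ↥K → IsStandardSubgroup K)
    {G : Type u} [Group G] [Finite G] [IsSimpleGroup G] (hna : ¬ IsMulCommutative G) (hB : HasBProperty G) (t : G)
    (ht : orderOf t = 2) (hE : layer ↥(centralizer ({t} : Set G)) ≠ ⊥) : Concl G := by
  have hK : IsKProper G := by
    intro H _ L N _ hs _
    have := hs
    exact h0 _
  have hc := exists_comp ht hE
  have h2 : ¬ IsCharacteristicTwoType G := by
    obtain ⟨z, K, hz, hK⟩ := hc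
    exact fun h => ResEven.Base.noComp_of_charTwo h hz K hK
  have hO : oddCore G = ⊥ := by
    have hn : (oddCore G).Normal := by
      unfold oddCore
      infer_instance
    rcases hn.eq_bot_or_eq_top with h | h
    · exact h
    · exfalso
      have h1 : Nat.Coprime 2 (Nat.card ↥(oddCore G)) := by
        unfold oddCore
        exact (Cfsg.Agent.Lib.Cores.pPrimeCore_coprime (G := G) 2).symm
      rw [h, Subgroup.card_top] at h1
      have h2 : orderOf t ∣ Nat.card G := orderOf_dvd_natCard t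
      rw [ht] at h2
      have h3 := Nat.dvd_gcd (dvd_refl 2) h2
      rw [h1] at h3
      norm_num at h3
  exact concl_of_list R S (h1765 G hna hK h2) hc
    (stdEx_of (fun H hH => hFT ↥H hH) hO hB hc (h1796 G hna hK))

end Cfsg.Agent.AschComp

end

-- merged: Cfsg.Agent.AschComp.Psl3
section

/-!
# S1308: `PSL_n(3)`, `n ≥ 5` (helper35)

`z = diag(-1, …, -1, 1)` (`n` odd) or `diag(-1, …, -1, 1, 1)` (`n` even), `K = SL_{n-1}(3)`, `SL_{n-2}(3)`: the
involutions of `C(K)` are equal to `z`.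
-/

set_option autoImplicit false

namespace Cfsg.Agent.AschComp.PslThree

open Matrix Subgroup Cfsg
open Cfsg.Agent.OddTab Cfsg.Agent.OddTab.BlockSL

universe u

/-- at most one involution -/
theorem prankLE_one {G : Type*} [Group G] {H : Subgroup G} {z : G} (h : ∀ x ∈ H, x * x = 1 → x = 1 ∨ x = z) :
    PRankLE 2 1 ↥H := by
  intro A _ hp
  have h1 : Nat.card A ≤ Nat.card Bool := by
    classical
    refine Nat.card_le_card_of_injective (fun a : A => decide (a.1.1 = 1)) fun a b h' => ?_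
    have key : ∀ a : A, a.1.1 = 1 ∨ a.1.1 = z := by
      intro a
      refine h _ a.1.2 ?_
      have := hp a.1 a.2
      rw [pow_two] at this
      exact congrArg Subtype.val this
    have h'' : (a.1.1 = 1) ↔ (b.1.1 = 1) := decide_eq_decide.1 h'
    apply Subtype.ext
    apply Subtype.ext
    rcases key a with h1 | h1
    · rw [h1, h''.1 h1]
    · rcases key b with h2 | h2
      · rw [h2, h''.2 h2]
      · rw [h1, h2]
  simpa using h1

/-- a component of `C(x)` with `x` the only involution commuting with it -/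
theorem rankOne_of_cover {X G H : Type*} [Group X] [Group G] [Group H] {π : X →* G} {φ : H →* X} {x : X}
    (hc : Cover π φ x) (hi : Function.Injective (π.comp φ)) (hq : IsQuasisimple H) (hx : orderOf (π x) = 2)
    (h : ∀ g : X, (∀ h : H, π (g * φ h) = π (φ h * g)) → π (g * g) = 1 → π g = 1 ∨ π g = π x) : RankOne G := by
  refine ⟨π x, (π.comp φ).range, hx, hc.isComponentOf
    (SignalizersComponents.Components.isQuasisimple_of_mulEquiv (rangeEquiv hi) hq), Or.inr ?_⟩
  refine prankLE_one (z := π x) fun y hy hyy => ?_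
  obtain ⟨g, rfl⟩ := hc.surj y
  refine h g (fun k => ?_) (by rw [map_mul]; exact hyy)
  have h1 := mem_centralizer_iff.1 (mem_inf.1 hy).2 (π (φ k)) ⟨k, rfl⟩
  rw [map_mul, map_mul]
  exact h1.symm

/-- a transvection -/
def trv {F ι : Type} [Field F] [Fintype ι] [DecidableEq ι] (i j : ι) (hij : i ≠ j) : Matrix.SpecialLinearGroup ι F :=
  ⟨transvection i j 1, det_transvection_of_ne i j hij 1⟩

section three

variable {F : Type} [Field F] [Fintype F] (hF : Fintype.card F = 3)

include hF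

theorem pow_three (r : F) : r ^ 3 = r := by
  have := FiniteField.pow_card r
  rwa [hF] at this

theorem three_eq_zero : (3 : F) = 0 := by
  have := Nat.cast_card_eq_zero F
  rw [hF] at this
  exact_mod_cast this

theorem sq_of_ne {s : F} (hs : s ≠ 0) : s * s = 1 := by
  have h := pow_three hF s
  have h1 : s * (s * s) = s * 1 := by
    rw [mul_one]
    nth_rewrite 4 [← h]
    ring
  exact mul_left_cancel₀ hs h1

variable {ι κ : Type} [Fintype ι] [DecidableEq ι] [Fintype κ] [DecidableEq κ]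

/-- a matrix commuting with a transvection up to a scalar commutes with it -/
theorem comm_single {n : Type} [Fintype n] [DecidableEq n] [Nonempty n] {M : Matrix n n F} (hM : M.det = 1) {i j : n}
    (hij : i ≠ j) {r : F} (h : M * transvection i j 1 = r • (transvection i j 1 * M)) :
    M * single i j 1 = single i j 1 * M := by
  have h3 : transvection i j (1 : F) * (transvection i j (1 : F) * transvection i j (1 : F)) = 1 := by
    rw [transvection_mul_transvection_same _ _ hij, transvection_mul_transvection_same _ _ hij]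
    have : (1 : F) + (1 + 1) = 0 := by
      rw [← three_eq_zero hF]
      norm_num
    rw [this, transvection_zero]
  have h4 : M * (transvection i j (1 : F) * (transvection i j (1 : F) * transvection i j (1 : F))) =
      (r * (r * r)) • (transvection i j (1 : F) * (transvection i j (1 : F) * transvection i j (1 : F)) * M) := by
    rw [← Matrix.mul_assoc, h, smul_mul_assoc, Matrix.mul_assoc, ← Matrix.mul_assoc M, h, smul_mul_assoc,
      Matrix.mul_smul, Matrix.mul_assoc _ M, h, Matrix.mul_smul, Matrix.mul_smul, smul_smul, smul_smul]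
    simp only [Matrix.mul_assoc]
    ring_nf
  rw [h3, Matrix.mul_one, Matrix.one_mul] at h4
  have hr : r * (r * r) = 1 := by
    have h5 : (1 - r * (r * r)) • M = 0 := by
      rw [sub_smul, one_smul, ← h4, sub_self]
    rcases smul_eq_zero.1 h5 with h6 | h6
    · exact (sub_eq_zero.1 h6).symm
    · rw [h6, det_zero] at hM
      exact absurd hM zero_ne_one
  have hr1 : r = 1 := by
    rw [← hr]
    have := pow_three hF r
    nth_rewrite 1 [← this]
    ring
  rw [hr1, one_smul, transvection, Matrix.mul_add, Matrix.add_mul, Matrix.mul_one, Matrix.one_mul] at h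
  exact add_left_cancel h

variable {G : Type u} [Group G] {π : Matrix.SpecialLinearGroup (ι ⊕ κ) F →* G}
  (hk : π.ker = center (Matrix.SpecialLinearGroup (ι ⊕ κ) F))

include hk

/-- the elements commuting with the block `SL(ι)` -/
theorem cent_block [Nontrivial ι] {g : Matrix.SpecialLinearGroup (ι ⊕ κ) F}
    (h : ∀ a : Matrix.SpecialLinearGroup ι F, π (g * blk a) = π (blk a * g)) :
    ∃ (s : F) (d : Matrix κ κ F), g.1 = fromBlocks (s • 1) 0 0 d := by
  obtain ⟨A, B, C, D, hg⟩ : ∃ A B C D, g.1 = fromBlocks A B C D := ⟨_, _, _, _, (fromBlocks_toBlocks g.1).symm⟩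
  have key : ∀ i j : ι, i ≠ j → A * single i j 1 = single i j 1 * A ∧ (0 : Matrix ι κ F) = single i j (1 : F) * B ∧
      C * single i j (1 : F) = 0 := by
    intro i j hij
    have h1 := h (trv i j hij)
    obtain ⟨r, -, hr⟩ := (eq_iff hk _ _).1 h1
    have h2 : (blk (κ := κ) (trv (F := F) i j hij)).1 = transvection (Sum.inl i : ι ⊕ κ) (Sum.inl j) (1 : F) := by
      rw [coe_blk]
      change fromBlocks (transvection i j (1 : F)) 0 0 1 = _
      ext p q
      rcases p with p | p <;> rcases q with q | q <;>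
        simp [transvection, Matrix.one_apply, Matrix.single_apply]
    rw [Matrix.SpecialLinearGroup.coe_mul, Matrix.SpecialLinearGroup.coe_mul, h2] at hr
    have hne : Nonempty (ι ⊕ κ) := ⟨Sum.inl i⟩
    have h3 := comm_single hF g.2 (fun h => hij (Sum.inl_injective h)) hr
    have h4 : (single (Sum.inl i : ι ⊕ κ) (Sum.inl j : ι ⊕ κ) (1 : F)) =
        fromBlocks (single i j (1 : F)) (0 : Matrix ι κ F) 0 0 := by
      ext p q
      rcases p with p | p <;> rcases q with q | q <;>
        simp [Matrix.single_apply]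
    rw [hg, h4, fromBlocks_multiply, fromBlocks_multiply, fromBlocks_inj] at h3
    simp only [Matrix.mul_zero, add_zero, Matrix.zero_mul] at h3
    exact ⟨h3.1, h3.2.1, h3.2.2.1⟩
  have hB : B = 0 := by
    ext j k
    obtain ⟨i, hi⟩ := exists_ne j
    have h1 := congrFun (congrFun (key i j hi).2.1 i) k
    rw [Matrix.single_mul_apply_same, one_mul] at h1
    exact h1.symm
  have hC : C = 0 := by
    ext k i
    obtain ⟨j, hj⟩ := exists_ne i
    have h1 := congrFun (congrFun (key i j hj.symm).2.2 k) j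
    rw [Matrix.mul_single_apply_same, mul_one] at h1
    exact h1
  obtain ⟨s, hs⟩ := mem_range_scalar_of_commute_single (M := A) (fun i j hij => (key i j hij).1.symm)
  refine ⟨s, D, ?_⟩
  rw [hg, hB, hC, ← hs]
  congr 1
  rw [scalar_apply, smul_one_eq_diagonal]

end three

/-- `d² = 1`, `det d = 1` imply `d = ± 1` in dimension at most 2 -/
theorem scalar_of_sq {F : Type} [Field F] (h2 : (2 : F) ≠ 0) {k : ℕ} (hk : k = 1 ∨ k = 2) {d : Matrix (Fin k) (Fin k) F}
    (hd : d.det = 1) (h : d * d = 1) : d = (1 : F) • 1 ∨ d = (-1 : F) • 1 := by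
  rcases hk with rfl | rfl
  · left
    rw [det_fin_one] at hd
    ext i j
    fin_cases i
    fin_cases j
    simpa using hd
  · rw [det_fin_two] at hd
    have e0 := congrFun (congrFun h 0) 0
    have e1 := congrFun (congrFun h 0) 1
    have e2 := congrFun (congrFun h 1) 0
    have e3 := congrFun (congrFun h 1) 1
    simp only [Matrix.mul_apply, Fin.sum_univ_two] at e0 e1 e2 e3
    rw [one_apply_eq] at e0 e3
    rw [one_apply_ne (by decide)] at e1 e2
    have ht : d 0 0 + d 1 1 ≠ 0 := by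
      intro ht
      apply h2
      have : d 1 1 = -d 0 0 := by linear_combination ht
      rw [this] at hd
      linear_combination -hd - e0
    have q1 : d 0 1 = 0 := by
      have : (d 0 0 + d 1 1) * d 0 1 = 0 := by linear_combination e1
      exact (mul_eq_zero.1 this).resolve_left ht
    have q2 : d 1 0 = 0 := by
      have : (d 0 0 + d 1 1) * d 1 0 = 0 := by linear_combination e2
      exact (mul_eq_zero.1 this).resolve_left ht
    rw [q1, zero_mul, add_zero] at e0
    rw [q1, zero_mul, sub_zero] at hd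
    rcases mul_self_eq_one_iff.1 e0 with h3 | h3
    · left
      rw [h3, one_mul] at hd
      ext i j
      fin_cases i <;> fin_cases j <;> simp [h3, hd, q1, q2]
    · right
      rw [h3, neg_one_mul] at hd
      have hd' : d 1 1 = -1 := by linear_combination -hd
      ext i j
      fin_cases i <;> fin_cases j <;> simp [h3, hd', q1, q2]

/-- **`PSL_n(3)`, `n ≥ 5`.** -/
theorem big {F : Type} [Field F] [Fintype F] (hF : Fintype.card F = 3) {n : ℕ} (hn : 5 ≤ n) :
    RankOne (Matrix.ProjectiveSpecialLinearGroup (Fin n) F) := by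
  obtain ⟨a, k, rfl, ha, hk1, ha4⟩ : ∃ a k, n = a + k ∧ Even a ∧ (k = 1 ∨ k = 2) ∧ 4 ≤ a := by
    rcases Nat.even_or_odd n with h | h
    · refine ⟨n - 2, 2, by omega, ?_, Or.inr rfl, ?_⟩
      · exact (Nat.even_sub (by omega)).2 (by simp [h])
      · obtain ⟨c, hc⟩ := h
        omega
    · refine ⟨n - 1, 1, by omega, ?_, Or.inl rfl, by omega⟩
      exact Nat.Odd.sub_odd h odd_one
  have hodd : Odd (Fintype.card F) := by rw [hF]; decide
  have h2' := neg_one_ne_one_of_odd hodd
  have h2 := SignalizersComponents.SLQuasisimple.two_ne_zero_of_odd hodd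
  have : Nonempty (Fin k) := ⟨⟨0, by omega⟩⟩
  have : Nonempty (Fin a) := ⟨⟨0, by omega⟩⟩
  have : Nontrivial (Fin a) := Fin.nontrivial_iff_two_le.2 (by omega)
  obtain ⟨π, hs, hk⟩ := exists_pi (F := F) (finSumFinEquiv (m := a) (n := k))
    (MulEquiv.refl (Matrix.ProjectiveSpecialLinearGroup (Fin (a + k)) F))
  let x : Matrix.SpecialLinearGroup (Fin a ⊕ Fin k) F :=
    ⟨fromBlocks ((-1 : F) • 1) 0 0 ((1 : F) • 1), by
      rw [det_fromBlocks_zero₂₁, det_smul, det_smul, det_one, det_one, Fintype.card_fin, ha.neg_one_pow]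
      simp⟩
  have hx : x.1 = fromBlocks ((-1 : F) • (1 : Matrix (Fin a) (Fin a) F)) 0 0 ((1 : F) • (1 : Matrix (Fin k) (Fin k) F)) :=
    rfl
  have hm : (-1 : F) ≠ 0 := neg_ne_zero.2 one_ne_zero
  have hinj := blk_injective (ι := Fin a) (κ := Fin k) hk
  have hcov := cover hs hk hm one_ne_zero h2' hx
  have hord := orderOf_eq_two (ι := Fin a) (κ := Fin k) hk h2' hx (by norm_num)
  refine rankOne_of_cover hcov hinj
    (SignalizersComponents.SLQuasisimple.isQuasisimple_of_three_le (by rw [Fintype.card_fin]; omega)) hord ?_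
  intro g hg hgg
  obtain ⟨s, d, hgs⟩ := cent_block hF hk hg
  have hdet := g.2
  rw [hgs, det_fromBlocks_zero₂₁, det_smul, det_one, mul_one, Fintype.card_fin] at hdet
  have hs0 : s ≠ 0 := by
    rintro rfl
    rw [zero_pow (by omega), zero_mul] at hdet
    exact zero_ne_one hdet
  have hss := sq_of_ne hF hs0
  have hsa : ∀ s : F, s * s = 1 → s ^ a = 1 := by
    intro s hs'
    obtain ⟨c, hc⟩ := ha
    rw [hc, pow_add, ← mul_pow, hs', one_pow]
  rw [hsa s hss, one_mul] at hdet
  have hgg' : π (g * g) = π 1 := by rw [hgg, map_one]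
  obtain ⟨r, -, hr⟩ := (eq_iff hk _ _).1 hgg'
  rw [Matrix.SpecialLinearGroup.coe_mul, hgs, fromBlocks_multiply, Matrix.SpecialLinearGroup.coe_one, ← fromBlocks_one,
    fromBlocks_smul, fromBlocks_inj] at hr
  simp only [Matrix.mul_zero, Matrix.zero_mul, add_zero, zero_add, Matrix.mul_smul, Matrix.mul_one, smul_smul] at hr
  obtain ⟨h3, -, -, h4⟩ := hr
  have hr1 : r = 1 := by
    have h5 := congrFun (congrFun h3 ⟨0, by omega⟩) ⟨0, by omega⟩
    rw [Matrix.smul_apply, Matrix.smul_apply, one_apply_eq, smul_eq_mul, smul_eq_mul, mul_one, mul_one, hss] at h5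
    exact h5.symm
  rw [hr1, one_smul] at h4
  have key : ∀ e : F, e * e = 1 → e ^ Fintype.card (Fin a ⊕ Fin k) = 1 ∨ k = 1 := by
    intro e he
    rcases hk1 with rfl | rfl
    · exact Or.inr rfl
    · left
      rw [Fintype.card_sum, Fintype.card_fin, Fintype.card_fin, pow_add, hsa e he, one_mul, pow_two, he]
  have hdc := scalar_of_sq h2 hk1 hdet h4
  rcases hdc with hd | hd
  · rcases mul_self_eq_one_iff.1 hss with h5 | h5
    · left
      rw [← map_one π]
      refine (eq_iff hk _ _).2 ⟨1, one_pow _, ?_⟩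
      rw [hgs, hd, h5, one_smul, one_smul, one_smul, fromBlocks_one]
      rfl
    · right
      refine (eq_iff hk _ _).2 ⟨1, one_pow _, ?_⟩
      rw [hgs, hd, h5, hx, one_smul, one_smul]
  · have hk2 : (-1 : F) ^ Fintype.card (Fin a ⊕ Fin k) = 1 := by
      rcases key (-1) (by norm_num) with h6 | h6
      · exact h6
      · exfalso
        subst h6
        rw [hd, det_smul, det_one, Fintype.card_fin, pow_one, mul_one] at hdet
        exact h2' hdet
    rcases mul_self_eq_one_iff.1 hss with h5 | h5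
    · right
      refine (eq_iff hk _ _).2 ⟨-1, hk2, ?_⟩
      rw [hgs, hd, h5, hx, fromBlocks_smul, smul_smul, smul_smul, smul_zero, smul_zero]
      norm_num
    · left
      rw [← map_one π]
      refine (eq_iff hk _ _).2 ⟨-1, hk2, ?_⟩
      rw [hgs, hd, h5, Matrix.SpecialLinearGroup.coe_one, ← fromBlocks_one, fromBlocks_smul, smul_zero, smul_zero]

end Cfsg.Agent.AschComp.PslThree

end

-- merged: Cfsg.Agent.AschComp.Psl3Row
section

/-!
# S1308: the row `psl3` (helper35)
-/

set_option autoImplicit false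

namespace Cfsg.Agent.AschComp.PslThree

open Matrix Subgroup Cfsg Cfsg.Agent.GH.Cov.LieL4
open Cfsg.Agent.ResEven.LFour

/-- `PSL₄(3)` : `K = L₂(9)` -/
theorem four_base : RankOne L := by
  refine ⟨t, N, orderOf_t, OddTab.isComponentOf_of_normalized N_le quasi_N fun g hg n hn => N_conj hg hn, Or.inr ?_⟩
  refine prankLE_one (z := t) fun x hx hxx => ?_
  exact cent_N_sq (mem_inf.1 hx).2 hxx

/-- **The row `Rows.psl3`.** -/
theorem row (F : Type) [Field F] [Fintype F] (n : ℕ) (hF : Fintype.card F = 3) (hn : 4 ≤ n) :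
    RankOne (Matrix.ProjectiveSpecialLinearGroup (Fin n) F) := by
  rcases Nat.lt_or_ge n 5 with h | h
  · obtain rfl : n = 4 := by omega
    obtain ⟨f⟩ := LargeExtra.W2.LFour.PslFacts.psl_congr F hF
    exact RankOne.of_equiv ((pslEquiv (F := F3)).symm.trans f) four_base
  · exact big hF h

end Cfsg.Agent.AschComp.PslThree

end

-- merged: Cfsg.Agent.AschComp.Psp3
section

/-!
# S1308: the row `psp3`, `PSp_{2m}(3)`, `m ≥ 3` (helper35)

`z = -1 ⊕ 1`, `K = Sp_{2(m-1)}(3)`: the only involution of `C(K)` is `z`.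
-/

set_option autoImplicit false

namespace Cfsg.Agent.AschComp.PspThree

open Matrix Subgroup Cfsg
open Cfsg.Agent.OddTab Cfsg.Agent.OddTab.BlockSp
open Cfsg.Agent.OddHalf.NI.FrameSp (neg neg_coe center_cases)

universe u

/-- an element commuting modulo the centre with a perfect group commutes with it -/
theorem comm_of_perfect {X H : Type*} [Group X] [Group H] (hp : commutator H = ⊤) (φ : H →* X) {g : X}
    (h : ∀ a, g * φ a * g⁻¹ * (φ a)⁻¹ ∈ center X) (a : H) : g * φ a = φ a * g := by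
  let f : H →* center X :=
    { toFun := fun a => ⟨g * φ a * g⁻¹ * (φ a)⁻¹, h a⟩
      map_one' := Subtype.ext (by simp)
      map_mul' := fun a b => by
        apply Subtype.ext
        change g * φ (a * b) * g⁻¹ * (φ (a * b))⁻¹ = (g * φ a * g⁻¹ * (φ a)⁻¹) * (g * φ b * g⁻¹ * (φ b)⁻¹)
        have h1 := Subgroup.mem_center_iff.1 (h b) (φ a)⁻¹
        rw [mul_assoc (g * φ a * g⁻¹), h1, map_mul]
        group }
  have h1 : commutator H ≤ f.ker := by
    rw [_root_.commutator_def, commutator_le]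
    intro x _ y _
    rw [MonoidHom.mem_ker, map_commutatorElement, commutatorElement_eq_one_iff_mul_comm]
    exact Subtype.ext (Subgroup.mem_center_iff.1 (f y).2 (f x).1)
  rw [hp] at h1
  have h2 := congrArg Subtype.val (MonoidHom.mem_ker.1 (h1 (mem_top a)))
  change g * φ a * g⁻¹ * (φ a)⁻¹ = 1 at h2
  have h3 := mul_inv_eq_one.1 h2
  exact mul_inv_eq_iff_eq_mul.1 h3

section

variable {F : Type} [Field F] {k l : ℕ}

/-- the elements commuting with the block `Sp_{2k} ⊕ 1` -/
theorem cent_block (h2 : (2 : F) ≠ 0) {g : symplecticGroup (Fin (k + l)) F}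
    (h : ∀ a, g * emb k l F a = emb k l F a * g) :
    ∃ (A : symplecticGroup (Fin k) F) (D : symplecticGroup (Fin l) F), A ∈ center (symplecticGroup (Fin k) F) ∧
      (g : Matrix (Fin (k + l) ⊕ Fin (k + l)) (Fin (k + l) ⊕ Fin (k + l)) F).submatrix (sg k l) (sg k l) =
        fromBlocks A.1 0 0 D.1 := by
  set G := (g : Matrix (Fin (k + l) ⊕ Fin (k + l)) (Fin (k + l) ⊕ Fin (k + l)) F).submatrix (sg k l) (sg k l) with hG
  obtain ⟨A, B, C, D, hABCD⟩ : ∃ A B C D, G = fromBlocks A B C D :=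
    ⟨_, _, _, _, (fromBlocks_toBlocks G).symm⟩
  have h0 : ∀ a : symplecticGroup (Fin k) F, G * fromBlocks a.1 0 0 1 = fromBlocks a.1 0 0 1 * G := by
    intro a
    have := congrArg (fun X : symplecticGroup (Fin (k + l)) F =>
      (X : Matrix (Fin (k + l) ⊕ Fin (k + l)) (Fin (k + l) ⊕ Fin (k + l)) F).submatrix (sg k l) (sg k l)) (h a)
    simp only [Submonoid.coe_mul, BlockSp.sub_mul, emb_coe] at this
    exact this
  have h1 := h0 (neg k F)
  rw [neg_coe, hABCD, fromBlocks_multiply, fromBlocks_multiply] at h1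
  simp only [Matrix.mul_zero, Matrix.mul_one, Matrix.zero_mul, Matrix.one_mul, add_zero, zero_add, Matrix.mul_neg,
    Matrix.neg_mul] at h1
  rw [fromBlocks_inj] at h1
  obtain ⟨-, hB, hC, -⟩ := h1
  have hB0 : B = 0 := two_mul_eq_zero' h2 hB
  have hC0 : C = 0 := two_mul_eq_zero' h2 hC.symm
  subst hB0 hC0
  have hmem := (mem_iff' _).mp g.2
  rw [← hG, hABCD, fromBlocks_transpose, fromBlocks_multiply, fromBlocks_multiply] at hmem
  simp only [Matrix.mul_zero, Matrix.zero_mul, add_zero, zero_add, transpose_zero] at hmem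
  rw [fromBlocks_inj] at hmem
  have hA : A ∈ symplecticGroup (Fin k) F := SymplecticGroup.mem_iff.mpr hmem.1
  have hD : D ∈ symplecticGroup (Fin l) F := SymplecticGroup.mem_iff.mpr hmem.2.2.2
  refine ⟨⟨A, hA⟩, ⟨D, hD⟩, ?_, hABCD⟩
  rw [Subgroup.mem_center_iff]
  intro a
  have h3 := h0 a
  rw [hABCD, fromBlocks_multiply, fromBlocks_multiply] at h3
  simp only [Matrix.mul_zero, Matrix.zero_mul, add_zero, zero_add, Matrix.mul_one, Matrix.one_mul] at h3
  rw [fromBlocks_inj] at h3
  apply Subtype.ext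
  exact h3.1.symm

theorem neg_mul_coe {m : ℕ} (A : symplecticGroup (Fin m) F) : (neg m F * A).1 = -A.1 := by
  rw [Submonoid.coe_mul, neg_coe, neg_one_mul]

/-- an element of `Sp₂(F)` of order at most two is `± 1` -/
theorem sp_two_sq (h2 : (2 : F) ≠ 0) {D : symplecticGroup (Fin 1) F} (h : D.1 * D.1 = 1) :
    D.1 = 1 ∨ D.1 = -1 := by
  obtain ⟨M, hM⟩ : ∃ M : Matrix (Fin 1 ⊕ Fin 1) (Fin 1 ⊕ Fin 1) F, M = D.1 := ⟨_, rfl⟩
  have hmem := SymplecticGroup.mem_iff.1 D.2
  rw [← hM] at h hmem ⊢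
  obtain ⟨A, B, C, E, hABCD⟩ : ∃ A B C E, M = fromBlocks A B C E := ⟨_, _, _, _, (fromBlocks_toBlocks M).symm⟩
  rw [hABCD, J, fromBlocks_transpose, fromBlocks_multiply, fromBlocks_multiply, fromBlocks_inj] at hmem
  rw [hABCD, fromBlocks_multiply, ← fromBlocks_one, fromBlocks_inj] at h
  obtain ⟨e1, e2, e3, e4⟩ := h
  obtain ⟨-, f2, -, -⟩ := hmem
  have g1 := congrFun (congrFun e1 0) 0
  have g2 := congrFun (congrFun e2 0) 0
  have g3 := congrFun (congrFun e3 0) 0
  have g4 := congrFun (congrFun e4 0) 0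
  have g5 := congrFun (congrFun f2 0) 0
  simp [Matrix.mul_apply] at g1 g2 g3 g4 g5
  have ht : A 0 0 + E 0 0 ≠ 0 := by
    intro ht
    apply h2
    have h5 : E 0 0 = -A 0 0 := by linear_combination ht
    rw [h5] at g5
    linear_combination g5 - g1
  have q1 : B 0 0 = 0 := by
    have : (A 0 0 + E 0 0) * B 0 0 = 0 := by linear_combination g2
    exact (mul_eq_zero.1 this).resolve_left ht
  have q2 : C 0 0 = 0 := by
    have : (A 0 0 + E 0 0) * C 0 0 = 0 := by linear_combination g3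
    exact (mul_eq_zero.1 this).resolve_left ht
  rw [q1, zero_mul, add_zero] at g1
  rw [q1, zero_mul, zero_add] at g5
  have g5' : A 0 0 * E 0 0 = 1 := by linear_combination -g5
  have hB : B = 0 := by ext i j; rw [Subsingleton.elim i 0, Subsingleton.elim j 0, q1]; rfl
  have hC : C = 0 := by ext i j; rw [Subsingleton.elim i 0, Subsingleton.elim j 0, q2]; rfl
  rcases mul_self_eq_one_iff.1 g1 with h5 | h5
  · left
    rw [h5, one_mul] at g5'
    have hA : A = 1 := by ext i j; rw [Subsingleton.elim i 0, Subsingleton.elim j 0, h5]; rfl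
    have hE : E = 1 := by ext i j; rw [Subsingleton.elim i 0, Subsingleton.elim j 0, g5']; rfl
    rw [hABCD, hA, hB, hC, hE, fromBlocks_one]
  · right
    rw [h5, neg_one_mul] at g5'
    have g6 : E 0 0 = -1 := by linear_combination -g5'
    have hA : A = -1 := by ext i j; rw [Subsingleton.elim i 0, Subsingleton.elim j 0, h5]; rfl
    have hE : E = -1 := by ext i j; rw [Subsingleton.elim i 0, Subsingleton.elim j 0, g6]; rfl
    rw [hABCD, hA, hB, hC, hE, ← fromBlocks_one, fromBlocks_neg, neg_zero]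

end

/-- **The row `Rows.psp3`.** -/
theorem row (F : Type) [Field F] [Fintype F] (m : ℕ) (hF : Fintype.card F = 3) (hm : 3 ≤ m) : RankOne (PSp m F) := by
  obtain ⟨k, rfl⟩ : ∃ k, m = k + 1 := ⟨m - 1, by omega⟩
  have hodd : Odd (Fintype.card F) := by rw [hF]; decide
  have h2 := SignalizersComponents.SLQuasisimple.two_ne_zero_of_odd hodd
  have hqs : IsQuasisimple ↥(symplecticGroup (Fin k) F) := by
    refine ⟨⟨S0269.result k ?_⟩, S0270.result k (by omega) (fun _ => hF.ge)⟩
    rcases Nat.lt_or_ge k 3 with h | h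
    · exact Or.inr (Or.inl ⟨by omega, hF.ge⟩)
    · exact Or.inl h
  let π : symplecticGroup (Fin (k + 1)) F →* PSp (k + 1) F := QuotientGroup.mk' _
  have hs : Function.Surjective π := QuotientGroup.mk'_surjective _
  have hk : π.ker = center (symplecticGroup (Fin (k + 1)) F) := QuotientGroup.ker_mk' _
  have hinj := emb_injective (k := k) (l := 1) hk le_rfl
  have hcov := cover (k := k) (l := 1) hs hk h2 (by omega)
  have hx2 : π (emb k 1 F (neg k F)) ^ 2 = 1 := by rw [← map_pow, ← map_pow, BlockSp.neg_sq, map_one, map_one]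
  have hx1 : π (emb k 1 F (neg k F)) ≠ 1 := by
    intro h
    exact neg_ne_one (by omega) h2 ((injective_iff_map_eq_one _).1 hinj _ h)
  have : Fact (Nat.Prime 2) := ⟨Nat.prime_two⟩
  have hord : orderOf (π (emb k 1 F (neg k F))) = 2 := orderOf_eq_prime hx2 hx1
  refine PslThree.rankOne_of_cover hcov hinj hqs hord ?_
  intro g hg hgg
  have hc : ∀ a, g * emb k 1 F a = emb k 1 F a * g := by
    refine comm_of_perfect hqs.1.commutator_eq_top (emb k 1 F) fun a => ?_
    rw [← hk, MonoidHom.mem_ker, map_mul, map_mul, hg a, map_mul, map_inv, map_inv, mul_inv_cancel_right,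
      mul_inv_cancel]
  obtain ⟨A, D, hA, hgAD⟩ := cent_block h2 hc
  have hgg' : π (g * g) = π 1 := by rw [hgg, map_one]
  have hsubone : (1 : Matrix (Fin (k + 1) ⊕ Fin (k + 1)) (Fin (k + 1) ⊕ Fin (k + 1)) F).submatrix (sg k 1) (sg k 1) =
      fromBlocks 1 0 0 1 := by rw [submatrix_one_equiv, fromBlocks_one]
  have hsub : ∀ {X Y : symplecticGroup (Fin (k + 1)) F}, X.1.submatrix (sg k 1) (sg k 1) = Y.1.submatrix (sg k 1) (sg k 1) →
      X = Y := fun h => Subtype.ext (sub_inj h)
  have hAc := center_cases (by omega : 1 ≤ k) hA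
  have hAA : A.1 * A.1 = 1 := by
    rcases hAc with h | h
    · rw [h]; exact Matrix.one_mul 1
    · rw [h, neg_coe, neg_mul_neg, Matrix.one_mul]
  have hDD : D.1 * D.1 = 1 := by
    rcases pi_cases hk (by omega) hgg' with h | h
    · have h3 := congrArg (fun X : symplecticGroup (Fin (k + 1)) F => X.1.submatrix (sg k 1) (sg k 1)) h
      simp only [Submonoid.coe_mul, BlockSp.sub_mul] at h3
      rw [hgAD, fromBlocks_multiply, Submonoid.coe_one, hsubone, fromBlocks_inj] at h3
      have h4 := h3.2.2.2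
      rwa [Matrix.zero_mul, zero_add] at h4
    · exfalso
      rw [mul_one] at h
      have h3 := congrArg (fun X : symplecticGroup (Fin (k + 1)) F => X.1.submatrix (sg k 1) (sg k 1)) h
      simp only [Submonoid.coe_mul, BlockSp.sub_mul] at h3
      rw [hgAD, fromBlocks_multiply, neg_coe, submatrix_neg, Pi.neg_apply, Pi.neg_apply, hsubone, fromBlocks_neg,
        fromBlocks_inj] at h3
      have h4 := h3.1
      rw [Matrix.zero_mul, add_zero, hAA] at h4
      have h5 := congrFun (congrFun h4 (Sum.inl ⟨0, by omega⟩)) (Sum.inl ⟨0, by omega⟩)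
      rw [Matrix.neg_apply, one_apply_eq] at h5
      apply h2
      linear_combination h5
  have hne : ∀ X : symplecticGroup (Fin (k + 1)) F, π (neg (k + 1) F * X) = π X := by
    intro X
    rw [map_mul, pi_neg hk, one_mul]
  have hxs := emb_coe (l := 1) (neg k F)
  rw [neg_coe] at hxs
  rcases hAc with hA1 | hA1 <;> rcases sp_two_sq h2 hDD with hD1 | hD1
  · left
    rw [← map_one π]
    congr 1
    apply hsub
    rw [hgAD, hA1, hD1, Submonoid.coe_one, Submonoid.coe_one, hsubone]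
  · right
    rw [← hne g]
    congr 1
    apply hsub
    rw [neg_mul_coe, submatrix_neg, Pi.neg_apply, Pi.neg_apply, hgAD, hA1, hD1, hxs, fromBlocks_neg, Submonoid.coe_one,
      neg_neg, neg_zero, neg_zero]
  · right
    congr 1
    apply hsub
    rw [hgAD, hA1, hD1, hxs, neg_coe]
  · left
    rw [← hne g, ← map_one π]
    congr 1
    apply hsub
    rw [neg_mul_coe, submatrix_neg, Pi.neg_apply, Pi.neg_apply, hgAD, hA1, hD1, fromBlocks_neg, neg_coe,
      neg_neg, neg_neg, neg_zero, neg_zero, Submonoid.coe_one, hsubone]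

end Cfsg.Agent.AschComp.PspThree

end

-- merged: Cfsg.Agent.AschComp.Orth3
section

/-!
# S1308: the orthogonal groups over the field with three elements (helper17)

* `scalar_of_comm` : an isomorphism commuting with `E Q` is a scalar;
* `restrict_of_cent` : `g ∈ E Q` whose image centralizes `x` and the component `E Q'` acts as `±1` on `V'`;
* `rankOne_odd` : dimension odd, `z = -1` on a hyperplane (any odd field);
* `rankOne_even` : dimension even, `|F| = 3`, `z = -1` on an anisotropic plane.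
-/

set_option autoImplicit false

namespace Cfsg.Agent.AschComp.Orth3

open QuadraticMap Cfsg Subgroup
open Cfsg.Agent.LieClassical.OrthCore Cfsg.Agent.LieClassical.OrthTrans Cfsg.Agent.LieClassical.OrthSimple
open Cfsg.Agent.LieClassical.OrthForms Cfsg.Agent.LieClassical.OrthFinite
open Cfsg.Agent.TitsThree.KSideO

universe u

/-- a group in which all solutions of `a² = 1` are `1` and `x` has 2-rank at most one -/
theorem prankLE_one_of {G : Type*} [Group G] {H : Subgroup G} {x : G}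
    (h : ∀ a ∈ H, a * a = 1 → a = 1 ∨ a = x) : PRankLE 2 1 ↥H := by
  classical
  intro A hA hA2
  have hle : Nat.card ↥A ≤ Nat.card (Fin 2) := by
    refine Nat.card_le_card_of_injective (fun y : ↥A => if y = 1 then (0 : Fin 2) else 1) ?_
    intro y z hyz
    have key : ∀ w : ↥A, w ≠ 1 → ((w : ↥H) : G) = x := by
      intro w hw
      refine (h _ (w : ↥H).2 ?_).resolve_left fun h1 => hw (Subtype.ext (Subtype.ext h1))
      have h2 := hA2 w w.2
      rw [pow_two] at h2
      exact congrArg Subtype.val h2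
    by_cases hy : y = 1 <;> by_cases hz : z = 1
    · rw [hy, hz]
    · simp [hy, hz] at hyz
    · simp [hy, hz] at hyz
    · exact Subtype.ext (Subtype.ext ((key y hy).trans (key z hz).symm))
  rw [Nat.card_fin] at hle
  rwa [pow_one]

/-- commutators with the image of a perfect group are trivial if they are central -/
theorem comm_of_central {X H : Type*} [Group X] [Group H] (φ : H →* X) (hp : commutator H = ⊤) {g : X}
    (h : ∀ a, g * φ a * g⁻¹ * (φ a)⁻¹ ∈ center X) (a : H) : g * φ a = φ a * g := by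
  have hmul : ∀ a b : H, g * φ (a * b) * g⁻¹ * (φ (a * b))⁻¹ =
      g * φ a * g⁻¹ * (φ a)⁻¹ * (g * φ b * g⁻¹ * (φ b)⁻¹) := by
    intro a b
    have h1 := Subgroup.mem_center_iff.1 (h b) (φ a)⁻¹
    rw [mul_assoc (g * φ a * g⁻¹) (φ a)⁻¹, h1, map_mul]
    group
  have hone : g * φ 1 * g⁻¹ * (φ 1)⁻¹ = 1 := by rw [map_one]; group
  let ψ : H →* center X :=
    { toFun := fun a => (⟨g * φ a * g⁻¹ * (φ a)⁻¹, h a⟩ : center X)
      map_one' := Subtype.ext hone
      map_mul' := fun a b => Subtype.ext (hmul a b) }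
  have hle : commutator H ≤ ψ.ker := by
    rw [commutator_def, Subgroup.commutator_le]
    intro x _ y _
    rw [MonoidHom.mem_ker, map_commutatorElement, commutatorElement_eq_one_iff_mul_comm]
    exact Subtype.ext (Subgroup.mem_center_iff.1 (ψ y).2 _)
  have h1 : a ∈ ψ.ker := hle (by rw [hp]; trivial)
  have h2 : g * φ a * g⁻¹ * (φ a)⁻¹ = 1 := congrArg Subtype.val (MonoidHom.mem_ker.1 h1)
  have h3 := mul_inv_eq_one.1 h2
  rw [mul_inv_eq_iff_eq_mul] at h3
  exact h3

section Scalar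

variable {F V : Type*} [Field F] [AddCommGroup V] [Module F V] {Q : QuadraticForm F V}

/-- an isomorphism commuting with `E Q` is a scalar -/
theorem scalar_of_comm (hG : Good Q) {g : V ≃ₗ[F] V} (h : ∀ x ∈ E Q, g * x = x * g) :
    ∃ c : F, ∀ v, g v = c • v := by
  apply good_eq_smul_of_fix hG
  intro x hx
  by_cases hx0 : x = 0
  · exact ⟨0, by rw [hx0, map_zero, smul_zero]⟩
  obtain ⟨y, hy⟩ := Cfsg.Agent.LieClassical.OrthTrans.exists_hyp hG.nondeg hx hx0
  have heq : ∀ w, polar Q x w = 0 → polar Q x (g x) • w = (polar Q w (g x) + Q w * polar Q x (g x)) • x := by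
    intro w hw
    have h1 := congrArg (fun k : V ≃ₗ[F] V => k x) (h _ (siegel_mem_E hx hw))
    change g (siegel Q x w hx hw x) = siegel Q x w hx hw (g x) at h1
    have h2 : siegel Q x w hx hw x = x := by
      rw [siegel_apply, polar_self_of_sing hx, polar_comm Q w x, hw]; simp
    rw [h2, siegel_apply] at h1
    have h3 : polar Q x (g x) • w - (polar Q w (g x) + Q w * polar Q x (g x)) • x = 0 := by
      have h4 := congrArg (fun k => k - g x) h1
      simp only [sub_self] at h4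
      rw [h4]
      module
    exact sub_eq_zero.1 h3
  have h0 : polar Q x (g x) = 0 := by
    by_contra hne
    obtain ⟨w, hw0, hw, hxw, hyw⟩ := hG.perp x y hy
    have h1 := heq w hxw
    have h2 := congrArg (fun k => polar Q y k) h1
    simp only [polar_smul_right, hyw, hy.pair', smul_eq_mul, mul_zero, mul_one] at h2
    rw [← h2, zero_smul] at h1
    exact hw0 ((smul_eq_zero.1 h1).resolve_left hne)
  refine ⟨polar Q y (g x), ?_⟩
  have h1 : g x - polar Q y (g x) • x = 0 := by
    apply hG.nondeg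
    intro v
    have h3 : polar Q x (v - polar Q x v • y) = 0 := by
      rw [polar_sub_right, polar_smul_right, hy.pair, smul_eq_mul, mul_one, sub_self]
    have h4 := heq _ h3
    rw [h0, zero_smul, mul_zero, add_zero] at h4
    have h5 := (smul_eq_zero.1 h4.symm).resolve_right hx0
    rw [polar_sub_left, polar_smul_left, smul_eq_mul] at h5
    rw [polar_sub_left, polar_smul_left, smul_eq_mul, polar_comm Q (g x) v]
    linear_combination h5
  exact sub_eq_zero.1 h1

end Scalar

section Main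

variable {ι : Type} [Fintype ι] [DecidableEq ι] {F : Type} [Field F] [Fintype F] {Q : QuadraticForm F (ι → F)}
  {V' : Type} [AddCommGroup V'] [Module F V'] {Q' : QuadraticForm F V'} {G : Type u} [Group G]

omit [Fintype F] in
theorem proj_of_center (hG : Good Q) (f : G ≃* Cfsg.POmega F ⇑Q) {g : E Q} (h : g ∈ center (E Q)) :
    GenOrth.proj hG f g = 1 := by
  show f.symm (toPOmega hG g) = 1
  have h1 : toOmega hG g ∈ Subgroup.center (Cfsg.Omega F ⇑Q) := by
    rw [Subgroup.mem_center_iff] at h ⊢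
    intro k
    obtain ⟨k, rfl⟩ := (toOmega hG).surjective k
    rw [← map_mul, ← map_mul, h k]
  have h2 : toPOmega hG g = 1 := (QuotientGroup.eq_one_iff _).2 h1
  rw [h2, map_one]

omit [Fintype F] in
theorem proj_of_scalar (hG : Good Q) (f : G ≃* Cfsg.POmega F ⇑Q) {g : E Q} {c : F}
    (h : ∀ v, (g : (ι → F) ≃ₗ[F] (ι → F)) v = c • v) : GenOrth.proj hG f g = 1 := by
  apply proj_of_center
  rw [Subgroup.mem_center_iff]
  intro k
  apply Subtype.ext
  ext1 v
  show (k : (ι → F) ≃ₗ[F] (ι → F)) ((g : (ι → F) ≃ₗ[F] (ι → F)) v) = (g : (ι → F) ≃ₗ[F] (ι → F)) ((k : (ι → F) ≃ₗ[F] (ι → F)) v)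
  rw [h, h, map_smul]

omit [Fintype F] in
/-- An element of `E Q` whose image centralizes the involution and the component acts as a sign on `V'`. -/
theorem restrict_of_cent (hG : Good Q) (f : G ≃* Cfsg.POmega F ⇑Q) (h2 : (2 : F) ≠ 0) (hG' : Good Q')
    (e : GenOrth.Emb Q Q') {ε : F} (hε : ε * ε = 1) {t : E Q} (ht : e.IsInv ε t.1) {g : E Q}
    (hx : GenOrth.proj hG f g ∈ centralizer ({GenOrth.proj hG f t} : Set G))
    (hK : GenOrth.proj hG f g ∈ centralizer ((((GenOrth.proj hG f).comp e.extE).range : Subgroup G) : Set G)) :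
    ∃ s : F, (s = 1 ∨ s = -1) ∧ (∀ x, g.1 (e.j x) = e.j (s • x)) ∧ ∀ v, e.π (g.1 v) = s • e.π v := by
  have hp : commutator (E Q') = ⊤ := Subgroup.isPerfect_iff.mpr hG'.E_perfect |>.commutator_eq_top
  -- `g` commutes with the image of `E Q'`
  have h1 : ∀ a, g * e.extE a = e.extE a * g := by
    apply comm_of_central e.extE hp
    intro a
    apply GenOrth.center_of_proj hG f
    rw [map_mul, map_mul, map_mul, map_inv, map_inv]
    have h3 := mem_centralizer_iff.1 hK _ ⟨a, rfl⟩
    change GenOrth.proj hG f (e.extE a) * GenOrth.proj hG f g = GenOrth.proj hG f g * GenOrth.proj hG f (e.extE a) at h3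
    rw [← h3]
    group
  -- `g` commutes with `t` up to sign
  have h3 : GenOrth.proj hG f (g * t * (t * g)⁻¹) = 1 := by
    rw [map_mul (GenOrth.proj hG f) (g * t), map_inv, map_mul, map_mul, mem_centralizer_singleton_iff.1 hx,
      mul_inv_cancel]
  obtain ⟨c, hc, hcv⟩ := GenOrth.scalar_of_proj hG f h3
  have h4 : ∀ v, g.1 (t.1 v) = c • t.1 (g.1 v) := by
    intro v
    have h5 := hcv (t.1 (g.1 v))
    rw [← h5]
    show g.1 (t.1 v) = ((g * t * (t * g)⁻¹ : E Q) : (ι → F) ≃ₗ[F] (ι → F)) (((t * g : E Q) : (ι → F) ≃ₗ[F] (ι → F)) v)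
    have h6 : ((g * t * (t * g)⁻¹ : E Q) : (ι → F) ≃ₗ[F] (ι → F)) (((t * g : E Q) : (ι → F) ≃ₗ[F] (ι → F)) v) =
        (((g * t * (t * g)⁻¹ * (t * g) : E Q) : (ι → F) ≃ₗ[F] (ι → F))) v := rfl
    rw [h6, inv_mul_cancel_right]
    rfl
  have hcase : g.1 * t.1 = t.1 * g.1 := by
    rcases hc with rfl | rfl
    · ext1 v
      have := h4 v
      rw [one_smul] at this
      exact this
    · exfalso
      have h5 := ht.of_anti h2 hε (g := g.1) (fun v => by rw [h4 v, neg_one_smul])
      -- then the image of `E Q'` is commutative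
      have h6 : ∀ a b : E Q', a * b = b * a := by
        intro a b
        have h7 := GenOrth.Emb.comm_of_anti h5 a.1 b.1
        have h8 : g.1 * e.ext a.1 * g.1⁻¹ = e.ext a.1 := by
          have := congrArg Subtype.val (h1 a)
          change g.1 * e.ext a.1 = e.ext a.1 * g.1 at this
          rw [this, mul_inv_cancel_right]
        rw [h8, ← map_mul, ← map_mul] at h7
        exact Subtype.ext (e.ext_injective h7)
      have h7 : (⊤ : Subgroup (E Q')) = ⊥ := by
        rw [← hp, commutator_def, commutator_eq_bot_iff_le_centralizer]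
        intro a _
        rw [mem_centralizer_iff]
        intro b _
        exact h6 b a
      obtain ⟨a, ha, ha1⟩ := good_E_ne_bot hG'
      have h8 : (⟨a, ha⟩ : E Q') ∈ (⊥ : Subgroup (E Q')) := by rw [← h7]; trivial
      exact ha1 (congrArg Subtype.val (Subgroup.mem_bot.1 h8))
  obtain ⟨g', hg', k1, k2⟩ := GenOrth.Emb.exists_restrict (E_le_O g.2) (ht.of_comm h2 hε hcase)
  have k3 : ∀ a ∈ E Q', g' * a = a * g' := by
    intro a ha
    have h5 := congrArg Subtype.val (h1 ⟨a, ha⟩)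
    change g.1 * e.ext a = e.ext a * g.1 at h5
    have h6 := GenOrth.Emb.conj_ext k1 k2 a
    rw [h5, mul_inv_cancel_right] at h6
    have h7 := e.ext_injective h6
    rw [eq_comm, mul_inv_eq_iff_eq_mul] at h7
    exact h7
  obtain ⟨s, hs⟩ := scalar_of_comm hG' k3
  refine ⟨s, ?_, fun x => by rw [k1, hs], fun v => by rw [k2, hs]⟩
  obtain ⟨x, y, h⟩ := hG'.exists_hyp
  have h5 : Q' (x + y) = 1 := by rw [Q_add, h.left, h.right, h.pair]; ring
  have h6 := mem_O.1 hg' (x + y)
  rw [hs, QuadraticMap.map_smul, h5, smul_eq_mul, mul_one] at h6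
  exact mul_self_eq_one_iff.1 h6

omit [Fintype F] in
/-- `g ∈ {1, t}` up to sign if `g` acts as signs on `V'` and on its complement -/
theorem proj_eq_of (hG : Good Q) (f : G ≃* Cfsg.POmega F ⇑Q)
    (e : GenOrth.Emb Q Q') {ε : F} (hε : ε * ε = 1) {t : E Q} (ht : e.IsInv ε t.1) {g : E Q} {s r : F}
    (hs : s = 1 ∨ s = -1) (hr : r = 1 ∨ r = -1)
    (h1 : ∀ x, g.1 (e.j x) = e.j (s • x)) (h3 : ∀ v, e.π v = 0 → g.1 v = r • v) :
    GenOrth.proj hG f g = 1 ∨ GenOrth.proj hG f g = GenOrth.proj hG f t := by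
  have h4 : ∀ v, g.1 v = s • e.j (e.π v) + r • (v - e.j (e.π v)) := by
    intro v
    have h5 : g.1 v = g.1 (e.j (e.π v)) + g.1 (v - e.j (e.π v)) := by
      rw [← map_add, add_sub_cancel]
    rw [h5, h1, map_smul, h3 _ (by rw [map_sub, e.π_j, sub_self])]
  have hsr : r = s ∨ r = -s := by
    rcases hs with rfl | rfl <;> rcases hr with rfl | rfl <;> simp
  rcases hsr with rfl | rfl
  · left
    refine proj_of_scalar hG f (c := r) fun v => ?_
    rw [h4]
    module
  · right
    have h6 : GenOrth.proj hG f (g * t⁻¹) = 1 := by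
      refine proj_of_scalar hG f (c := s * ε) fun v => ?_
      obtain ⟨w, rfl⟩ := t.1.surjective v
      have h7 : ((g * t⁻¹ : E Q) : (ι → F) ≃ₗ[F] (ι → F)) (t.1 w) = g.1 w := by
        have h8 : ((g * t⁻¹ * t : E Q) : (ι → F) ≃ₗ[F] (ι → F)) w = g.1 w := by rw [inv_mul_cancel_right]
        exact h8
      rw [h7, h4, ht w, smul_smul, mul_assoc, hε]
      module
    rw [map_mul, map_inv] at h6
    exact mul_inv_eq_one.1 h6

omit [Fintype F] in
/-- the component and its centralizer -/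
theorem rankOne_of (hG : Good Q) (f : G ≃* Cfsg.POmega F ⇑Q) (h2 : (2 : F) ≠ 0) (hG' : Good Q')
    (e : GenOrth.Emb Q Q') {ε : F} (hε : ε * ε = 1) {t : E Q} (ht : e.IsInv ε t.1) {v₀ : ι → F}
    (hv₀ : v₀ ≠ 0) (hπ : e.π v₀ = 0)
    (hr : ∀ (g : E Q) (s : F), (s = 1 ∨ s = -1) → (∀ x, g.1 (e.j x) = e.j (s • x)) → (∀ v, e.π (g.1 v) = s • e.π v) →
      (∀ v, e.π v = 0 → g.1 (g.1 v) = v) → ∃ r : F, (r = 1 ∨ r = -1) ∧ ∀ v, e.π v = 0 → g.1 v = r • v) :
    RankOne G := by
  have hinj := GenOrth.proj_ext_injective hG f e hv₀ hπ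
  have iso : ↥(E Q') ≃* ↥((GenOrth.proj hG f).comp e.extE).range := MonoidHom.ofInjective hinj
  have hq := SignalizersComponents.Components.isQuasisimple_of_mulEquiv iso (GenOrth.isQuasisimple_E hG')
  have hK := (GenOrth.cover hG f h2 e hε ht).isComponentOf hq
  refine ⟨GenOrth.proj hG f t, ((GenOrth.proj hG f).comp e.extE).range,
    GenOrth.orderOf_proj hG f h2 hG' e hε ht hv₀ hπ, hK, Or.inr ?_⟩
  apply prankLE_one_of (x := GenOrth.proj hG f t)
  rintro a ⟨ha1, ha2⟩ haa
  obtain ⟨g, rfl⟩ := GenOrth.proj_surjective hG f a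
  obtain ⟨s, hs, k1, k2⟩ := restrict_of_cent hG f h2 hG' e hε ht ha1 ha2
  -- `g ^ 2 = 1`
  rw [← map_mul] at haa
  obtain ⟨c, -, hc⟩ := GenOrth.scalar_of_proj hG f haa
  have hss : s * s = 1 := by rcases hs with rfl | rfl <;> ring
  have hc1 : c = 1 := by
    obtain ⟨y, hy⟩ := GenOrth.exists_ne_zero hG'
    have h3 := hc (e.j y)
    change g.1 (g.1 (e.j y)) = c • e.j y at h3
    rw [k1, k1, smul_smul, hss, one_smul] at h3
    have h4 : (1 - c) • e.j y = 0 := by rw [sub_smul, one_smul, ← h3, sub_self]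
    have h5 : e.j y ≠ 0 := fun h0 => hy (e.j_injective (h0.trans (map_zero e.j).symm))
    exact (sub_eq_zero.1 ((smul_eq_zero.1 h4).resolve_right h5)).symm
  obtain ⟨r, hr1, hr2⟩ := hr g s hs k1 k2 (fun v _ => by
    have := hc v
    rw [hc1, one_smul] at this
    exact this)
  exact proj_eq_of hG f e hε ht hs hr1 k1 hr2

end Main

section Rows

open Cfsg.Agent.FooteOrth

theorem π_eq {F V V' : Type*} [Field F] [AddCommGroup V] [Module F V] [AddCommGroup V'] [Module F V']
    {Q : QuadraticForm F V} {Q' : QuadraticForm F V'} (e : GenOrth.Emb Q Q') {v : V} {x : V'}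
    (h : ∀ z, polar Q (e.j z) v = e.c * polar Q' z x) : e.π v = x := by
  have h1 : e.π v - x = 0 := by
    apply e.nd
    intro z
    have h3 := e.adj z v
    rw [h z] at h3
    have h4 := mul_left_cancel₀ e.hc h3
    rw [polar_sub_left, polar_comm Q' _ z, polar_comm Q' x z, h4, sub_self]
  exact sub_eq_zero.1 h1

variable {ι : Type} [Fintype ι] [DecidableEq ι] {F : Type} [Field F] [Fintype F] {Q : QuadraticForm F (ι → F)}
  {G : Type u} [Group G]

omit [Fintype F] [DecidableEq ι] in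
theorem det_neg_eq : LinearEquiv.det (LinearEquiv.neg F : (ι → F) ≃ₗ[F] (ι → F)) = (-1) ^ Fintype.card ι := by
  apply Units.ext
  rw [LinearEquiv.coe_det]
  have h : ((LinearEquiv.neg F : (ι → F) ≃ₗ[F] (ι → F)) : (ι → F) →ₗ[F] (ι → F)) = (-1 : F) • LinearMap.id := by
    refine LinearMap.ext fun v => ?_
    show -v = (-1 : F) • v
    rw [neg_one_smul]
  rw [h, LinearMap.det_smul, LinearMap.det_id, Module.finrank_fintype_fun_eq_card]
  simp

omit [Fintype F] [Fintype ι] [DecidableEq ι] in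
theorem neg_mem_O : (LinearEquiv.neg F : (ι → F) ≃ₗ[F] (ι → F)) ∈ O Q := by
  intro v
  show Q (-v) = Q v
  rw [QuadraticMap.map_neg]

/-- in odd dimension, some `-r_u` is in `E Q` -/
theorem exists_neg_refl (hG : Good Q) (h2 : (2 : F) ≠ 0) (hodd : Odd (Fintype.card ι)) :
    ∃ (u : ι → F) (hu : Q u ≠ 0), LinearEquiv.neg F * refl Q u hu ∈ E Q := by
  classical
  obtain ⟨x, y, h⟩ := hG.exists_hyp
  have hQ : ∀ c : F, Q (x + c • y) = c := by
    intro c
    rw [Q_add, QuadraticMap.map_smul, polar_smul_right, h.left, h.right, h.pair]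
    simp
  have hdet : ∀ (u : ι → F) (hu : Q u ≠ 0), LinearEquiv.det (LinearEquiv.neg F * refl Q u hu) = 1 := by
    intro u hu
    rw [map_mul, det_refl, det_neg_eq, hodd.neg_one_pow]
    simp
  have hO : ∀ (u : ι → F) (hu : Q u ≠ 0), LinearEquiv.neg F * refl Q u hu ∈ O Q := fun u hu =>
    mul_mem neg_mem_O (refl_mem_O hu)
  have hsg : ∀ (u : ι → F) (hu : Q u ≠ 0), sg Q ⟨_, hO u hu⟩ =
      sg Q ⟨LinearEquiv.neg F, neg_mem_O⟩ * if IsSquare (Q u) then -1 else 1 := by
    intro u hu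
    rw [← sg_refl h2 hu, ← map_mul]
    rfl
  rcases Int.units_eq_one_or (sg Q ⟨LinearEquiv.neg F, neg_mem_O⟩) with h3 | h3
  · obtain ⟨a, ha⟩ := FiniteField.exists_nonsquare (F := F) (by
      intro h4
      apply h2
      have := ringChar.Nat.cast_ringChar (R := F)
      rw [h4] at this
      exact_mod_cast this)
    have ha0 : a ≠ 0 := by rintro rfl; exact ha IsSquare.zero
    have hu : Q (x + a • y) ≠ 0 := by rw [hQ]; exact ha0
    refine ⟨_, hu, (mem_E_iff hG h2 (hO _ hu)).2 ⟨hdet _ hu, ?_⟩⟩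
    rw [hsg, h3, hQ, if_neg ha, one_mul]
  · have hu : Q (x + (1 : F) • y) ≠ 0 := by rw [hQ]; exact one_ne_zero
    refine ⟨_, hu, (mem_E_iff hG h2 (hO _ hu)).2 ⟨hdet _ hu, ?_⟩⟩
    rw [hsg, h3, hQ, if_pos IsSquare.one]
    decide

/-- **odd dimension** -/
theorem rankOne_odd (hG : Good Q) (f : G ≃* Cfsg.POmega F ⇑Q) (h2 : (2 : F) ≠ 0) (hodd : Odd (Fintype.card ι))
    (h6 : 6 ≤ Fintype.card ι) : RankOne G := by
  obtain ⟨u, hu, ht⟩ := exists_neg_refl hG h2 hodd
  have hu0 : u ≠ 0 := fun h => hu (by rw [h, QuadraticMap.map_zero])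
  have h2u : 2 * Q u ≠ 0 := mul_ne_zero h2 hu
  let W : Submodule F (ι → F) := LinearMap.ker (polarBilin Q u)
  have hW : ∀ v, v ∈ W ↔ polar Q u v = 0 := fun v => Iff.rfl
  let Q' : QuadraticForm F W := Q.comp W.subtype
  have hQ' : ∀ w : W, Q' w = Q (w : ι → F) := fun w => rfl
  have hpol : ∀ w w' : W, polar Q' w w' = polar Q (w : ι → F) w' := fun w w' => rfl
  -- decomposition
  have hdec : ∀ v : ι → F, v - ((2 * Q u)⁻¹ * polar Q u v) • u ∈ W := by
    intro v
    rw [hW, polar_sub_right, polar_smul_right, polar_self', smul_eq_mul]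
    field_simp
    ring
  have hperp : ∀ (z : W) (c : F), polar Q (z : ι → F) (c • u) = 0 := by
    intro z c
    rw [polar_smul_right, polar_comm, (hW z).1 z.2, smul_zero]
  have nd : Nondeg Q' := by
    intro w hw
    apply Subtype.ext
    apply hG.nondeg
    intro v
    have h3 := hw ⟨_, hdec v⟩
    rw [hpol] at h3
    change polar Q (w : ι → F) (v - ((2 * Q u)⁻¹ * polar Q u v) • u) = 0 at h3
    rwa [polar_sub_right, hperp, sub_zero] at h3
  have hfr : 5 ≤ Module.finrank F W := by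
    have h3 := LinearMap.finrank_range_add_finrank_ker (polarBilin Q u)
    have h4 : Module.finrank F (LinearMap.range (polarBilin Q u)) ≤ 1 := by
      have := Submodule.finrank_le (LinearMap.range (polarBilin Q u))
      rwa [Module.finrank_self] at this
    rw [Module.finrank_fintype_fun_eq_card] at h3
    change _ + Module.finrank F W = _ at h3
    omega
  have hG' : Good Q' := good_of_finite nd hfr
  obtain ⟨e, hej, hec⟩ : ∃ e : GenOrth.Emb Q Q', (∀ z, e.j z = z) ∧ e.c = 1 :=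
    ⟨GenOrth.ofLin W.subtype 1 one_ne_zero (fun z => by rw [one_mul]; rfl) nd, fun z => rfl, rfl⟩
  have hπ : ∀ v, e.π v = ⟨_, hdec v⟩ := by
    intro v
    apply π_eq
    intro z
    rw [hej, hec, one_mul, hpol]
    change _ = polar Q (z : ι → F) (v - ((2 * Q u)⁻¹ * polar Q u v) • u)
    rw [polar_sub_right, hperp, sub_zero]
  have hπv : ∀ v, ((e.π v : W) : ι → F) = v - ((2 * Q u)⁻¹ * polar Q u v) • u := fun v => by rw [hπ]
  have hπu : e.π u = 0 := by
    apply Subtype.ext
    rw [hπv, polar_self', inv_mul_cancel₀ h2u, one_smul, sub_self]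
    rfl
  have hker : ∀ v, e.π v = 0 → ∃ c : F, v = c • u := by
    intro v hv
    refine ⟨(2 * Q u)⁻¹ * polar Q u v, ?_⟩
    have h3 := hπv v
    rw [hv] at h3
    exact sub_eq_zero.1 h3.symm
  have hinv : e.IsInv (-1) (LinearEquiv.neg F * refl Q u hu) := by
    intro v
    show -(refl Q u hu v) = _
    rw [hej, hπv, refl_apply]
    match_scalars
    · ring
    · field_simp
  refine rankOne_of hG f h2 hG' e (ε := -1) (t := ⟨_, ht⟩) (by ring) hinv hu0 hπu ?_
  intro g s _ _ k2 _
  have h3 : e.π (g.1 u) = 0 := by rw [k2, hπu, smul_zero]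
  obtain ⟨c, hc⟩ := hker _ h3
  refine ⟨c, ?_, ?_⟩
  · have h4 := mem_O.1 (E_le_O g.2) u
    rw [hc, QuadraticMap.map_smul, smul_eq_mul] at h4
    have h5 : (c * c - 1) * Q u = 0 := by linear_combination h4
    have h6 := (mul_eq_zero.1 h5).resolve_right hu
    exact mul_self_eq_one_iff.1 (sub_eq_zero.1 h6)
  · intro v hv
    obtain ⟨d, rfl⟩ := hker v hv
    rw [map_smul, hc, smul_comm]

/-- **even dimension**, three elements -/
theorem rankOne_even (hG : Good Q) (f : G ≃* Cfsg.POmega F ⇑Q) (h3 : Fintype.card F = 3)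
    (heven : Even (Fintype.card ι)) (h7 : 7 ≤ Fintype.card ι) : RankOne G := by
  have h2 : (2 : F) ≠ 0 := by
    intro h
    have h4 : ((Fintype.card F : ℕ) : F) = 0 := Nat.cast_card_eq_zero F
    rw [h3] at h4
    push_cast at h4
    have h5 : (1 : F) = 0 := by linear_combination h4 - h
    exact one_ne_zero h5
  have h30 : (3 : F) = 0 := by
    have h4 : ((Fintype.card F : ℕ) : F) = 0 := Nat.cast_card_eq_zero F
    rw [h3] at h4
    exact_mod_cast h4
  have hsq : ∀ a : F, a ≠ 0 → a * a = 1 := by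
    intro a ha
    have := FiniteField.pow_card_sub_one_eq_one a ha
    rw [h3, pow_two] at this
    exact this
  have haniso : ∀ a b : F, a * a + b * b = 0 → a = 0 ∧ b = 0 := by
    intro a b hab
    by_cases ha : a = 0
    · refine ⟨ha, ?_⟩
      rw [ha, mul_zero, zero_add] at hab
      exact mul_self_eq_zero.1 hab
    · exfalso
      rw [hsq a ha] at hab
      by_cases hb : b = 0
      · rw [hb] at hab
        apply one_ne_zero (α := F)
        linear_combination hab
      · rw [hsq b hb] at hab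
        apply h2
        linear_combination hab
  obtain ⟨x, y, hx, hy, hxy⟩ := GenOrth.exists_orth hG
  have hx0 : Q x ≠ 0 := by rw [hx]; exact one_ne_zero
  have hy0 : Q y ≠ 0 := by rw [hy]; exact one_ne_zero
  have hyx : polar Q y x = 0 := by rw [polar_comm]; exact hxy
  have hx1 : x ≠ 0 := fun h => hx0 (by rw [h, QuadraticMap.map_zero])
  have hsp := GenOrth.split_of_perp h2 hx0 hy0 hxy
  have hfr := GenOrth.finrank_Comp hsp
  rw [Module.finrank_fintype_fun_eq_card] at hfr
  have nd := GenOrth.nondeg_restr hG.nondeg hsp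
  have hG' := good_of_finite nd (by omega)
  obtain ⟨e, hej, hec⟩ : ∃ e : GenOrth.Emb Q (GenOrth.restr Q ((2 * Q x)⁻¹ • polarBilin Q x)
      ((2 * Q y)⁻¹ • polarBilin Q y)), (∀ z, e.j z = z) ∧ e.c = 1 :=
    ⟨GenOrth.ofLin (Submodule.subtype _) 1 one_ne_zero (fun z => by rw [one_mul]; rfl) nd, fun z => rfl, rfl⟩
  have hinv : e.IsInv 1 (refl Q x hx0 * refl Q y hy0) :=
    GenOrth.isInv_of_refl (h2 := h2) (hxy := hxy) e (fun w hw => ⟨⟨w, hw⟩, hej _⟩) (fun z => by rw [hej]; exact z.2)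
  have htE : refl Q x hx0 * refl Q y hy0 ∈ E Q := hG.refl_mul_refl_mem hy0 hx0 (by rw [hx, hy])
  have hπ : ∀ w a b, e.π (GenOrth.splitEquiv hsp (w, a, b)) = w := by
    intro w a b
    apply π_eq
    intro z
    obtain ⟨n1, n2⟩ := GenOrth.mem_Comp.1 z.2
    have zx : polar Q (z : ι → F) x = 0 := by rw [polar_comm]; exact hsp.px _ n1 n2
    have zy : polar Q (z : ι → F) y = 0 := by rw [polar_comm]; exact hsp.py _ n1 n2
    rw [hej, hec, one_mul, GenOrth.splitEquiv_apply, polar_add_right, polar_add_right, polar_smul_right,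
      polar_smul_right, zx, zy, smul_zero, smul_zero, add_zero, add_zero, GenOrth.polar_restr]
  have hker : ∀ v, e.π v = 0 → ∃ a b : F, v = a • x + b • y := by
    intro v hv
    obtain ⟨⟨w, a, b⟩, rfl⟩ := (GenOrth.splitEquiv hsp).surjective v
    rw [hπ] at hv
    refine ⟨a, b, ?_⟩
    rw [GenOrth.splitEquiv_apply, hv, ZeroMemClass.coe_zero, zero_add]
  have hπx : e.π x = 0 := by
    have := hπ 0 1 0
    rwa [GenOrth.splitEquiv_apply, ZeroMemClass.coe_zero, zero_add, one_smul, zero_smul, add_zero] at this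
  refine rankOne_of hG f h2 hG' e (ε := 1) (t := ⟨_, htE⟩) (by ring) hinv hx1 hπx ?_
  intro g s hs k1 k2 k3
  by_cases hA : ∀ v, e.π v = 0 → g.1 v = (1 : F) • v
  · exact ⟨1, Or.inl rfl, hA⟩
  by_cases hB : ∀ v, e.π v = 0 → g.1 v = (-1 : F) • v
  · exact ⟨-1, Or.inr rfl, hB⟩
  exfalso
  push Not at hA hB
  obtain ⟨v1, hv1, hv1'⟩ := hA
  obtain ⟨v2, hv2, hv2'⟩ := hB
  obtain ⟨w, hw⟩ : ∃ w, w = v1 - g.1 v1 := ⟨_, rfl⟩
  obtain ⟨w', hw'⟩ : ∃ w, w = v2 + g.1 v2 := ⟨_, rfl⟩
  have hw0 : w ≠ 0 := by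
    intro h
    apply hv1'
    rw [one_smul]
    rw [hw] at h
    exact (sub_eq_zero.1 h).symm
  have hw0' : w' ≠ 0 := by
    intro h
    apply hv2'
    rw [neg_one_smul]
    rw [hw'] at h
    exact eq_neg_of_add_eq_zero_right h
  have gw : g.1 w = -w := by rw [hw, map_sub, k3 v1 hv1]; abel
  have gw' : g.1 w' = w' := by rw [hw', map_add, k3 v2 hv2]; abel
  have πw : e.π w = 0 := by rw [hw, map_sub, k2, hv1, smul_zero, sub_zero]
  have πw' : e.π w' = 0 := by rw [hw', map_add, k2, hv2, smul_zero, add_zero]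
  have hww : polar Q w w' = 0 := by
    have h4 := polar_map (E_le_O g.2) w w'
    rw [gw, gw', polar_neg_left] at h4
    have h5 : (2 : F) * polar Q w w' = 0 := by linear_combination -h4
    exact (mul_eq_zero.1 h5).resolve_left h2
  obtain ⟨a, b, hab⟩ := hker w πw
  obtain ⟨c, d, hcd⟩ := hker w' πw'
  have hQab : ∀ a b : F, Q (a • x + b • y) = a * a + b * b := by
    intro a b
    rw [Q_add, QuadraticMap.map_smul, QuadraticMap.map_smul, polar_smul_left, polar_smul_right, hx, hy, hxy]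
    simp
  have hQw : Q w ≠ 0 := by
    rw [hab, hQab]
    intro h4
    obtain ⟨rfl, rfl⟩ := haniso a b h4
    exact hw0 (by rw [hab]; simp)
  have hQw' : c * c + d * d ≠ 0 := by
    intro h4
    obtain ⟨rfl, rfl⟩ := haniso c d h4
    exact hw0' (by rw [hcd]; simp)
  have horth : a * c + b * d = 0 := by
    rw [hab, hcd, polar_add_left, polar_add_right, polar_add_right] at hww
    simp only [polar_smul_left, polar_smul_right, hxy, hyx, polar_self', hx, hy, smul_eq_mul] at hww
    have h5 : (2 : F) * (a * c + b * d) = 0 := by linear_combination hww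
    exact (mul_eq_zero.1 h5).resolve_left h2
  have hD : a * d - b * c ≠ 0 := by
    intro h4
    rw [hab, hQab] at hQw
    apply mul_ne_zero hQw hQw'
    linear_combination (a * d - b * c) * h4 + (a * c + b * d) * horth
  obtain ⟨k, hk⟩ : ∃ k, k = g.1 * refl Q w hQw := ⟨_, rfl⟩
  have kw : k w = w := by
    rw [hk]
    show g.1 (refl Q w hQw w) = w
    rw [GenOrth.refl_self, map_neg, gw, neg_neg]
  have kw' : k w' = w' := by
    rw [hk]
    show g.1 (refl Q w hQw w') = w'
    rw [GenOrth.refl_perp hQw hww, gw']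
  have kx : k x = x := by
    have h4 : (a * d - b * c) • x = d • w - b • w' := by rw [hab, hcd]; module
    have h5 := congrArg k h4
    rw [map_sub, map_smul, map_smul, map_smul, kw, kw', ← h4] at h5
    exact smul_right_injective _ hD h5
  have ky : k y = y := by
    have h4 : (a * d - b * c) • y = a • w' - c • w := by rw [hab, hcd]; module
    have h5 := congrArg k h4
    rw [map_sub, map_smul, map_smul, map_smul, kw, kw', ← h4] at h5
    exact smul_right_injective _ hD h5
  have kj : ∀ z, k (e.j z) = s • e.j z := by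
    intro z
    rw [hk]
    show g.1 (refl Q w hQw (e.j z)) = _
    have h4 : polar Q w (e.j z) = 0 := by
      rw [polar_comm, e.adj, πw, polar_zero_right, mul_zero]
    rw [GenOrth.refl_perp hQw h4, k1, map_smul]
  have kk : ∀ v, k v = s • e.j (e.π v) + (v - e.j (e.π v)) := by
    intro v
    have h5 : k v = k (e.j (e.π v)) + k (v - e.j (e.π v)) := by
      rw [← map_add, add_sub_cancel]
    have h6 : k (v - e.j (e.π v)) = v - e.j (e.π v) := by
      obtain ⟨p, q, hpq⟩ := hker (v - e.j (e.π v)) (by rw [map_sub, e.π_j, sub_self])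
      rw [hpq, map_add, map_smul, map_smul, kx, ky]
    rw [h5, kj, h6]
  have hdet : LinearEquiv.det k = -1 := by
    rw [hk, map_mul, det_refl, ((mem_E_iff hG h2 (E_le_O g.2)).1 g.2).1, one_mul]
  have hone : (1 : Fˣ) ≠ -1 := by
    intro h4
    have h5 := congrArg Units.val h4
    rw [Units.val_one, Units.val_neg, Units.val_one] at h5
    apply h2
    linear_combination h5
  rcases hs with rfl | rfl
  · have h4 : k = 1 := by
      ext1 v
      rw [kk]
      show (1 : F) • e.j (e.π v) + (v - e.j (e.π v)) = v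
      module
    rw [h4, map_one] at hdet
    exact hone hdet
  · have h4 : k = LinearEquiv.neg F * (refl Q x hx0 * refl Q y hy0) := by
      ext1 v
      rw [kk]
      show (-1 : F) • e.j (e.π v) + (v - e.j (e.π v)) = -((refl Q x hx0 * refl Q y hy0) v)
      rw [hinv v]
      module
    rw [h4, map_mul, det_neg_eq, heven.neg_one_pow, one_mul,
      ((mem_E_iff hG h2 (E_le_O htE)).1 htE).1] at hdet
    exact hone hdet

/-! ### The rows of `AschComp.Rows` -/

theorem two_ne_zero_of_three {F : Type} [Field F] [Fintype F] (h3 : Fintype.card F = 3) : (2 : F) ≠ 0 := by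
  intro h
  have h4 : ((Fintype.card F : ℕ) : F) = 0 := Nat.cast_card_eq_zero F
  rw [h3] at h4
  push_cast at h4
  have h5 : (1 : F) = 0 := by linear_combination h4 - h
  exact one_ne_zero h5

/-- row `odd3` -/
theorem odd3 (F : Type) [Field F] [Fintype F] (m : ℕ) (h3 : Fintype.card F = 3) (hm : 3 ≤ m) :
    RankOne (POmega F (quadFormOdd m F)) := by
  have h2 := two_ne_zero_of_three h3
  have hG : Good (oddForm m F) := good_of_finite (nondeg_oddForm m F h2) (by
    rw [Module.finrank_fintype_fun_eq_card]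
    simp
    omega)
  rw [← coe_oddForm]
  refine rankOne_odd hG (MulEquiv.refl _) h2 ?_ ?_
  · simp only [Fintype.card_sum, Fintype.card_unit, Fintype.card_fin]
    exact ⟨m, by ring⟩
  · simp only [Fintype.card_sum, Fintype.card_unit, Fintype.card_fin]
    omega

/-- row `plus3` -/
theorem plus3 (F : Type) [Field F] [Fintype F] (m : ℕ) (h3 : Fintype.card F = 3) (hm : 4 ≤ m) :
    RankOne (POmega F (quadFormPlus m F)) := by
  have hG : Good (plusForm m F) := good_of_finite (nondeg_plusForm m F) (by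
    rw [Module.finrank_fintype_fun_eq_card]
    simp
    omega)
  rw [← coe_plusForm]
  refine rankOne_even hG (MulEquiv.refl _) h3 ?_ ?_
  · simp only [Fintype.card_sum, Fintype.card_fin]
    exact ⟨m, rfl⟩
  · simp only [Fintype.card_sum, Fintype.card_fin]
    omega

/-- row `minus3` -/
theorem minus3 (F : Type) [Field F] [Fintype F] (m : ℕ) (b c : F) (h3 : Fintype.card F = 3) (hm : 4 ≤ m)
    (hbc : ∀ z₁ z₂ : F, z₁ ^ 2 + b * z₁ * z₂ + c * z₂ ^ 2 = 0 → z₁ = 0 ∧ z₂ = 0) :
    RankOne (POmega F (quadFormMinus (m - 1) F b c)) := by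
  have hG : Good (minusForm (m - 1) F b c) := good_of_finite (nondeg_minusForm (m - 1) F b c hbc) (by
    rw [Module.finrank_fintype_fun_eq_card]
    simp
    omega)
  rw [← coe_minusForm]
  refine rankOne_even hG (MulEquiv.refl _) h3 ?_ ?_
  · simp only [Fintype.card_sum, Fintype.card_fin]
    exact ⟨m - 1 + 1, by ring⟩
  · simp only [Fintype.card_sum, Fintype.card_fin]
    omega

end Rows

end Cfsg.Agent.AschComp.Orth3

end

-- merged: Cfsg.Agent.AschComp.Psu3
section

/-!
# S1308: the unitary groups over the field with nine elements (helper17)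

`rankOne_block` : `PSU_{l+k}(q)`, `q` odd, `z` the image of `diag(a, …, a, -a, …, -a)` (`l`, `k` entries), the component
`SU_l(q)`, if the elements `c ⊕ c Δ` of `SU_{l+k}(q)` with `Δ² = 1` have `Δ = ± 1`; `psu3` : the row of `AschComp.Rows`.
-/

set_option autoImplicit false

namespace Cfsg.Agent.AschComp.Psu3

open Matrix Subgroup Cfsg Cfsg.Agent.Phan
open Cfsg.Agent.SignalizersComponents.Components
open Cfsg.Agent.LieClassical.SUBasic (suDiag suPerm mem_center_SU_iff coe_suScalar suScalar coe_suDiag coe_suPerm)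
open Cfsg.Agent.GenPsu (pr pr_surj pr_ker pr_sq block_comp quasi two_ne)
open Cfsg.Agent.AschComp.Orth3 (prankLE_one_of comm_of_central)

universe u

section Scalar

variable {F : Type*} [Field F] {l q : ℕ}

theorem exists_third (hl : 3 ≤ l) (i j : Fin l) : ∃ k : Fin l, k ≠ i ∧ k ≠ j := by
  obtain ⟨k, hk⟩ : ∃ k : Fin l, k ∉ ({i, j} : Finset (Fin l)) := by
    by_contra hcon
    push Not at hcon
    have h1 : (Finset.univ : Finset (Fin l)).card ≤ ({i, j} : Finset (Fin l)).card :=
      Finset.card_le_card fun k _ => hcon k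
    have h2 : ({i, j} : Finset (Fin l)).card ≤ 2 := Finset.card_le_two
    rw [Finset.card_univ, Fintype.card_fin] at h1
    omega
  simp only [Finset.mem_insert, Finset.mem_singleton, not_or] at hk
  exact ⟨k, hk⟩

/-- the diagonal element with `-1` at `i` and `k` -/
theorem exists_sign (hq : Odd q) {i k : Fin l} (hik : i ≠ k) :
    ∃ s : SU l F q, mat s = diagonal fun m => if m = i ∨ m = k then (-1 : F) else 1 := by
  classical
  refine ⟨suDiag q (fun m => if m = i ∨ m = k then (-1 : F) else 1) ?_ ?_, rfl⟩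
  · rw [← Finset.mul_prod_erase Finset.univ _ (Finset.mem_univ i),
      ← Finset.mul_prod_erase (Finset.univ.erase i) _ (Finset.mem_erase.2 ⟨Ne.symm hik, Finset.mem_univ k⟩)]
    have h1 : ∏ x ∈ (Finset.univ.erase i).erase k, (if x = i ∨ x = k then (-1 : F) else 1) = 1 := by
      refine Finset.prod_eq_one fun x hx => ?_
      rw [Finset.mem_erase, Finset.mem_erase] at hx
      simp [hx.1, hx.2.1]
    rw [h1]
    simp
  · intro m
    show (if m = i ∨ m = k then (-1 : F) else 1) ^ (q + 1) = 1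
    split_ifs
    · exact (Odd.add_one hq).neg_one_pow
    · exact one_pow _

/-- a matrix commuting with `SU_l(q)` is scalar -/
theorem scalar_of_comm (h2 : (2 : F) ≠ 0) (hq : Odd q) (hl : 3 ≤ l) {N : Matrix (Fin l) (Fin l) F}
    (h : ∀ s : SU l F q, N * mat s = mat s * N) : ∃ c : F, N = diagonal fun _ => c := by
  have h1 : (-1 : F) ≠ 1 := by
    intro h3
    apply h2
    linear_combination -h3
  have hoff : ∀ i j : Fin l, i ≠ j → N i j = 0 := by
    intro i j hij
    obtain ⟨k, hki, hkj⟩ := exists_third hl i j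
    obtain ⟨s, hs⟩ := exists_sign (F := F) hq (Ne.symm hki)
    have h3 := congrFun (congrFun (h s) i) j
    rw [hs, Matrix.mul_diagonal, Matrix.diagonal_mul] at h3
    simp only [true_or, if_true, hij.symm, Ne.symm hkj, or_self, if_false, mul_one, neg_mul, one_mul] at h3
    have h4 : (2 : F) * N i j = 0 := by linear_combination h3
    exact (mul_eq_zero.1 h4).resolve_left h2
  have hdiag : ∀ i j : Fin l, N i i = N j j := by
    intro i j
    rcases eq_or_ne i j with rfl | hij
    · rfl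
    obtain ⟨k, hki, hkj⟩ := exists_third hl i j
    set σ : Equiv.Perm (Fin l) := Equiv.swap i k * Equiv.swap i j with hσ
    have hsign : Equiv.Perm.sign σ = 1 := by
      rw [hσ, Equiv.Perm.sign_mul, Equiv.Perm.sign_swap (Ne.symm hki), Equiv.Perm.sign_swap hij]
      rfl
    have hσi : σ i = j := by
      rw [hσ, Equiv.Perm.mul_apply, Equiv.swap_apply_left,
        Equiv.swap_apply_of_ne_of_ne hij.symm (Ne.symm hkj)]
    have h3 := h (suPerm q σ hsign)
    have h4 : mat (suPerm q σ hsign : SU l F q) = σ.permMatrix F := coe_suPerm ..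
    rw [h4] at h3
    have h' := congrFun (congrFun h3 i) j
    rw [Equiv.Perm.permMatrix, PEquiv.toMatrix_toPEquiv_mul,
      PEquiv.mul_toMatrix_toPEquiv] at h'
    simp only [Matrix.submatrix_apply, id] at h'
    have hσj : σ.symm j = i := by rw [← hσi, Equiv.symm_apply_apply]
    rwa [hσj, hσi] at h'
  refine ⟨N ⟨0, by omega⟩ ⟨0, by omega⟩, ?_⟩
  ext i j
  rcases eq_or_ne i j with rfl | hij
  · rw [Matrix.diagonal_apply_eq]
    exact hdiag _ _
  · rw [Matrix.diagonal_apply_ne _ hij, hoff i j hij]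

end Scalar

section Block

variable {F : Type*} [Field F] [Fintype F] {q l k : ℕ}

omit [Fintype F] in
theorem one_eq_sum : (1 : Matrix (Fin (l + k)) (Fin (l + k)) F) =
    inc F (Fin.castAdd k : Fin l → Fin (l + k)) * (inc F (Fin.castAdd k : Fin l → Fin (l + k)))ᵀ +
      inc F (Fin.natAdd l : Fin k → Fin (l + k)) * (inc F (Fin.natAdd l : Fin k → Fin (l + k)))ᵀ := by
  classical
  rw [GenPsu.proj_eq F (Fin.castAdd_injective l k), GenPsu.proj_eq F (Fin.natAdd_injective k l),
    Matrix.diagonal_add, ← Matrix.diagonal_one]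
  congr 1
  funext x
  refine Fin.addCases (fun i => ?_) (fun i => ?_) x
  · rw [if_pos ⟨i, rfl⟩, if_neg, add_zero]
    rintro ⟨j, hj⟩
    have := congrArg Fin.val hj
    simp only [Fin.val_natAdd, Fin.val_castAdd] at this
    omega
  · rw [if_neg, if_pos ⟨i, rfl⟩, zero_add]
    rintro ⟨j, hj⟩
    have := congrArg Fin.val hj
    simp only [Fin.val_natAdd, Fin.val_castAdd] at this
    omega

theorem disj (i : Fin l) (j : Fin k) : (Fin.castAdd k i : Fin (l + k)) ≠ Fin.natAdd l j := by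
  intro hj
  have := congrArg Fin.val hj
  simp only [Fin.val_natAdd, Fin.val_castAdd] at this
  omega

/-- an element commuting with the block is `c ⊕ c Δ` -/
theorem eq_smul_ext (hF : Fintype.card F = q ^ 2) (h2 : (2 : F) ≠ 0) (hq : Odd q) (hl : 3 ≤ l) {g : SU (l + k) F q}
    (h : ∀ s : SU l F q, g * ext hF (Fin.castAdd k) (Fin.castAdd_injective l k) s =
      ext hF (Fin.castAdd k) (Fin.castAdd_injective l k) s * g) :
    ∃ (c : F) (Δ : Matrix (Fin k) (Fin k) F), c ≠ 0 ∧ mat g = c • extM (Fin.natAdd l) Δ := by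
  set J := inc F (Fin.castAdd k : Fin l → Fin (l + k)) with hJ
  set J' := inc F (Fin.natAdd l : Fin k → Fin (l + k)) with hJ'
  set M := mat g with hM
  have hJJ : Jᵀ * J = 1 := incT_mul_inc (Fin.castAdd_injective l k)
  have hJJ' : J'ᵀ * J' = 1 := incT_mul_inc (Fin.natAdd_injective k l)
  have hd : Jᵀ * J' = 0 := incT_mul_inc_of_disjoint disj
  have hd' : J'ᵀ * J = 0 := incT_mul_inc_of_disjoint fun i j => (disj j i).symm
  have hsum : (1 : Matrix (Fin (l + k)) (Fin (l + k)) F) = J * Jᵀ + J' * J'ᵀ := one_eq_sum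
  have hcomm : ∀ s : SU l F q, M * (J * (mat s - 1) * Jᵀ) = J * (mat s - 1) * Jᵀ * M := by
    intro s
    have h3 := congrArg mat (h s)
    rw [mat_mul, mat_mul, mat_ext, extM, Matrix.mul_add, Matrix.add_mul, Matrix.mul_one, Matrix.one_mul] at h3
    exact add_left_cancel h3
  -- the block is a scalar
  obtain ⟨c, hc⟩ : ∃ c : F, Jᵀ * M * J = diagonal fun _ => c := by
    apply scalar_of_comm h2 hq hl
    intro s
    have h3 : Jᵀ * (M * (J * (mat s - 1) * Jᵀ)) * J = Jᵀ * (J * (mat s - 1) * Jᵀ * M) * J := by rw [hcomm s]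
    have e1 : Jᵀ * (M * (J * (mat s - 1) * Jᵀ)) * J = Jᵀ * M * J * (mat s - 1) * (Jᵀ * J) := by
      simp only [Matrix.mul_assoc]
    have e2 : Jᵀ * (J * (mat s - 1) * Jᵀ * M) * J = (Jᵀ * J) * (mat s - 1) * (Jᵀ * M * J) := by
      simp only [Matrix.mul_assoc]
    rw [e1, e2, hJJ, Matrix.mul_one, Matrix.one_mul, Matrix.mul_sub, Matrix.sub_mul, Matrix.mul_one,
      Matrix.one_mul] at h3
    exact sub_left_inj.1 h3
  have hc' : Jᵀ * M * J = c • 1 := by rw [hc, Matrix.smul_one_eq_diagonal]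
  -- the columns and the rows
  have hcol : M * J = c • J := by
    have h3 : ∀ s : SU l F q, (M * J - c • J) * (mat s - 1) = 0 := by
      intro s
      have h4 : M * (J * (mat s - 1) * Jᵀ) * J = J * (mat s - 1) * Jᵀ * M * J := by rw [hcomm s]
      have e1 : M * (J * (mat s - 1) * Jᵀ) * J = M * J * (mat s - 1) * (Jᵀ * J) := by simp only [Matrix.mul_assoc]
      have e2 : J * (mat s - 1) * Jᵀ * M * J = J * (mat s - 1) * (Jᵀ * M * J) := by simp only [Matrix.mul_assoc]
      rw [e1, e2, hJJ, hc', Matrix.mul_one, Matrix.mul_smul, Matrix.mul_one] at h4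
      rw [Matrix.sub_mul, Matrix.smul_mul, h4, sub_self]
    ext x i
    obtain ⟨m, hmi, -⟩ := exists_third hl i i
    obtain ⟨s, hs⟩ := exists_sign (F := F) hq (Ne.symm hmi)
    have h4 := congrFun (congrFun (h3 s) x) i
    have h5 : mat s - 1 = diagonal fun m' => (if m' = i ∨ m' = m then (-1 : F) else 1) - 1 := by
      rw [hs, ← Matrix.diagonal_one, Matrix.diagonal_sub]
    rw [h5, Matrix.mul_diagonal] at h4
    simp only [true_or, if_true, Matrix.zero_apply, Matrix.sub_apply] at h4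
    have h6 : (2 : F) * ((M * J) x i - (c • J) x i) = 0 := by linear_combination -h4
    exact sub_eq_zero.1 ((mul_eq_zero.1 h6).resolve_left h2)
  have hrow : Jᵀ * M = c • Jᵀ := by
    have h3 : ∀ s : SU l F q, (mat s - 1) * (Jᵀ * M - c • Jᵀ) = 0 := by
      intro s
      have h4 : Jᵀ * (M * (J * (mat s - 1) * Jᵀ)) = Jᵀ * (J * (mat s - 1) * Jᵀ * M) := by rw [hcomm s]
      have e1 : Jᵀ * (M * (J * (mat s - 1) * Jᵀ)) = Jᵀ * M * J * (mat s - 1) * Jᵀ := by simp only [Matrix.mul_assoc]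
      have e2 : Jᵀ * (J * (mat s - 1) * Jᵀ * M) = (Jᵀ * J) * (mat s - 1) * (Jᵀ * M) := by
        simp only [Matrix.mul_assoc]
      rw [e1, e2, hJJ, hc', Matrix.one_mul, Matrix.smul_mul, Matrix.smul_mul, Matrix.one_mul] at h4
      rw [Matrix.mul_sub, Matrix.mul_smul, h4, sub_self]
    ext i x
    obtain ⟨m, hmi, -⟩ := exists_third hl i i
    obtain ⟨s, hs⟩ := exists_sign (F := F) hq (Ne.symm hmi)
    have h4 := congrFun (congrFun (h3 s) i) x
    have h5 : mat s - 1 = diagonal fun m' => (if m' = i ∨ m' = m then (-1 : F) else 1) - 1 := by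
      rw [hs, ← Matrix.diagonal_one, Matrix.diagonal_sub]
    rw [h5, Matrix.diagonal_mul] at h4
    simp only [true_or, if_true, Matrix.zero_apply, Matrix.sub_apply] at h4
    have h6 : (2 : F) * ((Jᵀ * M) i x - (c • Jᵀ) i x) = 0 := by linear_combination -h4
    exact sub_eq_zero.1 ((mul_eq_zero.1 h6).resolve_left h2)
  have hc0 : c ≠ 0 := by
    rintro rfl
    rw [zero_smul] at hcol
    have h3 : mat g⁻¹ * (M * J) = J := by rw [← Matrix.mul_assoc, hM, mat_inv_mul, Matrix.one_mul]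
    rw [hcol, Matrix.mul_zero] at h3
    have h4 := congrFun (congrFun h3 (Fin.castAdd k ⟨0, by omega⟩)) ⟨0, by omega⟩
    rw [hJ, inc_apply, if_pos rfl] at h4
    exact zero_ne_one h4
  refine ⟨c, c⁻¹ • (J'ᵀ * M * J'), hc0, ?_⟩
  have h3 : M = c • (J * Jᵀ) + J' * (J'ᵀ * M * J') * J'ᵀ := by
    have e1 : M = (J * Jᵀ + J' * J'ᵀ) * M * (J * Jᵀ + J' * J'ᵀ) := by
      rw [← hsum, Matrix.one_mul, Matrix.mul_one]
    have e2 : (J * Jᵀ + J' * J'ᵀ) * M * (J * Jᵀ + J' * J'ᵀ) =
        J * (Jᵀ * M) * J * Jᵀ + J * (Jᵀ * M) * J' * J'ᵀ + J' * J'ᵀ * (M * J) * Jᵀ + J' * (J'ᵀ * M * J') * J'ᵀ := by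
      simp only [Matrix.add_mul, Matrix.mul_add, Matrix.mul_assoc]
      abel
    have e3 : J * (c • Jᵀ) * J * Jᵀ = c • (J * Jᵀ) := by
      rw [Matrix.mul_smul, Matrix.smul_mul, Matrix.smul_mul, Matrix.mul_assoc J Jᵀ J, hJJ, Matrix.mul_one]
    have e4 : J * (c • Jᵀ) * J' * J'ᵀ = 0 := by
      rw [Matrix.mul_smul, Matrix.smul_mul, Matrix.smul_mul, Matrix.mul_assoc J Jᵀ J', hd, Matrix.mul_zero,
        Matrix.zero_mul, smul_zero]
    have e5 : J' * J'ᵀ * (c • J) * Jᵀ = 0 := by
      rw [Matrix.mul_smul, Matrix.smul_mul, Matrix.mul_assoc J' J'ᵀ J, hd', Matrix.mul_zero,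
        Matrix.zero_mul, smul_zero]
    rw [hrow, hcol, e3, e4, e5, add_zero, add_zero] at e2
    rw [← e2]
    exact e1
  have h4 : (1 : Matrix (Fin (l + k)) (Fin (l + k)) F) - J' * J'ᵀ = J * Jᵀ := by rw [hsum, add_sub_cancel_right]
  conv_lhs => rw [h3]
  rw [extM, ← hJ', Matrix.mul_sub, Matrix.sub_mul, Matrix.mul_one]
  have h5 : (1 : Matrix (Fin (l + k)) (Fin (l + k)) F) + (J' * (c⁻¹ • (J'ᵀ * M * J')) * J'ᵀ - J' * J'ᵀ) =
      (1 - J' * J'ᵀ) + c⁻¹ • (J' * (J'ᵀ * M * J') * J'ᵀ) := by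
    rw [Matrix.mul_smul, Matrix.smul_mul]
    abel
  rw [h5, h4, smul_add, smul_smul, mul_inv_cancel₀ hc0, one_smul]

omit [Fintype F] in
/-- scalars are central -/
theorem center_of_scalar {n : ℕ} {g : SU n F q} {c : F} (h : mat g = c • 1) : g ∈ center (SU n F q) := by
  rw [Subgroup.mem_center_iff]
  intro x
  apply mat_inj
  rw [mat_mul, mat_mul, h, Matrix.mul_smul, Matrix.smul_mul, Matrix.mul_one, Matrix.one_mul]

omit [Fintype F] in
theorem diag_eq_extM (a : F) (b : F) (hab : b = -a) : (diagonal (Fin.append (fun _ : Fin l => a) fun _ : Fin k => b) :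
    Matrix (Fin (l + k)) (Fin (l + k)) F) = a • extM (Fin.natAdd l) (-1 : Matrix (Fin k) (Fin k) F) := by
  classical
  subst hab
  have h1 : (-1 - 1 : Matrix (Fin k) (Fin k) F) = (-2 : F) • 1 := by
    rw [← one_add_one_eq_two, neg_add, add_smul, neg_one_smul]
    abel
  rw [extM, h1, Matrix.mul_smul, Matrix.smul_mul, Matrix.mul_one, GenPsu.proj_eq F (Fin.natAdd_injective k l)]
  ext x y
  rw [Matrix.smul_apply, Matrix.add_apply, Matrix.smul_apply, Matrix.one_apply, Matrix.diagonal_apply,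
    Matrix.diagonal_apply]
  by_cases hxy : x = y
  · subst hxy
    simp only [if_true]
    refine Fin.addCases (fun i => ?_) (fun i => ?_) x
    · rw [Fin.append_left, if_neg]
      · simp
      · rintro ⟨j, hj⟩
        exact disj i j hj.symm
    · rw [Fin.append_right, if_pos ⟨i, rfl⟩]
      simp only [smul_eq_mul]
      ring
  · simp [hxy]

omit [Fintype F] in
theorem extM_natAdd_injective {A B : Matrix (Fin k) (Fin k) F}
    (h : extM (Fin.natAdd l : Fin k → Fin (l + k)) A = extM (Fin.natAdd l) B) : A = B := by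
  set J' := inc F (Fin.natAdd l : Fin k → Fin (l + k)) with hJ'
  have hJJ' : J'ᵀ * J' = 1 := incT_mul_inc (Fin.natAdd_injective k l)
  have key : ∀ A : Matrix (Fin k) (Fin k) F, J'ᵀ * extM (Fin.natAdd l : Fin k → Fin (l + k)) A * J' = A := by
    intro A
    rw [extM, ← hJ', Matrix.mul_add, Matrix.add_mul, Matrix.mul_one, hJJ']
    have e1 : J'ᵀ * (J' * (A - 1) * J'ᵀ) * J' = (J'ᵀ * J') * (A - 1) * (J'ᵀ * J') := by simp only [Matrix.mul_assoc]
    rw [e1, hJJ', Matrix.one_mul, Matrix.mul_one, add_sub_cancel]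
  rw [← key A, ← key B, h]

end Block

theorem two_by_two {F : Type*} [Field F] (h2 : (2 : F) ≠ 0) {D : Matrix (Fin 2) (Fin 2) F} (hd : D.det = 1)
    (hD : D * D = 1) : D = 1 ∨ D = -1 := by
  obtain ⟨p, s, t, w, rfl⟩ : ∃ p s t w, D = !![p, s; t, w] := ⟨_, _, _, _, Matrix.eta_fin_two D⟩
  rw [Matrix.det_fin_two_of] at hd
  rw [Matrix.mul_fin_two, Matrix.one_fin_two] at hD
  have e00 := congrFun (congrFun hD 0) 0
  have e01 := congrFun (congrFun hD 0) 1
  have e10 := congrFun (congrFun hD 1) 0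
  have e11 := congrFun (congrFun hD 1) 1
  change p * p + s * t = 1 at e00
  change p * s + s * w = 0 at e01
  change t * p + w * t = 0 at e10
  change t * s + w * w = 1 at e11
  have h7 : p + w ≠ 0 := by
    intro h8
    have h6 : p * (p + w) = 2 := by linear_combination e00 + hd
    rw [h8, mul_zero] at h6
    exact h2 h6.symm
  have hpw : p = w := by
    have h5 : (p + w) * (p - w) = 0 := by linear_combination e00 - e11
    exact sub_eq_zero.1 ((mul_eq_zero.1 h5).resolve_left h7)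
  have hs0 : s = 0 := by
    have h5 : s * (p + w) = 0 := by linear_combination e01
    exact (mul_eq_zero.1 h5).resolve_right h7
  have ht0 : t = 0 := by
    have h5 : t * (p + w) = 0 := by linear_combination e10
    exact (mul_eq_zero.1 h5).resolve_right h7
  subst hpw hs0 ht0
  have hp2 : p * p = 1 := by linear_combination e00
  rcases mul_self_eq_one_iff.1 hp2 with rfl | rfl
  · left
    rw [Matrix.one_fin_two]
  · right
    rw [Matrix.one_fin_two]
    ext i j
    fin_cases i <;> fin_cases j <;> simp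

section Main

variable {F : Type} [Field F] [Fintype F] {q l k : ℕ}

/-- **the block criterion** -/
theorem rankOne_block (hF : Fintype.card F = q ^ 2) (hq : Odd q) (hl : 3 ≤ l) (hk : 1 ≤ k) {G : Type u} [Group G]
    (e : G ≃* PSU (l + k) F q) {a : F} (ha : a ^ (q + 1) = 1) (hprod : a ^ l * (-a) ^ k = 1)
    (hΔ : ∀ (c : F) (Δ : Matrix (Fin k) (Fin k) F), c ^ (q + 1) = 1 → c ^ (l + k) * Δ.det = 1 → Δ * Δ = 1 →
      Δ = 1 ∨ Δ = -1) : RankOne G := by
  classical
  have h2 : (2 : F) ≠ 0 := two_ne hF hq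
  have ha0 : a ≠ 0 := by
    rintro rfl
    rw [zero_pow (Nat.succ_ne_zero q)] at ha
    exact zero_ne_one ha
  have hna : (-a) ^ (q + 1) = 1 := by rw [neg_pow, (Odd.add_one hq).neg_one_pow, one_mul, ha]
  have haa : a ≠ -a := by
    intro h
    have h3 : (2 : F) * a = 0 := by linear_combination h
    exact (mul_ne_zero h2 ha0) h3
  have hn : 3 ≤ l + k := by omega
  obtain ⟨y, hy⟩ : ∃ y : SU (l + k) F q, mat y = diagonal (Fin.append (fun _ : Fin l => a) fun _ : Fin k => -a) := by
    refine ⟨suDiag q (Fin.append (fun _ : Fin l => a) fun _ : Fin k => -a) ?_ ?_, rfl⟩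
    · rw [Fin.prod_univ_add]
      simp only [Fin.append_left, Fin.append_right, Finset.prod_const, Finset.card_univ, Fintype.card_fin]
      exact hprod
    · intro i
      refine Fin.addCases (fun i => ?_) (fun i => ?_) i
      · rw [Fin.append_left]; exact ha
      · rw [Fin.append_right]; exact hna
  have hy' := diag_eq_extM (l := l) (k := k) a (-a) rfl
  rw [← hy] at hy'
  let i0 : Fin l := ⟨0, by omega⟩
  let x0 : Fin (l + k) := Fin.natAdd l ⟨0, hk⟩
  have hqs : IsQuasisimple (SU l F q) := quasi hF hl (by rintro ⟨-, rfl⟩; exact absurd hq (by decide))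
  obtain ⟨hi, hK⟩ := block_comp hF (pr e) (pr_surj e) (pr_ker e) hn (Fin.castAdd_injective l k) hqs
    (a := a) (b := -a) haa (d := Fin.append (fun _ : Fin l => a) fun _ : Fin k => -a) (fun i => Fin.append_left ..)
    (fun w hw => by
      revert hw
      refine Fin.addCases (fun i => ?_) (fun i => ?_) w
      · exact fun hw => absurd ⟨i, rfl⟩ hw
      · exact fun _ => Fin.append_right ..)
    (x₀ := x0) (fun i => (disj i _).symm) hy
  have ho : orderOf (pr e y) = 2 := by
    refine orderOf_eq_prime ?_ ?_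
    · rw [pow_two]
      refine pr_sq hF hn e (c := a * a) ?_ ?_ hy ?_
      · have h3 : (a * a) ^ (l + k) = (a ^ l * (-a) ^ k) * (a ^ l * (-a) ^ k) := by
          rw [neg_pow a k, mul_pow, pow_add]
          have h4 : ((-1 : F) ^ k) * (-1) ^ k = 1 := by rw [← mul_pow]; simp
          linear_combination (-(a ^ l * a ^ k * (a ^ l * a ^ k))) * h4
        rw [h3, hprod, one_mul]
      · rw [mul_pow, ha, one_mul]
      · intro i
        refine Fin.addCases (fun i => ?_) (fun i => ?_) i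
        · rw [Fin.append_left]
        · rw [Fin.append_right, neg_mul_neg]
    · intro h3
      have h4 : y ∈ (pr e).ker := h3
      rw [pr_ker] at h4
      obtain ⟨r, hr, hr', h5⟩ := (mem_center_SU_iff hF hn _).1 h4
      have h6 : mat y = diagonal fun _ => r := by rw [h5]; exact coe_suScalar ..
      rw [hy] at h6
      have h7 := congrFun (congrFun h6 (Fin.castAdd k i0)) (Fin.castAdd k i0)
      have h8 := congrFun (congrFun h6 x0) x0
      rw [Matrix.diagonal_apply_eq, Matrix.diagonal_apply_eq, Fin.append_left] at h7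
      rw [Matrix.diagonal_apply_eq, Matrix.diagonal_apply_eq, Fin.append_right] at h8
      exact haa (h7.trans h8.symm)
  refine ⟨pr e y, _, ho, hK, Or.inr ?_⟩
  apply prankLE_one_of (x := pr e y)
  rintro b ⟨-, hb2⟩ hbb
  obtain ⟨g, rfl⟩ := pr_surj e b
  have h1 : ∀ s : SU l F q, g * ext hF (Fin.castAdd k) (Fin.castAdd_injective l k) s =
      ext hF (Fin.castAdd k) (Fin.castAdd_injective l k) s * g := by
    apply comm_of_central _ hqs.1.commutator_eq_top
    intro s
    rw [← pr_ker e, MonoidHom.mem_ker, map_mul, map_mul, map_mul, map_inv, map_inv]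
    have h3 := mem_centralizer_iff.1 hb2 _ ⟨s, rfl⟩
    change pr e (ext hF _ _ s) * pr e g = pr e g * pr e (ext hF _ _ s) at h3
    rw [← h3]
    group
  obtain ⟨c, Δ, hc0, hg⟩ := eq_smul_ext hF h2 hq hl h1
  -- the square
  have h3 : g * g ∈ center (SU (l + k) F q) := by
    rw [← pr_ker e, MonoidHom.mem_ker, map_mul]
    exact hbb
  obtain ⟨r, hr, hr', h4⟩ := (mem_center_SU_iff hF hn _).1 h3
  have h5 : mat g * mat g = r • 1 := by
    rw [← mat_mul, h4, Matrix.smul_one_eq_diagonal]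
    exact coe_suScalar ..
  have hvec : ∀ (A : Matrix (Fin k) (Fin k) F),
      (extM (Fin.natAdd l : Fin k → Fin (l + k)) A *ᵥ (Pi.single (Fin.castAdd k i0) 1)) =
        Pi.single (Fin.castAdd k i0) 1 := by
    intro A
    funext x
    refine Fin.addCases (fun i => ?_) (fun i => ?_) x
    · rw [extM_mulVec_of_notMem (fun j => disj i j)]
    · rw [extM_mulVec (Fin.natAdd_injective k l)]
      have h6 : ((Pi.single (Fin.castAdd k i0) (1 : F) : Fin (l + k) → F) ∘ Fin.natAdd l) = 0 := by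
        funext j
        rw [Function.comp_apply, Pi.single_eq_of_ne (disj i0 j).symm]
        rfl
      rw [h6, Matrix.mulVec_zero, Pi.single_eq_of_ne (disj i0 i).symm]
      rfl
  have hgv : mat g *ᵥ (Pi.single (Fin.castAdd k i0) 1) = c • Pi.single (Fin.castAdd k i0) 1 := by
    rw [hg, Matrix.smul_mulVec, hvec]
  have hcr : c * c = r := by
    have h6 : (mat g * mat g) *ᵥ (Pi.single (Fin.castAdd k i0) 1) = (c * c) • Pi.single (Fin.castAdd k i0) 1 := by
      rw [← Matrix.mulVec_mulVec, hgv, Matrix.mulVec_smul, hgv, smul_smul]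
    rw [h5, Matrix.smul_mulVec, Matrix.one_mulVec] at h6
    have h7 := congrFun h6 (Fin.castAdd k i0)
    simp only [Pi.smul_apply, Pi.single_eq_same, smul_eq_mul, mul_one] at h7
    exact h7.symm
  have hcq : c ^ (q + 1) = 1 := by
    have h6 := mat_isom g (Pi.single (Fin.castAdd k i0) 1) (Pi.single (Fin.castAdd k i0) 1)
    rw [hgv, Cfsg.Agent.LieClassical.HermBasic.herm_smul_left,
      Cfsg.Agent.LieClassical.HermBasic.herm_smul_right] at h6
    have h7 : hermForm (l + k) F q (Pi.single (Fin.castAdd k i0) 1) (Pi.single (Fin.castAdd k i0) 1) = 1 := by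
      rw [Cfsg.Agent.LieClassical.HermBasic.herm_single_left, Pi.single_eq_same, one_pow, mul_one]
    rw [h7, mul_one] at h6
    rw [pow_succ']
    exact h6
  have hΔ2 : Δ * Δ = 1 := by
    apply extM_natAdd_injective (l := l)
    rw [extM_mul (Fin.natAdd_injective k l), extM_one]
    have h6 : (c * c) • (extM (Fin.natAdd l : Fin k → Fin (l + k)) Δ * extM (Fin.natAdd l) Δ) = (c * c) • 1 := by
      rw [← smul_mul_smul_comm, ← hg, h5, hcr]
    exact smul_right_injective _ (mul_ne_zero hc0 hc0) h6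
  have hdet : c ^ (l + k) * Δ.det = 1 := by
    have h6 := mat_det g
    rwa [hg, Matrix.det_smul, Fintype.card_fin, extM_det (Fin.natAdd_injective k l)] at h6
  rcases hΔ c Δ hcq hdet hΔ2 with rfl | rfl
  · left
    rw [extM_one] at hg
    have h6 := center_of_scalar hg
    rw [← pr_ker e] at h6
    exact h6
  · right
    have h6 : mat g = (c * a⁻¹) • mat y := by
      rw [hg, hy', smul_smul, mul_assoc, inv_mul_cancel₀ ha0, mul_one]
    have h7 : mat (g * y⁻¹) = (c * a⁻¹) • 1 := by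
      rw [mat_mul, h6, Matrix.smul_mul, mat_mul_inv]
    have h8 := center_of_scalar h7
    rw [← pr_ker e, MonoidHom.mem_ker, map_mul, map_inv] at h8
    exact mul_inv_eq_one.1 h8

/-- row `psu3` -/
theorem psu3 (F : Type) [Field F] [Fintype F] (n : ℕ) (hF : Fintype.card F = 9) (hn : 5 ≤ n) :
    RankOne (PSU n F 3) := by
  have hF' : Fintype.card F = 3 ^ 2 := by rw [hF]; norm_num
  have h2 : (2 : F) ≠ 0 := two_ne hF' (by decide)
  by_cases h4 : n % 4 = 0
  · obtain ⟨l, rfl⟩ : ∃ l, n = l + 2 := ⟨n - 2, by omega⟩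
    refine rankOne_block hF' (by decide) (by omega) (by norm_num) (MulEquiv.refl _) (a := 1) (by norm_num)
      (by norm_num) ?_
    intro c Δ hc hd hΔ
    have hc1 : c ^ (l + 2) = 1 := by
      obtain ⟨m, hm⟩ : ∃ m, l + 2 = 4 * m := ⟨(l + 2) / 4, by omega⟩
      rw [hm, pow_mul, hc, one_pow]
    rw [hc1, one_mul] at hd
    exact two_by_two h2 hd hΔ
  · obtain ⟨l, rfl⟩ : ∃ l, n = l + 1 := ⟨n - 1, by omega⟩
    obtain ⟨a, ha, ha'⟩ : ∃ a : F, a ^ 4 = 1 ∧ a ^ (l + 1) = -1 := by
      by_cases hodd : Odd (l + 1)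
      · exact ⟨-1, by norm_num, hodd.neg_one_pow⟩
      · obtain ⟨i, hi⟩ : ∃ i : F, i ^ 2 = -1 := by
          have h5 : IsSquare (-1 : F) := by
            rw [FiniteField.isSquare_neg_one_iff, hF]
            decide
          obtain ⟨i, hi⟩ := h5
          exact ⟨i, by rw [hi]; ring⟩
        obtain ⟨m, hm⟩ : ∃ m, l + 1 = 2 * (2 * m + 1) := by
          rw [Nat.not_odd_iff_even] at hodd
          obtain ⟨m, hm⟩ := hodd
          exact ⟨(m - 1) / 2, by omega⟩
        refine ⟨i, ?_, ?_⟩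
        · rw [show (4 : ℕ) = 2 * 2 by norm_num, pow_mul, hi]
          norm_num
        · rw [hm, pow_mul, hi]
          exact (odd_two_mul_add_one m).neg_one_pow
    refine rankOne_block hF' (by decide) (by omega) le_rfl (MulEquiv.refl _) (a := a) ha ?_ ?_
    · rw [pow_one, mul_neg, ← pow_succ, ha', neg_neg]
    · intro c Δ _ _ hΔ
      have e00 := congrFun (congrFun hΔ 0) 0
      rw [Matrix.mul_apply, Fin.sum_univ_one] at e00
      change Δ 0 0 * Δ 0 0 = 1 at e00
      rcases mul_self_eq_one_iff.1 e00 with h8 | h8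
      · left
        ext i j
        rw [Subsingleton.elim i 0, Subsingleton.elim j 0, h8]
        rfl
      · right
        ext i j
        rw [Subsingleton.elim i 0, Subsingleton.elim j 0, h8]
        rfl

end Main

end Cfsg.Agent.AschComp.Psu3

end

-- merged: Cfsg.Agent.AschComp.ExcAbs
section

/-!
# Groups with a root group datum: the centralizer of the component of an involution (helper37, S1308)

`S ⊆ T`, `E` the set of the roots with `X x ≤ C(S)` (`GenExc.EvenSet`), `a` the highest root, `E \ NI E = {± a}`,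
`NI E` = the roots of the parabolic subsystem orthogonal to `a`, `L = ⟨X x | x ∈ NI E⟩`.

* `cent_le_norm_LL` : `C(S)` normalizes `⟨X a, X (-a)⟩`;
* `exists_mul` : `N(⟨X a, X (-a)⟩) = ⟨X a, X (-a)⟩ (N(X a) ∩ N(X (-a)))`;
* `LJ_inf_cent` : `L_J ∩ C(⟨X x | x ∈ RootsJ⟩) ≤ T`;
* `exists_mem` : `C(S) ∩ C(L) ≤ ⟨X a, X (-a)⟩ (T ∩ C(L))`;
* `eq_one_of_simple` : torus elements centralizing the root groups of the fundamental roots.
-/

set_option autoImplicit false
set_option linter.unusedSectionVars false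

namespace Cfsg.Agent.AschComp.Exc

open CoxeterSystem Cfsg.Agent.ChevalleyStructure.CoxeterGeom Cfsg.Agent.Tits.Roots Cfsg.Agent.Tits.Core
  Cfsg.Agent.Tits.Exchange Cfsg.Agent.Nodes.Reps Cfsg.Agent.Nodes.BNOf Cfsg.Agent.Nodes.StabComb
  Cfsg.Agent.Nodes.Bruhat Cfsg.Agent.Nodes.OppDec Cfsg.Agent.Nodes.LeviDec Cfsg.Agent.Nodes.RGDLib
  Cfsg.Agent.Nodes.NormX Cfsg.Agent.Nodes.FreeTorus Cfsg.Agent.Nodes.RankOneSub Cfsg.Agent.Nodes.Perp
open Cfsg.Agent.GenExc

variable {I W Y : Type*} [Fintype I] [DecidableEq I] [Group W] [Fintype W] [Group Y] {M : CoxeterMatrix I}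
  {cs : CoxeterSystem M W} {A : I → I → ℤ} {h : IsCartan M A} {p : ℕ} {T : Subgroup Y} {n : I → Y}
  {X : (I → ℤ) → Subgroup Y} {S : Set Y} {E : Set (I → ℤ)}

theorem X_le_LL (X : (I → ℤ) → Subgroup Y) (a : I → ℤ) : X a ≤ LL X a := le_sup_left

theorem X_neg_le_LL (X : (I → ℤ) → Subgroup Y) (a : I → ℤ) : X (-a) ≤ LL X a := le_sup_right

/-- `± a` are the roots in `E` outside `NI E` -/
def Iso (cs : CoxeterSystem M W) (h : IsCartan M A) (E : Set (I → ℤ)) (a : I → ℤ) : Prop :=
  ∀ x, x ∈ E ∧ x ∉ NI cs h E ↔ x = a ∨ x = -a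

section

variable (R : RGD cs h p T n X)

/-- root groups of `NI E` commute with `X (± a)` -/
theorem comm_of_NI (hc : CommOK cs h X) (hE : EvenSet cs h X S E) {a b x : I → ℤ} (ha : Iso cs h E a)
    (hb : b = a ∨ b = -a) (hx : x ∈ NI cs h E) : ∀ u ∈ X x, ∀ v ∈ X b, u * v = v * u := by
  have h1 := (ha b).2 hb
  have h2 := (ha (-b)).2 (by rcases hb with rfl | rfl <;> simp)
  refine hc x b (hE.root x hx.1) (hE.root b h1.1) ?_ ?_
  · rintro rfl
    exact h2.2 hx
  · intro hr
    exact h1.2 ⟨h1.1, x, hx.1, by rwa [add_comm]⟩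

theorem comm_LL (hc : CommOK cs h X) (hE : EvenSet cs h X S E) {a x : I → ℤ} (ha : Iso cs h E a)
    (hx : x ∈ NI cs h E) : ∀ u ∈ X x, ∀ v ∈ LL X a, u * v = v * u := by
  intro u hu
  have h1 : LL X a ≤ Subgroup.centralizer ({u} : Set Y) := by
    refine sup_le ?_ ?_ <;> intro v hv <;> rw [Subgroup.mem_centralizer_iff] <;> rintro _ rfl
    · exact comm_of_NI hc hE ha (Or.inl rfl) hx _ hu _ hv
    · exact comm_of_NI hc hE ha (Or.inr rfl) hx _ hu _ hv
  intro v hv
  exact Subgroup.mem_centralizer_iff.1 (h1 hv) u rfl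

/-- `⟨X a, X (-a)⟩` centralizes `⟨X x | x ∈ NI E⟩` -/
theorem LL_le_cent (hc : CommOK cs h X) (hE : EvenSet cs h X S E) {a : I → ℤ} (ha : Iso cs h E a) :
    LL X a ≤ Subgroup.centralizer (RGD.Sup X (NI cs h E) : Set Y) := by
  intro v hv
  rw [Subgroup.mem_centralizer_iff]
  intro u hu
  exact (comm_Sup (u := v) (fun x hx u hu => (comm_LL hc hE ha hx u hu v hv).symm) u hu).symm

include R

/-- **`C(S)` normalizes `⟨X a, X (-a)⟩`.** -/
theorem cent_le_norm_LL (hS : S ⊆ T) (hG : GG cs h T X = ⊤) (hc : CommOK cs h X) (hE : EvenSet cs h X S E)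
    {a : I → ℤ} (ha : Iso cs h E a) : Subgroup.centralizer S ≤ Subgroup.normalizer (LL X a : Set Y) := by
  intro g hg
  obtain ⟨u, hu, w, k, hk, hkS, v, hv, rfl⟩ := Cfsg.Agent.Nodes.NormalForm.mem_centralizer R
    hS (by rw [hG]; trivial) hg
  have h1 : RGD.Sup (fun x => X x ⊓ Subgroup.centralizer S) (RGD.Pos cs h) ≤
      Subgroup.normalizer (LL X a : Set Y) := by
    refine RGD.Sup_le fun x hx u hu => ?_
    by_cases hxE : x ∈ E
    · by_cases hxN : x ∈ NI cs h E
      · exact mem_norm_of_comm (comm_LL hc hE ha hxN u hu.1)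
      · rcases (ha x).1 ⟨hxE, hxN⟩ with rfl | rfl
        · exact Subgroup.le_normalizer (X_le_LL X _ hu.1)
        · exact Subgroup.le_normalizer (X_neg_le_LL X _ hu.1)
    · have h2 := hE.odd x hx.1 hxE
      have h3 : u ∈ X x ⊓ Subgroup.centralizer S := hu
      rw [h2, Subgroup.mem_bot] at h3
      rw [h3]; exact one_mem _
  have h2 : k ∈ Subgroup.normalizer (LL X a : Set Y) := by
    have har := hE.root a ((ha a).2 (Or.inl rfl)).1
    have key : ∀ {w : W} {k : Y}, Rp cs R.nsys w k → k ∈ Subgroup.centralizer S →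
        cj k (LL X a) ≤ LL X a := by
      intro w k hk hkS
      have h3 : rep cs h w a = a ∨ rep cs h w a = -a := by
        rw [← ha]
        obtain ⟨h4, h5⟩ := (ha a).2 (Or.inl rfl)
        refine ⟨hE.act R hk hkS h4, fun h6 => h5 ?_⟩
        have h7 := NI.act R hE hk.inv (inv_mem hkS) h6
        rwa [rep_inv_apply] at h7
      unfold LL
      rw [cj_sup, R.conj_rp hk har, R.conj_rp hk har.neg, map_neg]
      rcases h3 with h3 | h3 <;> rw [h3]
      rw [neg_neg, sup_comm]
    rw [mem_normalizer_iff_cj]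
    apply le_antisymm (key hk hkS)
    have h3 := key hk.inv (inv_mem hkS)
    have h4 : cj k (cj k⁻¹ (LL X a)) ≤ cj k (LL X a) := cj_mono k h3
    rwa [← cj_mul, mul_inv_cancel, cj_one] at h4
  exact mul_mem (mul_mem (h1 hu) h2) (h1 hv)

/-- a conjugate inside, in a finite group -/
theorem mem_normalizer_of_cj_le [Finite Y] {H : Subgroup Y} {g : Y} (hg : cj g H ≤ H) :
    g ∈ Subgroup.normalizer (H : Set Y) := by
  rw [mem_normalizer_iff_cj]
  apply Subgroup.eq_of_le_of_card_ge hg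
  rw [Cfsg.Agent.Nodes.CardSup.card_cj]

/-- **`N(⟨X a, X (-a)⟩) ≤ ⟨X a, X (-a)⟩ (N(X a) ∩ N(X (-a)))`** -/
theorem exists_mul [Finite Y] (hp : p.Prime) {a : I → ℤ} (ha : IsRoot cs h a) {g : Y}
    (hg : g ∈ Subgroup.normalizer (LL X a : Set Y)) :
    ∃ j ∈ LL X a, j * g ∈ Subgroup.normalizer (X a : Set Y) ∧ j * g ∈ Subgroup.normalizer (X (-a) : Set Y) := by
  have hle : LL X a ≤ T ⊔ LL X a := le_sup_right
  have hgcj : ∀ {g : Y}, g ∈ Subgroup.normalizer (LL X a : Set Y) → ∀ {H : Subgroup Y}, H ≤ LL X a →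
      cj g H ≤ LL X a := by
    intro g hg H hH
    rw [mem_normalizer_iff_cj] at hg
    rw [← hg]
    exact cj_mono g hH
  -- first step
  obtain ⟨j, hj, h1⟩ : ∃ j ∈ LL X a, j * g ∈ Subgroup.normalizer (X a : Set Y) := by
    by_cases hQ : cj g (X a) ≤ X a
    · exact ⟨1, one_mem _, by rw [one_mul]; exact mem_normalizer_of_cj_le R hQ⟩
    · obtain ⟨u, hu, h1⟩ := exists_conj_neg R ha hp (Q := cj g (X a)) ((R.pgrp' ha).map _)
        (le_trans (hgcj hg (X_le_LL X a)) hle) hQ
      obtain ⟨b, hb, hb1⟩ : ∃ b ∈ X (-a), b ≠ 1 := by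
        by_contra h0
        push Not at h0
        exact X_ne_bot R ha.neg ((Subgroup.eq_bot_iff_forall _).2 h0)
      obtain ⟨a0, ha0, c0, hc0, w, hm, hw⟩ := exists_refl_LL R ha hb hb1
      refine ⟨a0 * b * c0 * u, ?_, ?_⟩
      · exact mul_mem (mul_mem (mul_mem (X_le_LL X a ha0) (X_neg_le_LL X a hb)) (X_le_LL X a hc0)) (X_le_LL X a hu)
      · apply mem_normalizer_of_cj_le R
        intro x hx
        rw [mem_cj] at hx
        have h2 : g * ((a0 * b * c0 * u * g)⁻¹ * x * (a0 * b * c0 * u * g)) * g⁻¹ ∈ cj g (X a) := conj_mem_cj.2 hx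
        have h3 := conj_neg R ha hm hw (h1 _ h2)
        have h4 : a0 * b * c0 * (u * (g * ((a0 * b * c0 * u * g)⁻¹ * x * (a0 * b * c0 * u * g)) * g⁻¹) * u⁻¹) *
            (a0 * b * c0)⁻¹ = x := by group
        rwa [h4] at h3
  -- second step
  have hg1 : j * g ∈ Subgroup.normalizer (LL X a : Set Y) := mul_mem (Subgroup.le_normalizer hj) hg
  obtain ⟨u, hu, h2⟩ := exists_conj_neg R ha hp (Q := cj (j * g) (X (-a))) ((R.pgrp' ha.neg).map _)
    (le_trans (hgcj hg1 (X_neg_le_LL X a)) hle) (by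
      intro h3
      rw [← mem_normalizer_iff_cj.1 h1] at h3
      have h4 : X (-a) ≤ X a := by
        have := cj_mono (j * g)⁻¹ h3
        rwa [← cj_mul, ← cj_mul, inv_mul_cancel, cj_one, cj_one] at this
      apply X_ne_bot R ha.neg
      rw [Subgroup.eq_bot_iff_forall]
      intro x hx
      exact eq_one_of_mem_both R ha (h4 hx) hx)
  refine ⟨u * j, mul_mem (X_le_LL X a hu) hj, ?_, ?_⟩
  · rw [mul_assoc]
    exact mul_mem (Subgroup.le_normalizer hu) h1
  · apply mem_normalizer_of_cj_le R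
    intro x hx
    rw [mem_cj] at hx
    have h3 : j * g * ((u * j * g)⁻¹ * x * (u * j * g)) * (j * g)⁻¹ ∈ cj (j * g) (X (-a)) := conj_mem_cj.2 hx
    have h4 := h2 _ h3
    have h5 : u * (j * g * ((u * j * g)⁻¹ * x * (u * j * g)) * (j * g)⁻¹) * u⁻¹ = x := by group
    rwa [h5] at h4

/-- `N(U) = B` -/
theorem mem_B_of_mem_normalizer_U (hG : GG cs h T X = ⊤) {g : Y}
    (hg : g ∈ Subgroup.normalizer (RGD.Sup X (RGD.Pos cs h) : Set Y)) : g ∈ RGD.B cs h T X := by
  obtain ⟨w, b₁, hb₁, k, hk, b₂, hb₂, rfl⟩ := (mem_GG R).1 (show g ∈ GG cs h T X by rw [hG]; trivial)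
  have hkN : k ∈ Subgroup.normalizer (RGD.Sup X (RGD.Pos cs h) : Set Y) := by
    have h1 := R.B_le_normalizer_U hb₁
    have h2 := R.B_le_normalizer_U hb₂
    have h3 := mul_mem (mul_mem (inv_mem h1) hg) (inv_mem h2)
    have h4 : b₁⁻¹ * (b₁ * k * b₂) * b₂⁻¹ = k := by group
    rwa [h4] at h3
  have hw : w = 1 := by
    apply eq_one_of_nonneg cs h
    intro i
    have h1 := (isRoot_sr cs h i).act w
    rcases h1.pos_or_neg with h2 | h2
    · exact h2
    · exfalso
      apply X_ne_bot R h1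
      rw [Subgroup.eq_bot_iff_forall]
      intro x hx
      refine eq_one_of_mem_U_of_mem_BN R ?_ (X_le_BN h1 h2 hx)
      rw [← R.conj_rp hk (isRoot_sr cs h i), mem_cj] at hx
      rw [← mem_normalizer_iff_cj.1 hkN, mem_cj]
      exact RGD.le_Sup (S := RGD.Pos cs h) ⟨isRoot_sr cs h i, sr_nonneg i⟩ hx
  subst hw
  exact mul_mem (mul_mem hb₁ (RGD.T_le_B hk.mem_of_one)) hb₂

/-- `N(U⁻) = B⁻` -/
theorem mem_BN_of_mem_normalizer_UN (hG : GG cs h T X = ⊤) {g : Y}
    (hg : g ∈ Subgroup.normalizer (UN cs h X : Set Y)) : g ∈ BN cs h T X := by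
  obtain ⟨k, hk⟩ := exists_rp cs R.nsys (w0 cs)
  rw [← cj_U R hk, normalizer_cj, mem_cj] at hg
  have h1 := mem_B_of_mem_normalizer_U R hG hg
  rwa [← mem_cj, cj_B R hk] at h1

/-- **`L_J ∩ C(⟨X x | x ∈ RootsJ⟩) ≤ T`** -/
theorem LJ_inf_cent (hG : GG cs h T X = ⊤) {J : Set I} {g : Y} (hg : g ∈ LJ cs h T X J)
    (hc : g ∈ Subgroup.centralizer (RGD.Sup X (RootsJ cs h J) : Set Y)) : g ∈ T := by
  have hcx : ∀ {g : Y}, g ∈ Subgroup.centralizer (RGD.Sup X (RootsJ cs h J) : Set Y) →
      ∀ x ∈ RootsJ cs h J, cj g (X x) ≤ X x := by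
    intro g hc x hx u hu
    rw [mem_cj] at hu
    have h1 := Subgroup.mem_centralizer_iff.1 hc _ (RGD.le_Sup hx hu)
    have h2 : g⁻¹ * u * g = u := by
      have h3 : g * (g⁻¹ * u * g) = u * g := by group
      rw [← h1] at h3
      exact mul_right_cancel h3
    rwa [h2] at hu
  have key : ∀ {g : Y}, g ∈ LJ cs h T X J → g ∈ Subgroup.centralizer (RGD.Sup X (RootsJ cs h J) : Set Y) →
      cj g (RGD.Sup X (RGD.Pos cs h)) ≤ RGD.Sup X (RGD.Pos cs h) := by
    intro g hg hc
    rw [RGD.cj_Sup]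
    refine iSup_le ?_
    rintro ⟨x, hx⟩
    rcases mem_PosJ_or_NotJ J hx.1 hx.2 with h1 | h1
    · exact le_trans (hcx hc x (PosJ_subset J h1)) (RGD.le_Sup (S := RGD.Pos cs h) hx)
    · have h2 := mem_normalizer_iff_cj.1 (LJ_le_normalizer_VJ R J hg)
      exact le_trans (cj_mono g (RGD.le_Sup (S := NotJ cs h J) h1)) (le_trans (le_of_eq h2) (VJ_le_U J))
  have key' : ∀ {g : Y}, g ∈ LJ cs h T X J → g ∈ Subgroup.centralizer (RGD.Sup X (RootsJ cs h J) : Set Y) →
      cj g (UN cs h X) ≤ UN cs h X := by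
    intro g hg hc
    unfold UN
    rw [RGD.cj_Sup]
    refine iSup_le ?_
    rintro ⟨x, hx⟩
    rcases mem_PosJ_or_NotJ J hx.1.neg (neg_nonneg.2 hx.2) with h1 | h1
    · have h3 : x ∈ RootsJ cs h J := by
        have := RootsJ.neg (PosJ_subset J h1)
        rwa [neg_neg] at this
      exact le_trans (hcx hc x h3) (RGD.le_Sup (S := Neg cs h) hx)
    · have h2 := mem_normalizer_iff_cj.1 (LJ_le_normalizer_VNJ R J hg)
      exact le_trans (cj_mono g (RGD.le_Sup (S := NotNJ cs h J) h1)) (le_trans (le_of_eq h2) (VNJ_le_UN J))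
  have hfin : ∀ {H : Subgroup Y}, (∀ g ∈ LJ cs h T X J, g ∈ Subgroup.centralizer
      (RGD.Sup X (RootsJ cs h J) : Set Y) → cj g H ≤ H) → g ∈ Subgroup.normalizer (H : Set Y) := by
    intro H hH
    rw [mem_normalizer_iff_cj]
    apply le_antisymm (hH g hg hc)
    have h4 : cj g (cj g⁻¹ H) ≤ cj g H := cj_mono g (hH _ (inv_mem hg) (inv_mem hc))
    rwa [← cj_mul, mul_inv_cancel, cj_one] at h4
  have h1 := mem_B_of_mem_normalizer_U R hG (hfin fun g hg hc => key hg hc)
  have h2 := mem_BN_of_mem_normalizer_UN R hG (hfin fun g hg hc => key' hg hc)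
  rw [← B_inf_BN R]
  exact ⟨h1, h2⟩

/-- **`C(S) ∩ C(L) ≤ ⟨X a, X (-a)⟩ (T ∩ C(L))`** -/
theorem exists_mem [Finite Y] (hp : p.Prime) (hS : S ⊆ T) (hG : GG cs h T X = ⊤) (hc : CommOK cs h X)
    (hE : EvenSet cs h X S E) {a : I → ℤ} (ha : Iso cs h E a) (hdom : Dom A a)
    (hhigh : ∀ x, IsRoot cs h x → 0 ≤ x → ¬ IsRoot cs h (x + a)) (hJ : NI cs h E = RootsJ cs h (orth cs h a))
    {g : Y} (hg : g ∈ Subgroup.centralizer S) (hgL : g ∈ Subgroup.centralizer (RGD.Sup X (NI cs h E) : Set Y)) :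
    ∃ j ∈ LL X a, j * g ∈ T ∧ j * g ∈ Subgroup.centralizer (RGD.Sup X (NI cs h E) : Set Y) := by
  have har := hE.root a ((ha a).2 (Or.inl rfl)).1
  obtain ⟨j, hj, h1, h2⟩ := exists_mul R hp har (cent_le_norm_LL R hS hG hc hE ha hg)
  refine ⟨j, hj, ?_⟩
  have h3 : j * g ∈ Subgroup.centralizer (RGD.Sup X (NI cs h E) : Set Y) := mul_mem (LL_le_cent hc hE ha hj) hgL
  refine ⟨?_, h3⟩
  have h0 : 0 ≤ a := by
    rcases har.pos_or_neg with h4 | h4
    · exact h4
    · exfalso
      have h5 := form_nonneg_of_dom cs h hdom (neg_nonneg.2 h4)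
      rw [form_neg_right] at h5
      have h6 := form_pos cs h har.ne_zero
      omega
  -- `B` normalizes `X a`
  have hB : RGD.B cs h T X ≤ Subgroup.normalizer (X a : Set Y) := by
    refine sup_le (fun t ht => ?_) (RGD.Sup_le fun x hx => ?_)
    · rw [mem_normalizer_iff_cj]; exact R.tor a har t ht
    · by_cases hxa : x = a
      · subst hxa; exact Subgroup.le_normalizer
      · intro u hu
        refine mem_norm_of_comm fun v hv => hc x a hx.1 har ?_ (hhigh x hx.1 hx.2) u hu v hv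
        intro h3
        have h4 := hx.2
        rw [h3] at h4
        exact har.not_pos_neg h0 (neg_nonneg.1 h4)
  have L := long_X R har hdom hB
  obtain ⟨b, hb, hb1⟩ : ∃ b ∈ X (-a), b ≠ 1 := by
    by_contra h0
    push Not at h0
    exact X_ne_bot R har.neg ((Subgroup.eq_bot_iff_forall _).2 h0)
  obtain ⟨a0, ha0, c0, hc0, w, hm, hw⟩ := exists_refl_LL R har hb hb1
  have hwa : rep cs h w a = -a := by
    rw [hw, Cfsg.Agent.Nodes.Coroot.cpr_self cs h har]
    module
  have h4 := L.normalizer_inf_opp hm hwa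
  rw [R.conj_rp hm har, hwa] at h4
  have h5 : j * g ∈ LJ cs h T X (orth cs h a) := by
    rw [← h4]
    exact ⟨⟨h1, h2⟩, by rw [hG]; trivial⟩
  rw [hJ] at h3
  exact LJ_inf_cent R hG h5 h3

/-- an element of the torus centralizing the root groups of the fundamental roots is trivial -/
theorem eq_one_of_simple (hG1 : RGD.Sup X {x | IsRoot cs h x} = ⊤)
    (hZ : Subgroup.center Y = ⊥) {t : Y} (ht : t ∈ T) (hc : ∀ i, ∀ u ∈ X (sr i), t * u = u * t) : t = 1 := by
  rw [← Subgroup.mem_bot, ← hZ, Subgroup.mem_center_iff]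
  have h1 : RGD.Sup X {x | IsRoot cs h x} ≤ Subgroup.centralizer {t} := by
    refine Cfsg.Agent.KFacts.RgdRigid.Sup_le_of_simple R (fun i u hu => ?_) (fun i u hu => ?_)
    · rw [Subgroup.mem_centralizer_singleton_iff]
      exact (hc i u hu).symm
    · rw [Subgroup.mem_centralizer_singleton_iff]
      exact ((Cfsg.Agent.KFacts.RgdCent.cen_neg R ht (b := sr i) ⟨isRoot_sr cs h i, hc i⟩).2 u hu).symm
  rw [hG1] at h1
  intro g
  exact Subgroup.mem_centralizer_singleton_iff.1 (h1 (Subgroup.mem_top g))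

end

end Cfsg.Agent.AschComp.Exc

end

-- merged: Cfsg.Agent.AschComp.ExcChev
section

/-!
# `F₄(3)`, `E₆(3)`, `E₇(3)`, `E₈(3)`: an involution with a standard component (helper37, S1308)

`z` the involution of the long root `SL₂(3)` of the highest root `a`, `L = HL f` the component of `C(z)`;
`C(z) ∩ C(L) = ⟨X a, X (-a)⟩ ≅ SL₂(3)` has only one involution.

* `exists_zS` : the torus of `D.group K`, `|K| = 3`, consists of the `zS S`;
* `phiR` : the homomorphism `SL₂(K) → D.group K` of an arbitrary root;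
* `rankOne` : `RankOne (D.group K)` from the tables.
-/

set_option autoImplicit false
set_option linter.unusedSectionVars false

namespace Cfsg.Agent.AschComp.Exc

open CoxeterSystem Subgroup
open Cfsg Cfsg.Lie Cfsg.Lie.ChevalleyDatum
open Cfsg.Agent.ChevalleyStructure Cfsg.Agent.ChevalleyStructure.Elts Cfsg.Agent.ChevalleyStructure.CoxeterGeom
  Cfsg.Agent.ChevalleyStructure.RootVec Cfsg.Agent.ChevalleyStructure.RootVecTab
  Cfsg.Agent.ChevalleyStructure.CoxeterGeomTypes Cfsg.Agent.ChevalleyStructure.NPerm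
open Cfsg.Agent.Tits.Roots Cfsg.Agent.Nodes.Reps Cfsg.Agent.Nodes.BNOf Cfsg.Agent.Nodes.RGDChev
  Cfsg.Agent.Nodes.Bruhat Cfsg.Agent.Nodes.FreeTorus Cfsg.Agent.Nodes.StabComb
open Cfsg.Agent.OddHalf.LongSL Cfsg.Agent.OddHalf.LongSL.Chev
open Cfsg.Agent.KFacts.RgdChevCoord (TT XX nc)
open Cfsg.Agent.GenExc Cfsg.Agent.GenExc.Chev

/-- a group with at most one involution has 2-rank at most 1 -/
theorem prankLE_of_unique {H : Type*} [Group H] {z : H} (h : ∀ x : H, x * x = 1 → x = 1 ∨ x = z) : PRankLE 2 1 H := by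
  intro A _ hA
  have h1 : (A : Set H) ⊆ {1, z} := by
    intro a ha
    have h2 := hA a ha
    rw [pow_two] at h2
    exact h a h2
  calc Nat.card ↥A = (A : Set H).ncard := rfl
    _ ≤ ({1, z} : Set H).ncard := Set.ncard_le_ncard h1
    _ ≤ ({z} : Set H).ncard + 1 := Set.ncard_insert_le 1 _
    _ = 2 ^ 1 := by rw [Set.ncard_singleton]; norm_num

theorem eq_one_or_of_card_three {K : Type*} [Field K] (h3 : Nat.card K = 3) {c : K} (hc : c ≠ 0) : c = 1 ∨ c = -1 := by
  have : Finite K := Nat.finite_of_card_ne_zero (by rw [h3]; norm_num)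
  have := Fintype.ofFinite K
  have h4 := FiniteField.pow_card_sub_one_eq_one c hc
  rw [← Nat.card_eq_fintype_card, h3] at h4
  exact mul_self_eq_one_iff.1 (by rw [← pow_two]; exact h4)

section

variable {D : ChevalleyDatum} {l : ℕ} {M : CoxeterMatrix (Fin l)} (hp : IsType D l M) (K : Type) [Field K]

/-- **The torus of `D.group K`, `|K| = 3`, consists of the `zS S`.** -/
theorem exists_zS (h3 : Nat.card K = 3) {t : ↥(D.group K)} (ht : t ∈ TT D K) : ∃ S, t = zS hp K S := by
  rw [Subgroup.mem_subgroupOf] at ht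
  obtain ⟨c, hc, hw⟩ := S1034.result D hp.inList _ ht
  have key : ∀ L : List ℕ, (∀ i ∈ L, i < D.rank) → ∃ S,
      D.wordMat K (L.flatMap fun i => D.hWord (D.simple i) (c i)) =
        (((zS hp K S : ↥(D.group K)) : GL D.Idx K) : Matrix D.Idx D.Idx K) := by
    intro L
    induction L with
    | nil =>
      intro _
      exact ⟨[], by rw [List.flatMap_nil, wordMat_nil]; rfl⟩
    | cons i L ih =>
      intro hL
      obtain ⟨S, hS⟩ := ih fun j hj => hL j (List.mem_cons_of_mem _ hj)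
      have hi := hL i List.mem_cons_self
      rw [List.flatMap_cons, wordMat_append, hS]
      rcases eq_one_or_of_card_three h3 (hc i hi) with h | h
      · refine ⟨S, ?_⟩
        have h1 : D.wordMat K (D.hWord (D.simple i) (1 : K)) = 1 := by
          have h5 : (hG hp.inList (D.simple i) (1 : K) : GL D.Idx K) = 1 := by
            rw [hG_def]
            have h6 : nG hp.inList (D.simple i) (-1 : K) = (nG hp.inList (D.simple i) (1 : K))⁻¹ :=
              (MonomialNormal.nG_inv hp.inList _ _).symm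
            rw [h6, mul_inv_cancel]
          have h6 := congrArg (fun g : GL D.Idx K => (g : Matrix D.Idx D.Idx K)) h5
          exact h6
        rw [h, h1, one_mul]
      · refine ⟨⟨i, by rw [← hp.rank_eq]; exact hi⟩ :: S, ?_⟩
        rw [zS_cons, Subgroup.coe_mul, Units.val_mul, phi_neg_one, h]
        rfl
  obtain ⟨S, hS⟩ := key (List.range D.rank) fun i hi => List.mem_range.1 hi
  refine ⟨S, Subtype.ext (Units.ext ?_)⟩
  rw [hw, hS]

include hp in
theorem center_eq_bot (h : IsSimpleGroup ↥(D.group K) ∧ ¬ IsMulCommutative ↥(D.group K)) :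
    Subgroup.center ↥(D.group K) = ⊥ := by
  have := h.1
  rcases (inferInstance : (Subgroup.center ↥(D.group K)).Normal).eq_bot_or_eq_top with h1 | h1
  · exact h1
  · exfalso
    apply h.2
    exact ⟨⟨fun a b => by
      have h2 : a ∈ Subgroup.center ↥(D.group K) := by rw [h1]; exact Subgroup.mem_top a
      exact (Subgroup.mem_center_iff.1 h2 b).symm⟩⟩

/-- `zS S = 1` if `csum` is even on the fundamental roots -/
theorem zS_eq_one (h3 : Nat.card K = 3) (hZ : Subgroup.center ↥(D.group K) = ⊥)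
    (S : List (Fin l)) (h : ∀ i : Fin l, Even (csum D S (D.simple i))) : zS hp K S = 1 := by
  have hfK : Finite K := Nat.finite_of_card_ne_zero (by rw [h3]; norm_num)
  have := Fintype.ofFinite K
  obtain ⟨p, hpc⟩ := CharP.exists K
  have hpp : p.Prime := (CharP.char_is_prime_or_zero K p).resolve_right (CharP.char_ne_zero_of_finite K p)
  have : Fact p.Prime := ⟨hpp⟩
  let cs : CoxeterSystem M M.Group := M.toCoxeterSystem
  have hfinW : Finite M.Group := finite_W hp cs
  have := Fintype.ofFinite M.Group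
  refine eq_one_of_simple (rgd (K := K) hp cs p) (G1_eq_top hp cs) hZ (zS_mem_T hp K S) ?_
  intro i u hu
  have hr := RootVec.simple_lt hp.checked (lt_rank hp i)
  rw [← vec_simple hp i] at hu
  exact commute_zS hp K hr (h i) hu

variable {K}

theorem csum_append (D : ChevalleyDatum) {l : ℕ} (S z : List (Fin l)) (r : ℕ) :
    csum D (S ++ z) r = csum D S r + csum D z r := by
  induction S with
  | nil => exact (zero_add _).symm
  | cons i S ih =>
    have h1 : ∀ T, csum D (i :: T) r = D.cartan i r + csum D T r := fun T => rfl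
    rw [List.cons_append, h1, h1, ih]
    ring

/-- `t = zS z` or `t = 1` for `t` in the torus commuting with the root groups of all fundamental roots but `k₀`. -/
theorem eq_zS_of_cent (hZ : Subgroup.center ↥(D.group K) = ⊥)
    (h3 : Nat.card K = 3) (h2 : (2 : K) ≠ 0) {k₀ : Fin l} {z : List (Fin l)}
    (hz : ∀ i : Fin l, i ≠ k₀ → Even (csum D z (D.simple i))) (hz0 : ¬ Even (csum D z (D.simple k₀)))
    {t : ↥(D.group K)} (ht : t ∈ TT D K)
    (hc : ∀ i : Fin l, i ≠ k₀ → ∀ u ∈ XX D l K (vec D l (D.simple i)), t * u = u * t) : t = 1 ∨ t = zS hp K z := by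
  obtain ⟨S, rfl⟩ := exists_zS hp K h3 ht
  have hS : ∀ i : Fin l, i ≠ k₀ → Even (csum D S (D.simple i)) := by
    intro i hi
    by_contra ho
    have hr := RootVec.simple_lt hp.checked (lt_rank hp i)
    have hu : (⟨xG hp.inList (D.simple i) 1, xG_mem_group hp.inList _ 1⟩ : ↥(D.group K)) ∈
      XX D l K (vec D l (D.simple i)) := (mem_XX hp K hr).2 ⟨1, rfl⟩
    have h4 := not_commute_zS hp h2 hr ho hu (hc i hi _ hu)
    have h5 : xG hp.inList (D.simple i) (1 : K) = xG hp.inList (D.simple i) 0 := by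
      rw [xG_zero]; exact congrArg Subtype.val h4
    exact one_ne_zero (xG_injective hp.inList hr h5)
  by_cases h4 : Even (csum D S (D.simple k₀))
  · left
    refine zS_eq_one hp K h3 hZ S fun i => ?_
    by_cases hi : i = k₀
    · rw [hi]; exact h4
    · exact hS i hi
  · right
    have h5 : zS hp K (S ++ z) = 1 := by
      refine zS_eq_one hp K h3 hZ _ fun i => ?_
      rw [csum_append]
      by_cases hi : i = k₀
      · rw [hi]
        exact (Int.not_even_iff_odd.1 h4).add_odd (Int.not_even_iff_odd.1 hz0)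
      · exact (hS i hi).add (hz i hi)
    rw [zS_append] at h5
    have h6 := zS_sq hp K z
    calc zS hp K S = zS hp K S * (zS hp K z * zS hp K z) := by rw [h6, mul_one]
      _ = (zS hp K S * zS hp K z) * zS hp K z := by rw [mul_assoc]
      _ = zS hp K z := by rw [h5, one_mul]

/-! ### The homomorphism `SL₂(K) → D.group K` of a root -/

variable (K)

/-- the homomorphism `SL₂(K) → D.group K` of the root `r` -/
noncomputable def phiR {r : ℕ} (hr : r < D.nroots) : Matrix.SpecialLinearGroup (Fin 2) K →* ↥(D.group K) :=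
  (SL2Hom.phi (SL2All.good_of_mem D hp.inList r hr) K).codRestrict (D.group K) (fun g => by
    have h1 := SL2Hom.range_phi (F := K) (SL2All.good_of_mem D hp.inList r hr)
    have h2 : D.rootSubgroup K r ⊔ D.rootSubgroup K (D.neg r) ≤ D.group K := by
      rw [← XV_vec hp K hr, ← XV_vec hp K (neg_lt hp.inList hr)]
      exact sup_le (XV_le_group hp _) (XV_le_group hp _)
    rw [← h1] at h2
    exact h2 ⟨g, rfl⟩)

variable {r : ℕ} (hr : r < D.nroots)

theorem phiR_up (t : K) : (phiR hp K hr (SL2Hom.up t) : GL D.Idx K) = xG hp.inList r t :=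
  Units.ext (SL2Hom.phi_upper _ _ t rfl)

theorem phiR_lo (t : K) : (phiR hp K hr (SL2Hom.lo t) : GL D.Idx K) = xG hp.inList (D.neg r) t :=
  Units.ext (SL2Hom.phi_lower _ _ t rfl)

theorem phiR_neg_one : (phiR hp K hr (-1) : GL D.Idx K) = hG hp.inList r (-1) := by
  rw [hG_def, ← nmat_sq]
  have h1 : nG hp.inList r (-1 : K) = (phiR hp K hr (SL2Hom.up (-1) * SL2Hom.lo 1 * SL2Hom.up (-1)) : GL D.Idx K) := by
    rw [nG_def, map_mul, map_mul, Subgroup.coe_mul, Subgroup.coe_mul, phiR_up, phiR_lo, inv_neg, inv_one,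
      _root_.neg_neg, mul_assoc]
  rw [h1, ← Subgroup.coe_mul, ← map_mul]

theorem phiR_mem (g : Matrix.SpecialLinearGroup (Fin 2) K) : phiR hp K hr g ∈ LL (XX D l K) (vec D l r) := by
  have h1 : g ∈ (LL (XX D l K) (vec D l r)).comap (phiR hp K hr) := by
    refine (Subgroup.closure_le _).2 ?_ (SL2Hom.mem_closure_SL2 g)
    rintro x (⟨t, rfl⟩ | ⟨t, rfl⟩)
    · exact X_le_LL _ _ ((mem_XX hp K hr).2 ⟨t, phiR_up hp K hr t⟩)
    · refine X_neg_le_LL _ _ ?_
      rw [← vec_neg hp hr]
      exact (mem_XX hp K (neg_lt hp.inList hr)).2 ⟨t, phiR_lo hp K hr t⟩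
  exact h1

theorem LL_le_range : LL (XX D l K) (vec D l r) ≤ (phiR hp K hr).range := by
  refine sup_le ?_ ?_ <;> intro u hu
  · obtain ⟨t, ht⟩ := (mem_XX hp K hr).1 hu
    exact ⟨SL2Hom.up t, Subtype.ext (by rw [phiR_up, ht])⟩
  · rw [← vec_neg hp hr] at hu
    obtain ⟨t, ht⟩ := (mem_XX hp K (neg_lt hp.inList hr)).1 hu
    exact ⟨SL2Hom.lo t, Subtype.ext (by rw [phiR_lo, ht])⟩

theorem phiR_neg_one_mem : phiR hp K hr (-1) ∈ TT D K := by
  rw [Subgroup.mem_subgroupOf, phiR_neg_one]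
  exact hG_mem_diagonal hp.inList hr (neg_ne_zero.2 one_ne_zero)

/-- some exponent is odd -/
def oddExpo (D : ChevalleyDatum) (r : ℕ) : Bool :=
  (List.range D.nroots).any fun s => HMatDiagAll.expo D r s % 2 == 1

theorem phiR_neg_one_ne (h2 : (2 : K) ≠ 0) (ho : oddExpo D r = true) : phiR hp K hr (-1) ≠ 1 := by
  intro h
  have h1 : (hG hp.inList r (-1 : K) : GL D.Idx K) = 1 := by
    rw [← phiR_neg_one hp K hr, h]; rfl
  have h4 : D.hMat K r (-1) = 1 := by
    have := congrArg (fun g : GL D.Idx K => (g : Matrix D.Idx D.Idx K)) h1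
    exact this
  rw [HMatDiagAll.hMat_eq_diagonal hp.inList hr (neg_ne_zero.2 one_ne_zero)] at h4
  obtain ⟨s, hs, h5⟩ := List.any_eq_true.1 ho
  rw [List.mem_range] at hs
  have h6 := congrFun (congrFun h4 (Sum.inr ⟨s, hs⟩)) (Sum.inr ⟨s, hs⟩)
  rw [Matrix.diagonal_apply_eq, Matrix.one_apply_eq, Sum.elim_inr] at h6
  have h7 : Odd (HMatDiagAll.expo D r s) := by
    rw [Int.odd_iff]
    exact beq_iff_eq.1 h5
  rw [h7.neg_one_zpow] at h6
  apply h2
  linear_combination -h6

variable {K}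

theorem phiR_inj (h2 : (2 : K) ≠ 0) (ho : oddExpo D r = true) {g : Matrix.SpecialLinearGroup (Fin 2) K}
    (h : phiR hp K hr g = 1) : g = 1 := by
  have h1 : SL2Hom.phi (SL2All.good_of_mem D hp.inList r hr) K g = 1 := congrArg Subtype.val h
  rcases phi_eq_one _ h1 with h4 | h4
  · exact h4
  · rw [h4] at h
    exact absurd h (phiR_neg_one_ne hp K hr h2 ho)

/-! ### The tables -/

/-- `a` is dominant, orthogonal exactly to the fundamental roots in `Js`; all coefficients of `a` are maximal; `z` is even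
on `a`, even on the fundamental roots in `Js` and odd on the other ones; some exponent of `a` is odd. -/
def chkHigh (D : ChevalleyDatum) {l : ℕ} (a : ℕ) (z Jc : List (Fin l)) : Bool :=
  ((List.finRange l).all fun i => Nat.ble 8 (cart D i a) && (Nat.beq (cart D i a) 8 == !(decide (i ∈ Jc)))) &&
    allLT (fun r => (List.finRange l).all fun i => Nat.ble (dig (code D r) (D.rank - 1 - i)) (dig (code D a) (D.rank - 1 - i)))
      D.nroots && evB D z a && ((List.finRange l).all fun i => evB D z (D.simple i) == !(decide (i ∈ Jc))) && oddExpo D a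

include hp in
theorem chkHigh_spec {a : ℕ} (ha : a < D.nroots) {z Jc : List (Fin l)} (h : chkHigh D a z Jc = true) :
    (∀ i : Fin l, 0 ≤ D.cartan i a ∧ (D.cartan i a = 0 ↔ i ∉ Jc)) ∧
      (∀ r < D.nroots, vec D l r ≤ vec D l a) ∧ Even (csum D z a) ∧
      (∀ i : Fin l, Even (csum D z (D.simple i)) ↔ i ∉ Jc) ∧ oddExpo D a = true := by
  unfold chkHigh at h
  simp only [Bool.and_eq_true, List.all_eq_true, allLT_iff, List.mem_finRange, forall_const] at h
  obtain ⟨⟨⟨⟨h1, h2⟩, h3⟩, h4⟩, h5⟩ := h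
  refine ⟨fun i => ?_, fun r hr i => ?_, (evB_iff hp z ha).1 h3, fun i => ?_, h5⟩
  · obtain ⟨h6, h7⟩ := h1 i
    rw [ble_iff] at h6
    rw [cartan_eq_cart hp.checked (lt_rank hp i) ha]
    refine ⟨by omega, ?_⟩
    rw [beq_iff_eq] at h7
    by_cases hi : i ∈ Jc
    · simp only [hi, decide_true, Bool.not_true] at h7
      simp only [hi, not_true_eq_false, iff_false]
      intro h8
      have h9 : cart D i a = 8 := by omega
      rw [h9] at h7
      exact absurd h7 (by decide)
    · simp only [hi, decide_false, Bool.not_false, beq_iff] at h7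
      simp only [hi, not_false_eq_true, iff_true]
      omega
  · have h6 := h2 r hr i
    rw [ble_iff] at h6
    rw [vec_apply, vec_apply, rt_of_lt hr (lt_rank hp i), rt_of_lt ha (lt_rank hp i)]
    have h7 : ((dig (code D r) (D.rank - 1 - (i : ℕ)) : ℕ) : ℤ) ≤ dig (code D a) (D.rank - 1 - (i : ℕ)) :=
      Int.ofNat_le.2 h6
    exact sub_le_sub_right h7 8
  · have h6 := h4 i
    rw [beq_iff_eq] at h6
    rw [← evB_iff hp z (RootVec.simple_lt hp.checked (lt_rank hp i)), h6]
    simp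

include hp in
/-- **The main theorem**: `RankOne (D.group K)`, `|K| = 3`. -/
theorem rankOne (h3 : Nat.card K = 3) (hZ : Subgroup.center ↥(D.group K) = ⊥) {m : ℕ} {f : Fin (m + 1) ↪ Fin l}
    {z Js : List (Fin l)} {k₀ : Fin l} (S : SubD D f [z] [k₀] Js) {a : ℕ} {ls : List (Fin l)}
    (hchk : GenExc.chk D [z] [k₀] Js [(a, ls)] = true) (hhigh : chkHigh D a z [k₀] = true) : RankOne ↥(D.group K) := by
  classical
  have hfK : Finite K := Nat.finite_of_card_ne_zero (by rw [h3]; norm_num)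
  have := Fintype.ofFinite K
  obtain ⟨p, hpc⟩ := CharP.exists K
  have hpp : p.Prime := (CharP.char_is_prime_or_zero K p).resolve_right (CharP.char_ne_zero_of_finite K p)
  have : Fact p.Prime := ⟨hpp⟩
  have h2 : (2 : K) ≠ 0 := two_ne_of_odd (by rw [← Nat.card_eq_fintype_card, h3]; decide)
  let cs : CoxeterSystem M M.Group := M.toCoxeterSystem
  have hfinW : Finite M.Group := finite_W hp cs
  have := Fintype.ofFinite M.Group
  have hfin : Finite ↥(D.group K) := inferInstance
  have R := rgd (K := K) hp cs p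
  have hG := KFacts.RgdRigid.GG_eq_top (T := TT D K) (G1_eq_top (K := K) hp cs)
  -- the table
  have hchk' := hchk
  unfold GenExc.chk at hchk'
  rw [Bool.and_eq_true, Bool.and_eq_true, allLT_iff, List.all_eq_true, List.all_eq_true] at hchk'
  obtain ⟨⟨c1, c2⟩, -⟩ := hchk'
  have c2' := c2 _ List.mem_cons_self
  rw [Bool.and_eq_true, Bool.and_eq_true, blt_iff] at c2'
  obtain ⟨⟨ha, -⟩, c3⟩ := c2'
  obtain ⟨t1, t2, t3, t4, t5⟩ := chkHigh_spec hp ha hhigh
  -- the even roots
  have hNI : NI cs hp.isCartan (Ev D l [z]) = LR cs hp.isCartan f := NI_eq hp cs f S.hJc hchk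
  have hE := evenSet hp cs h2 (K := K) [z]
  have hS : {y | ∃ S ∈ [z], y = zS hp K S} = {zS hp K z} := by
    ext y
    simp
  rw [hS] at hE
  have hiso : Iso cs hp.isCartan (Ev D l [z]) (vec D l a) := by
    intro x
    rw [hNI]
    constructor
    · rintro ⟨⟨r, hr, rfl, h4⟩, h5⟩
      rw [mem_LR_vec hp cs f S.hJc hr, Bool.not_eq_true] at h5
      have h6 := (Bool.and_eq_true _ _ ▸ c1 r hr : _ ∧ _).1
      unfold chkJ at h6
      rw [h5, cond_false, (all_evB hp hr).2 h4, cond_true, List.any_eq_true] at h6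
      obtain ⟨b, hb, h6⟩ := h6
      rw [List.mem_singleton] at hb
      subst hb
      rw [Bool.or_eq_true, beq_iff, beq_iff] at h6
      rcases h6 with h6 | h6
      · left; rw [h6]
      · right; rw [h6, vec_neg hp ha]
    · have h7 : vec D l a ∈ Ev D l [z] ∧ vec D l a ∉ LR cs hp.isCartan f := by
        refine ⟨(mem_Ev_vec hp ha).2 fun S hS => ?_, ?_⟩
        · rw [List.mem_singleton] at hS
          subst hS
          exact t3
        · rw [mem_LR_vec hp cs f S.hJc ha]
          simpa using c3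
      rintro (rfl | rfl)
      · exact h7
      · refine ⟨hE.neg _ h7.1, fun h8 => h7.2 ?_⟩
        have := LR_neg f h8
        rwa [_root_.neg_neg] at this
  have hdom : Dom (cartanOf D l) (vec D l a) := by
    intro i
    rw [pairing_vec hp i ha]
    exact (t1 i).1
  have hhigh' : ∀ x, IsRoot cs hp.isCartan x → 0 ≤ x → ¬ IsRoot cs hp.isCartan (x + vec D l a) := by
    intro x hx h0 hr
    obtain ⟨r, hr, e⟩ := (isRoot_iff hp cs _).1 hr
    have h4 := t2 r hr
    rw [e] at h4
    have h5 : x ≤ 0 := by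
      intro i
      have h6 : x i + vec D l a i ≤ vec D l a i := h4 i
      show x i ≤ (0 : ℤ)
      linarith
    exact hx.not_pos_neg h0 h5
  have hJ : NI cs hp.isCartan (Ev D l [z]) = RootsJ cs hp.isCartan (orth cs hp.isCartan (vec D l a)) := by
    rw [hNI]
    ext x
    have hiff : ∀ k : Fin l, (∀ j, f j ≠ k) ↔ k ∉ orth cs hp.isCartan (vec D l a) := by
      intro k
      rw [mem_orth, pairing_vec hp k ha, (t1 k).2, not_not, S.hJc]
    unfold LR RootsJ
    simp only [Set.mem_ofPred_eq, hiff]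
  -- the component
  have hLn := S.normalizes hp cs p h2 (K := K)
  have hLq := S.isQuasisimple hp cs p h2 (K := K)
  rw [hS] at hLn
  have hL : HL cs hp.isCartan (XX D l K) f = RGD.Sup (XX D l K) (NI cs hp.isCartan (Ev D l [z])) := by
    rw [hNI]; rfl
  have hLz : HL cs hp.isCartan (XX D l K) f ≤ centralizer ({zS hp K z} : Set ↥(D.group K)) := by
    refine RGD.Sup_le fun x hx => ?_
    rw [← hNI] at hx
    exact hE.even x hx.1
  have hodd : ¬ Even (csum D z (D.simple k₀)) := by
    rw [t4]; simp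
  have hz1 : zS hp K z ≠ 1 := zS_ne_one hp h2 (RootVec.simple_lt hp.checked (lt_rank hp k₀)) hodd
  have hzJ : zS hp K z = phiR hp K ha (-1) := by
    have h4 := eq_zS_of_cent hp hZ h3 h2 (k₀ := k₀) (z := z) (fun i hi => (t4 i).2 (by simpa using hi)) hodd
      (phiR_neg_one_mem hp K ha) (by
        intro i hi u hu
        have h5 : vec D l (D.simple i) ∈ NI cs hp.isCartan (Ev D l [z]) := by
          have h6 : ∃ j, f j = i := by
            by_contra h7
            push Not at h7
            have h8 := (S.hJc i).2 h7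
            rw [List.mem_singleton] at h8
            exact hi h8
          obtain ⟨j, rfl⟩ := h6
          rw [hNI]
          exact vec_simple_mem hp cs f j
        exact (comm_LL (commOK hp cs) hE hiso h5 u hu _ (phiR_mem hp K ha (-1))).symm)
    rcases h4 with h4 | h4
    · exact absurd h4 (phiR_neg_one_ne hp K ha h2 t5)
    · exact h4.symm
  refine ⟨zS hp K z, HL cs hp.isCartan (XX D l K) f, ?_, ?_, Or.inr ?_⟩
  · rw [orderOf_eq_prime_iff]
    exact ⟨by rw [pow_two, zS_sq], hz1⟩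
  · exact OddTab.isComponentOf_of_normalized hLz hLq fun g hg x hx => (mem_normalizer_iff.1 (hLn hg) x).1 hx
  · refine prankLE_of_unique (z := ⟨zS hp K z, ?_⟩) ?_
    · refine ⟨mem_centralizer_singleton_iff.2 rfl, ?_⟩
      show zS hp K z ∈ centralizer (HL cs hp.isCartan (XX D l K) f : Set ↥(D.group K))
      rw [mem_centralizer_iff]
      intro u hu
      exact mem_centralizer_singleton_iff.1 (hLz hu)
    · rintro ⟨y, hy1, hy2⟩ hy
      have hy' : y * y = 1 := congrArg Subtype.val hy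
      rw [hL] at hy2
      obtain ⟨j, hj, h4, h5⟩ := exists_mem R hpp (S := {zS hp K z}) (by
        rintro _ rfl
        exact zS_mem_T hp K z) hG (commOK hp cs) hE hiso hdom hhigh' hJ hy1 hy2
      have h6 := eq_zS_of_cent hp hZ h3 h2 (k₀ := k₀) (z := z) (fun i hi => (t4 i).2 (by simpa using hi)) hodd
        h4 (by
          intro i hi u hu
          have h7 : vec D l (D.simple i) ∈ NI cs hp.isCartan (Ev D l [z]) := by
            have h6 : ∃ j, f j = i := by
              by_contra h7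
              push Not at h7
              have h8 := (S.hJc i).2 h7
              rw [List.mem_singleton] at h8
              exact hi h8
            obtain ⟨j, rfl⟩ := h6
            rw [hNI]
            exact vec_simple_mem hp cs f j
          exact (mem_centralizer_iff.1 h5 u (RGD.le_Sup h7 hu)).symm)
      have h7 : y ∈ (phiR hp K ha).range := by
        have h8 : y = j⁻¹ * (j * y) := by group
        rw [h8]
        refine mul_mem (inv_mem (LL_le_range hp K ha hj)) ?_
        rcases h6 with h6 | h6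
        · rw [h6]; exact one_mem _
        · rw [h6, hzJ]; exact ⟨-1, rfl⟩
      obtain ⟨g, rfl⟩ := h7
      rw [← map_mul] at hy'
      rcases Lib.PSL2Inv.sq_eq_one h2 (phiR_inj hp ha h2 t5 hy') with h8 | h8
      · left
        apply Subtype.ext
        change phiR hp K ha g = 1
        rw [h8, map_one]
      · right
        apply Subtype.ext
        change phiR hp K ha g = zS hp K z
        rw [h8, hzJ]

end

end Cfsg.Agent.AschComp.Exc

end

-- merged: Cfsg.Agent.AschComp.ExcData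
section

/-!
# The rows `f4`, `e6`, `e7`, `e8` of S1308 (helper37)
-/

set_option autoImplicit false

namespace Cfsg.Agent.AschComp.ExcData

open Cfsg Cfsg.Lie Cfsg.Agent.GenExc Cfsg.Agent.GenExc.Chev Cfsg.Agent.AschComp.Exc

theorem f4 (F : Type) [Field F] [Fintype F] (hF : Fintype.card F = 3) : RankOne ↥(Lie.chevF4.group F) :=
  rankOne isType_F4 (by rw [Nat.card_eq_fintype_card, hF])
    (center_eq_bot isType_F4 _ (Cfsg.Agent.S1054.result _ (by simp))) subF4 (a := 47)
    (ls := [0, 1, 1, 2, 2, 2, 3, 3]) (by decide +kernel) (by decide +kernel)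

theorem e6 (F : Type) [Field F] [Fintype F] (hF : Fintype.card F = 3) : RankOne ↥(Lie.chevE6.group F) :=
  rankOne isType_E6 (by rw [Nat.card_eq_fintype_card, hF])
    (center_eq_bot isType_E6 _ (Cfsg.Agent.S1054.result _ (by simp))) subE6 (a := 71)
    (ls := [0, 1, 1, 2, 2, 3, 3, 3, 4, 4, 5]) (by decide +kernel) (by decide +kernel)

theorem e7 (F : Type) [Field F] [Fintype F] (hF : Fintype.card F = 3) : RankOne ↥(Lie.chevE7.group F) :=
  rankOne isType_E7 (by rw [Nat.card_eq_fintype_card, hF])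
    (center_eq_bot isType_E7 _ (Cfsg.Agent.S1054.result _ (by simp))) subE7 (a := 125)
    (ls := [0, 0, 1, 1, 2, 2, 2, 3, 3, 3, 3, 4, 4, 4, 5, 5, 6]) (by decide +kernel) (by decide +kernel)

theorem e8 (F : Type) [Field F] [Fintype F] (hF : Fintype.card F = 3) : RankOne ↥(Lie.chevE8.group F) :=
  rankOne isType_E8 (by rw [Nat.card_eq_fintype_card, hF])
    (center_eq_bot isType_E8 _ (Cfsg.Agent.S1054.result _ (by simp))) subE8 (a := 239)
    (ls := [0, 0, 1, 1, 1, 2, 2, 2, 2, 3, 3, 3, 3, 3, 3, 4, 4, 4, 4, 4, 5, 5, 5, 5, 6, 6, 6, 7, 7])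
    (by decide +kernel) (by decide +kernel)

end Cfsg.Agent.AschComp.ExcData

end

-- merged: Cfsg.Agent.AschComp.ExcD4
section

/-!
# The row `d4t` of S1308: `³D₄(3)` has a component `SL₂(27)` in the centralizer of an involution (helper37)
-/

set_option autoImplicit false

namespace Cfsg.Agent.AschComp.ExcD4

open Subgroup Cfsg Cfsg.Agent.OddHalf.LongSL

/-- a long `SL₂(q)`, `q > 3`, gives `RankOne` -/
theorem rankOne_of_hasLong {X : Type*} [Group X] {q : ℕ} (hq : 3 < q) (h : HasLong q X) : RankOne X := by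
  obtain ⟨j, J, h1, -, h3, F, i1, i2, h5, h6, ⟨e⟩⟩ := OddTab.comp_of_hasLong h hq
  refine ⟨j, J, h1, h3, Or.inl ?_⟩
  have h2 : (2 : F) ≠ 0 := two_ne_of_odd (h5 ▸ h6)
  have h7 : PRankLE 2 1 (Matrix.SpecialLinearGroup (Fin 2) F) := by
    intro A _ hA
    have h1 : (A : Set (Matrix.SpecialLinearGroup (Fin 2) F)) ⊆ {1, -1} := by
      intro a ha
      have h2' := hA a ha
      rw [pow_two] at h2'
      exact Lib.PSL2Inv.sq_eq_one h2 h2'
    calc Nat.card ↥A = (A : Set (Matrix.SpecialLinearGroup (Fin 2) F)).ncard := rfl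
      _ ≤ ({1, -1} : Set (Matrix.SpecialLinearGroup (Fin 2) F)).ncard := Set.ncard_le_ncard h1
      _ ≤ ({-1} : Set (Matrix.SpecialLinearGroup (Fin 2) F)).ncard + 1 := Set.ncard_insert_le 1 _
      _ = 2 ^ 1 := by rw [Set.ncard_singleton]; norm_num
  exact Cfsg.Agent.CpQuot.Congr.prankLE_of e.symm h7

/-- **The row `d4t` of S1308.** -/
theorem d4t (F : Type) [Field F] [Fintype F] (hF : Fintype.card F = 3 ^ 3) : RankOne ↥(Lie.twistedD4 F 3) :=
  rankOne_of_hasLong (q := 3 ^ 3) (by norm_num)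
    (OddTab.D4Short.hasLong Nat.prime_three.isPrimePow hF (by decide))

end Cfsg.Agent.AschComp.ExcD4

end

-- merged: Cfsg.Agent.AschComp.ExcTwE
section

/-!
# `²E₆(3)`: an involution with a standard component (helper37, S1308)

`z` the involution of the long root `SL₂(3)` of the highest root, `L = ⟨X x | x ∈ C₃⟩` (`SU₆(3)` type) the component of
`C(z)`; `C(z) ∩ C(L) = ⟨X a, X (-a)⟩ ≅ SL₂(3)`.
-/

set_option autoImplicit false
set_option linter.unusedSectionVars false
set_option maxHeartbeats 400000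

namespace Cfsg.Agent.AschComp.ExcTwE

open CoxeterSystem Cfsg.Agent.ChevalleyStructure.CoxeterGeom Cfsg.Agent.Tits.Roots Cfsg.Agent.Tits.Core
  Cfsg.Agent.Tits.RootComb Cfsg.Agent.Nodes.Comb Cfsg.Agent.Nodes.Reps Cfsg.Agent.Nodes.BNOf
  Cfsg.Agent.Nodes.RGDTwGen Cfsg.Agent.Nodes.RGDChev Cfsg.Agent.Nodes.RGDFold
  Cfsg.Agent.Nodes.RGDFoldSL Cfsg.Agent.Nodes.RGDTwE6 Cfsg.Agent.Nodes.RGDTwTab Cfsg.Agent.Nodes.RGDTwCoordE6
  Cfsg.Agent.Nodes.RGDTwCoord Cfsg.Agent.Nodes.RGDTwComE6 Cfsg.Agent.Nodes.RGDTwActE6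
  Cfsg.Agent.Nodes.RGDLib Cfsg.Agent.Nodes.SubComb Cfsg.Agent.Nodes.Sub Cfsg.Agent.Nodes.Bruhat
  Cfsg.Agent.Nodes.FreeTorus Cfsg.Agent.Nodes.StabComb
open Cfsg.Lie Cfsg.Agent.ChevalleyStructure
  Cfsg.Agent.ChevalleyStructure.TwistedU Cfsg.Agent.ChevalleyStructure.TwistedFix
open Cfsg.Agent.ChevalleyStructure.SL2Hom (up lo)
open Cfsg.Agent.KFacts.TwESix.Comb (bf rts mem_rts bf_rep rho rho_root bf_rho pairing_eq)
open Cfsg.Agent.Nodes.RGDTwNode.E6 (nodeOK eps_one rest)
open Cfsg.Agent.UGT.U2.FOne (RA)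
open Cfsg.Agent.UGT.U2.FOne.TwESix
open Cfsg.Agent.GenExc Cfsg.Agent.GenExc.TwE
open Cfsg.Agent.AschComp.Exc
open scoped commutatorElement MatrixGroups

theorem center_eq_bot {K : Type} [Field K] [Fintype K] {q : ℕ} (hq : IsPrimePow q) (hK : Fintype.card K = q ^ 2) :
    Subgroup.center ↥(twistedE6 K q) = ⊥ := by
  obtain ⟨hs, hna⟩ := Cfsg.Agent.S1070.result hq hK
  rcases (inferInstance : (Subgroup.center ↥(twistedE6 K q)).Normal).eq_bot_or_eq_top with h | h
  · exact h
  · exfalso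
    apply hna
    refine ⟨⟨fun a b => ?_⟩⟩
    have : b ∈ Subgroup.center ↥(twistedE6 K q) := by rw [h]; exact Subgroup.mem_top b
    rw [Subgroup.mem_center_iff] at this
    exact this a

variable {K : Type} [Field K] [Fintype K] {φ : K →+* K} (hφ : ∀ x, φ x = x ^ 3)
  (hqq : ∀ t : K, (t ^ 3) ^ 3 = t)

theorem tab_sr : cL [1, 3] (sr 0) % 2 ≠ 0 ∧ ∀ i : Fin 4, i ≠ 0 → cL [1, 3] (sr i) % 2 = 0 := by decide +kernel

theorem tab_sr_mem : ∀ i : Fin 4, (sr i : Fin 4 → ℤ) ∈ rts := by decide +kernel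

theorem lg_sr : Lg (sr 0 : Fin 4 → ℤ) := by
  unfold Lg
  decide +kernel

include hφ in
/-- an element of the torus centralizing the root groups of the fundamental roots `1, 2, 3` -/
theorem eq_zL_of_cent (hK : Fintype.card K = 3 ^ 2) (h2 : (2 : K) ≠ 0) {t : ↥(twistedE6 K 3)} (ht : t ∈ T K 3)
    (hc : ∀ i : Fin 4, i ≠ 0 → ∀ u ∈ X φ 3 (sr i), t * u = u * t) : t = 1 ∨ t = zL hφ hqq [1, 3] := by
  let cs : CoxeterSystem CoxeterMatrix.F₄ CoxeterMatrix.F₄.Group := CoxeterMatrix.F₄.toCoxeterSystem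
  have hfin : Finite CoxeterMatrix.F₄.Group := Cfsg.Agent.KFacts.TwESix.Comb.finiteW cs
  have := Fintype.ofFinite CoxeterMatrix.F₄.Group
  obtain ⟨p, hp'⟩ := CharP.exists K
  have : Fact p.Prime := ⟨CharP.char_is_prime K p⟩
  have R := rgd cs hφ hqq p
  have hZ := center_eq_bot (K := K) (q := 3) (Nat.prime_three.isPrimePow) hK
  have hG1 : RGD.Sup (X φ 3) {x | IsRoot cs isCartan x} = ⊤ := G1_eq_top (cs := cs) hφ hqq
  have h0 := isRoot_sr cs isCartan (0 : Fin 4)
  obtain ⟨χ, hχ0, hok, hact⟩ := conj_T hφ hqq h0 ht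
  have hχ : χ = 1 ∨ χ = -1 := by
    have h1 := (ok_iff_long h0 lg_sr).1 hok
    rw [hφ] at h1
    have h3 : χ ^ 2 = 1 := by
      apply mul_right_cancel₀ hχ0
      rw [one_mul, ← pow_succ, h1]
    rw [pow_two] at h3
    exact mul_self_eq_one_iff.1 h3
  rcases hχ with rfl | rfl
  · left
    refine eq_one_of_simple R hG1 hZ ht fun i u hu => ?_
    by_cases hi : i = 0
    · subst hi
      obtain ⟨a, ha, rfl⟩ := (mem_X hφ hqq h0 _).1 hu
      have := hact a ha
      rwa [one_mul, mul_inv_eq_iff_eq_mul] at this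
    · exact hc i hi u hu
  · right
    have h1 : t * zL hφ hqq [1, 3] = 1 := by
      refine eq_one_of_simple R hG1 hZ (mul_mem ht (zL_mem hφ hqq _)) fun i u hu => ?_
      by_cases hi : i = 0
      · subst hi
        obtain ⟨a, ha, rfl⟩ := (mem_X hφ hqq h0 _).1 hu
        have h3 := conj_zL hφ hqq [1, 3] h0 ha
        rw [neg_one_zpow_odd tab_sr.1] at h3
        have ok : Ok chevE6 J O φ (sr 0) (-1 * a) := Ok.mul hok ha
        have h4 := hact _ ok
        have h5 : (-1 : K) * (-1 * a) = a := by ring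
        rw [h5] at h4
        rw [← mul_inv_eq_iff_eq_mul]
        calc t * zL hφ hqq [1, 3] * x φ 3 (sr 0) a * (t * zL hφ hqq [1, 3])⁻¹
            = t * (zL hφ hqq [1, 3] * x φ 3 (sr 0) a * (zL hφ hqq [1, 3])⁻¹) * t⁻¹ := by group
          _ = x φ 3 (sr 0) a := by rw [h3, h4]
      · have h3 := zL_even hφ hqq [1, 3] (isRoot_sr cs isCartan i) (tab_sr.2 i hi) hu
        rw [mul_assoc, h3, ← mul_assoc, hc i hi u hu, mul_assoc]
    have h3 := zL_sq hφ hqq [1, 3]
    calc t = t * (zL hφ hqq [1, 3] * zL hφ hqq [1, 3]) := by rw [h3, mul_one]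
      _ = (t * zL hφ hqq [1, 3]) * zL hφ hqq [1, 3] := by rw [mul_assoc]
      _ = zL hφ hqq [1, 3] := by rw [h1, one_mul]

set_option maxRecDepth 20000 in
theorem tab_iso : ∀ x ∈ rts, (cL [1, 3] x % 2 = 0 ∧ ¬ (x 0 = 0)) ↔ x = rho ∨ x = -rho := by decide +kernel

theorem tab_rho : rho ∈ rts ∧ -rho ∈ rts ∧ (∀ i, 0 ≤ pairing A i rho) ∧ (∀ i, pairing A i rho = 0 ↔ i ≠ 0) := by
  decide +kernel

set_option maxRecDepth 20000 in
theorem tab_high : ∀ x ∈ rts, (∀ i, 0 ≤ x i) → x + rho ∉ rts := by decide +kernel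

open Subgroup in
include hφ hqq in
/-- **`RankOne (²E₆(3))`** -/
theorem rankOne_of (hK : Fintype.card K = 3 ^ 2) : RankOne ↥(twistedE6 K 3) := by
  classical
  let cs : CoxeterSystem CoxeterMatrix.F₄ CoxeterMatrix.F₄.Group := CoxeterMatrix.F₄.toCoxeterSystem
  have hfinW : Finite CoxeterMatrix.F₄.Group := Cfsg.Agent.KFacts.TwESix.Comb.finiteW cs
  have := Fintype.ofFinite CoxeterMatrix.F₄.Group
  have hfin : Finite ↥(twistedE6 K 3) := inferInstance
  obtain ⟨p, hp'⟩ := CharP.exists K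
  have hpp : p.Prime := CharP.char_is_prime K p
  have : Fact p.Prime := ⟨hpp⟩
  have h2 : (2 : K) ≠ 0 := OddHalf.LongSL.two_ne_of_odd (by rw [hK]; decide)
  have R := rgd cs hφ hqq p
  have hG := GG_top (cs := cs) φ hφ hqq
  have hE := evenSet hφ hqq cs h2 [[1, 3]]
  have hS : {y | ∃ S ∈ ([[1, 3]] : List (List (Fin 4))), y = zL hφ hqq S} = {zL hφ hqq [1, 3]} := by
    ext y
    simp
  rw [hS] at hE
  have hNI := sub3.NI_eq cs
  have hmem : ∀ x, x ∈ LR cs isCartan f3 ↔ x ∈ rts ∧ x 0 = 0 := by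
    intro x
    rw [sub3.mem_LR]
    simp
  have hiso : Iso cs isCartan (Ee [[1, 3]]) rho := by
    intro x
    rw [hNI, hmem]
    have hEe : x ∈ Ee [[1, 3]] ↔ x ∈ rts ∧ cL [1, 3] x % 2 = 0 := by
      unfold Ee
      simp
    rw [hEe]
    constructor
    · rintro ⟨⟨h3, h4⟩, h5⟩
      exact (tab_iso x h3).1 ⟨h4, fun h => h5 ⟨h3, h⟩⟩
    · intro h3
      have h4 : x ∈ rts := by
        rcases h3 with rfl | rfl
        · exact tab_rho.1
        · exact tab_rho.2.1
      obtain ⟨h5, h6⟩ := (tab_iso x h4).2 h3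
      exact ⟨⟨h4, h5⟩, fun h => h6 h.2⟩
  have hdom : Dom A rho := tab_rho.2.2.1
  have hhigh : ∀ x, IsRoot cs isCartan x → 0 ≤ x → ¬ IsRoot cs isCartan (x + rho) := fun x hx h0 hr =>
    tab_high x ((mem_rts cs).1 hx) h0 ((mem_rts cs).1 hr)
  have hJ : NI cs isCartan (Ee [[1, 3]]) = RootsJ cs isCartan (orth cs isCartan rho) := by
    rw [hNI]
    ext x
    have hiff : ∀ k : Fin 4, k ∉ orth cs isCartan rho ↔ k = 0 := by
      intro k
      rw [mem_orth, tab_rho.2.2.2, not_not]
    rw [hmem]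
    unfold RootsJ
    simp only [Set.mem_ofPred_eq, hiff, forall_eq, mem_rts]
  -- the component
  have hLn := sub3.normalizes hφ hqq cs p h2
  have hLq := sub3.isQuasisimple hφ hqq cs p le_rfl hK perf3
  rw [hS] at hLn
  have hL : HL cs isCartan (X φ 3) f3 = RGD.Sup (X φ 3) (NI cs isCartan (Ee [[1, 3]])) := by
    rw [hNI]; rfl
  have hLz : HL cs isCartan (X φ 3) f3 ≤ centralizer ({zL hφ hqq [1, 3]} : Set ↥(twistedE6 K 3)) := by
    refine RGD.Sup_le fun x hx => ?_
    rw [← hNI] at hx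
    exact hE.even x hx.1
  have hsr : ∀ i : Fin 4, i ≠ 0 → sr i ∈ NI cs isCartan (Ee [[1, 3]]) := by
    intro i hi
    rw [hNI, hmem]
    exact ⟨tab_sr_mem i, sr_ne (Ne.symm hi)⟩
  have hz1 : zL hφ hqq [1, 3] ≠ 1 := zL_ne_one hφ hqq cs p h2 ⟨sr 0, tab_sr_mem 0, tab_sr.1⟩
  obtain ⟨Q, hQinj, hQr, hQI⟩ := exists_Q (cs := cs) hφ hqq p h2 (b := rho) (rho_root cs)
    Cfsg.Agent.KFacts.TwESix.Comb.rho_long
  have h2F : (2 : Fq φ) ≠ 0 := by
    intro h
    apply h2
    have h3 := congrArg (Fq φ).subtype h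
    rwa [map_ofNat, map_zero] at h3
  have hQm : ∀ g, Q g ∈ LL (X φ 3) rho := by
    intro g
    have : Q g ∈ RA (X φ 3) rho := by rw [← hQr]; exact ⟨g, rfl⟩
    exact this
  have hzJ : zL hφ hqq [1, 3] = Q (-1) := by
    have h4 := eq_zL_of_cent hφ hqq hK h2 hQI.mem (fun i hi u hu =>
      (comm_LL (commOK hφ hqq cs) hE hiso (hsr i hi) u hu _ (hQm (-1))).symm)
    rcases h4 with h4 | h4
    · exfalso
      rw [← map_one Q] at h4
      exact OddHalf.LongSL.neg_one_ne h2F (hQinj h4)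
    · exact h4.symm
  refine ⟨zL hφ hqq [1, 3], HL cs isCartan (X φ 3) f3, ?_, ?_, Or.inr ?_⟩
  · rw [orderOf_eq_prime_iff]
    exact ⟨by rw [pow_two, zL_sq], hz1⟩
  · exact OddTab.isComponentOf_of_normalized hLz hLq fun g hg x hx => (mem_normalizer_iff.1 (hLn hg) x).1 hx
  · refine prankLE_of_unique (z := ⟨zL hφ hqq [1, 3], ?_⟩) ?_
    · refine ⟨mem_centralizer_singleton_iff.2 rfl, ?_⟩
      show zL hφ hqq [1, 3] ∈ centralizer (HL cs isCartan (X φ 3) f3 : Set ↥(twistedE6 K 3))
      rw [mem_centralizer_iff]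
      intro u hu
      exact mem_centralizer_singleton_iff.1 (hLz hu)
    · rintro ⟨y, hy1, hy2⟩ hy
      have hy' : y * y = 1 := congrArg Subtype.val hy
      rw [hL] at hy2
      obtain ⟨j, hj, h4, h5⟩ := exists_mem R hpp (S := {zL hφ hqq [1, 3]}) (by
        rintro _ rfl
        exact zL_mem hφ hqq _) hG (commOK hφ hqq cs) hE hiso hdom hhigh hJ hy1 hy2
      have h6 := eq_zL_of_cent hφ hqq hK h2 h4 (fun i hi u hu =>
        (mem_centralizer_iff.1 h5 u (RGD.le_Sup (hsr i hi) hu)).symm)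
      have h7 : y ∈ Q.range := by
        have h8 : y = j⁻¹ * (j * y) := by group
        rw [h8]
        refine mul_mem (inv_mem ?_) ?_
        · rw [hQr]; exact hj
        · rcases h6 with h6 | h6
          · rw [h6]; exact one_mem _
          · rw [h6, hzJ]; exact ⟨-1, rfl⟩
      obtain ⟨g, rfl⟩ := h7
      rw [← map_mul, ← map_one Q] at hy'
      rcases Lib.PSL2Inv.sq_eq_one h2F (hQinj hy') with h8 | h8
      · left
        apply Subtype.ext
        change Q g = 1
        rw [h8, map_one]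
      · right
        apply Subtype.ext
        change Q g = zL hφ hqq [1, 3]
        rw [h8, hzJ]

/-- **The row `e6t` of S1308.** -/
theorem e6t (F : Type) [Field F] [Fintype F] (hF : Fintype.card F = 3 ^ 2) : RankOne ↥(Lie.twistedE6 F 3) := by
  obtain ⟨p, hpc⟩ := CharP.exists F
  have hp : p.Prime := (CharP.char_is_prime_or_zero F p).resolve_right (CharP.char_ne_zero_of_finite F p)
  have : Fact p.Prime := ⟨hp⟩
  have hp3 : p = 3 := by
    obtain ⟨n, -, hn⟩ := FiniteField.card F p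
    have h1 : p ∣ 3 ^ 2 := by
      rw [← hF, hn]
      exact dvd_pow_self p n.pos.ne'
    exact (Nat.prime_dvd_prime_iff_eq hp Nat.prime_three).1 (hp.dvd_of_dvd_pow h1)
  subst hp3
  have : ExpChar F 3 := ExpChar.prime hp
  refine rankOne_of (φ := frobenius F 3) (fun x => ?_) (fun t => ?_) hF
  · exact frobenius_def 3 x
  · rw [← pow_mul]
    have : 3 * 3 = Fintype.card F := by rw [hF]; norm_num
    rw [this]
    exact FiniteField.pow_card t

end Cfsg.Agent.AschComp.ExcTwE

end

-- merged: Cfsg.Agent.AschComp.GoodTools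
section

/-!
# S1308: `GoodRow` from the classes of involutions (helper57)

* `Four X t` : `|C(t) ∩ C(K)|` divides 4 for every component `K` of `C(t)`; invariant under conjugation;
* `goodRow_of_classes` : `GoodRow X` from `Four X s` for representatives `s` of the classes of involutions;
* `four_of_eq` : one component `N`, with `C(t) ∩ C(N)` contained in a set with at most 4 elements, resp. a subgroup of
  order 4; `four_of_no` : no component.
-/

set_option autoImplicit false

namespace Cfsg.Agent.AschComp.GoodTools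

open Subgroup Cfsg Cfsg.Agent.AschComp
open Cfsg.Agent.CTwoTab (subMap isComponentOf_map map_centralizer_singleton)

universe u

/-- `|C(t) ∩ C(K)|` divides 4 for every component `K` of `C(t)` -/
def Four (X : Type*) [Group X] (t : X) : Prop :=
  ∀ K : Subgroup X, IsComponentOf K (centralizer ({t} : Set X)) →
    Nat.card ↥(centralizer ({t} : Set X) ⊓ centralizer (K : Set X)) ∣ 4

theorem card_conj {X : Type*} [Group X] (t : X) (K : Subgroup X) (g : X) :
    Nat.card ↥(centralizer ({g * t * g⁻¹} : Set X) ⊓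
      centralizer ((K.map (MulAut.conj g).toMonoidHom : Subgroup X) : Set X)) =
    Nat.card ↥(centralizer ({t} : Set X) ⊓ centralizer (K : Set X)) := by
  have h1 : (centralizer ({t} : Set X) ⊓ centralizer (K : Set X)).map (MulAut.conj g).toMonoidHom =
      centralizer ({g * t * g⁻¹} : Set X) ⊓
        centralizer ((K.map (MulAut.conj g).toMonoidHom : Subgroup X) : Set X) := by
    rw [Subgroup.map_inf _ _ _ (MulAut.conj g).injective, map_centralizer_singleton, map_centralizer_equiv]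
    rfl
  rw [← h1]
  exact (Nat.card_congr (subMap (MulAut.conj g) _).toEquiv).symm

theorem Four.conj {X : Type*} [Group X] {t : X} (h : Four X t) (g : X) : Four X (g * t * g⁻¹) := by
  intro K hK
  have h1 := isComponentOf_conj hK g⁻¹
  have e : g⁻¹ * (g * t * g⁻¹) * g⁻¹⁻¹ = t := by group
  rw [e] at h1
  have h2 := h _ h1
  have h3 := card_conj t (K.map (MulAut.conj g⁻¹).toMonoidHom) g
  have h4 : (K.map (MulAut.conj g⁻¹).toMonoidHom).map (MulAut.conj g).toMonoidHom = K := by
    rw [Subgroup.map_map]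
    have h5 : (MulAut.conj g).toMonoidHom.comp (MulAut.conj g⁻¹).toMonoidHom = MonoidHom.id X := by
      ext x
      change g * (g⁻¹ * x * g⁻¹⁻¹) * g⁻¹ = x
      group
    rw [h5, Subgroup.map_id]
  rw [h4] at h3
  rw [h3]
  exact h2

/-- `GoodRow X` from representatives of the classes of involutions -/
theorem goodRow_of_classes {X : Type*} [Group X] [Finite X] (P : X → Prop)
    (h : ∀ t : X, orderOf t = 2 → ∃ g s : X, P s ∧ t = g * s * g⁻¹) (hP : ∀ s : X, P s → Four X s) : GoodRow X := by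
  intro t K ht hK _
  obtain ⟨g, s, hs, rfl⟩ := h t ht
  exact goodCent_of_card ((hP s hs).conj g K hK)

/-- no component -/
theorem four_of_no {X : Type*} [Group X] {t : X}
    (h : ∀ K : Subgroup X, ¬ IsComponentOf K (centralizer ({t} : Set X))) : Four X t :=
  fun K hK => absurd hK (h K)

/-- one component `N`, and `C(t) ∩ C(N) ≤ V` with `|V| = 4` -/
theorem four_of_eq {X : Type*} [Group X] {t : X} {N V : Subgroup X}
    (h : ∀ K : Subgroup X, IsComponentOf K (centralizer ({t} : Set X)) → K = N) (hV : Nat.card ↥V = 4)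
    (hle : ∀ x : X, x * t = t * x → (∀ n ∈ N, n * x = x * n) → x ∈ V) : Four X t := by
  intro K hK
  rw [h K hK, ← hV]
  refine Subgroup.card_dvd_of_le ?_
  rintro x ⟨h1, h2⟩
  exact hle x (mem_centralizer_singleton_iff.1 h1) fun n hn => mem_centralizer_iff.1 h2 n hn

end Cfsg.Agent.AschComp.GoodTools

end

-- merged: Cfsg.Agent.AschComp.GoodJTwo
section

/-!
# S1308: the row `J₂` (helper57)

`C(u) = 2² × A₅`: `C(u) ∩ C(A₅) = 2²`.
-/

set_option autoImplicit false

namespace Cfsg.Agent.AschComp.GoodJTwo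

open Subgroup Cfsg Cfsg.Agent.J2Type.Model Cfsg.Agent.J2Type.SPFacts Cfsg.Agent.J2Type.CStruct
open Cfsg.Agent.J3Type.OneClass Cfsg.Agent.J2Type.Base Cfsg.Agent.KFacts.J2.Basic
open Cfsg.Agent.Co2Type.Quad Cfsg.Agent.KFacts.AutLarge Cfsg.Agent.KFacts.J3Sheet
open Cfsg.Agent.KFacts Cfsg.Agent.OddHalf.D4.Spor Cfsg.Agent.OddHalf.D4.Spor.JTwo
open Cfsg.Agent.CTwoTab Cfsg.Agent.AschComp Cfsg.Agent.AschComp.GoodTools

variable {X : Type*} [Group X] {t u : X} {Q : Subgroup (centralizer ({t} : Set X))}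
  {v : Fin 5 → centralizer ({t} : Set X)} {ρ : centralizer ({t} : Set X) →* SP}

theorem four_t [Finite X] (D : Dat t u Q v ρ) : Four X t := by
  have hp2 : Fact (Nat.Prime 2) := ⟨Nat.prime_two⟩
  have hL := large D.cardC D.M
  have S := QMinus.sheet D.cardC D.M
  refine four_of_no (no_comp_of_pGroup (p := 2) (R := Q.map (centralizer ({t} : Set X)).subtype) (map_subtype_le _)
    ?_ ?_ ?_)
  · intro c hc r hr
    exact hL.conj_mem c (mem_cent.1 hc) r hr
  · rw [IsPGroup.iff_card]
    exact ⟨5, by rw [S.card]; norm_num⟩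
  · intro c _ h
    rcases cen_Q D h with rfl | rfl
    · exact one_mem _
    · exact t_mem_Q D

theorem four_u [Finite X] (D : Dat t u Q v ρ) : Four X u := by
  obtain ⟨f, U, V, H0, F⟩ := Cfsg.Agent.J2Type.CentU.main D.F
  obtain ⟨e⟩ := equiv_H0 D F
  have hs := simple_H0 D F
  refine four_of_eq (N := H0) (V := V) (fun K hK => ?_) F.cardV ?_
  · exact comp_eq (isQuasisimple_of_simple (na_alt le_rfl e)) F.str.le
      (fun P hP hperf => perfect_le_of_sq (fun a ha => F.str.sq_mem a ha) P hP hperf) hK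
  · intro x hx hxN
    let N : Subgroup X := centralizer ({u} : Set X) ⊓ centralizer (H0 : Set X)
    have hN : N ≤ V := by
      refine le_V D F ?_ ?_ ?_
      · intro n hn
        exact mem_centralizer_singleton_iff.1 hn.1
      · intro c hc n hn
        have hcu : c ∈ centralizer ({u} : Set X) := mem_centralizer_singleton_iff.2 hc
        refine Subgroup.mem_inf.2 ⟨mul_mem (mul_mem hcu hn.1) (inv_mem hcu), ?_⟩
        rw [mem_centralizer_iff]
        intro h hh
        have h1 : c⁻¹ * h * c ∈ H0 := by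
          have := F.str.conj_mem c⁻¹ (inv_mem hcu) h hh
          rwa [inv_inv] at this
        have h2 := mem_centralizer_iff.1 hn.2 _ h1
        calc h * (c * n * c⁻¹) = c * (c⁻¹ * h * c * n) * c⁻¹ := by group
          _ = c * (n * (c⁻¹ * h * c)) * c⁻¹ := by rw [h2]
          _ = c * n * c⁻¹ * h := by group
      · intro n hn hn0
        have h4 : center H0 = ⊥ := by
          rcases (inferInstance : (center H0).Normal).eq_bot_or_eq_top with h | h
          · exact h
          · exfalso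
            apply F.f_ne t F.zU D.t_ne
            have h6 : (⟨f, F.f_mem⟩ : H0) ∈ center H0 := by rw [h]; trivial
            exact (congrArg Subtype.val (mem_center_iff.1 h6 ⟨t, F.U_le F.zU⟩)).symm
        have h5 : (⟨n, hn0⟩ : H0) ∈ center H0 :=
          mem_center_iff.2 fun c => Subtype.ext (mem_centralizer_iff.1 hn.2 c c.2)
        rw [h4, mem_bot] at h5
        exact congrArg Subtype.val h5
    exact hN ⟨mem_centralizer_singleton_iff.2 hx, mem_centralizer_iff.2 hxN⟩

/-- **`J₂`** -/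
theorem good_of_iso {X : Type*} [Group X] [Finite X] (h : Cfsg.Spor.IsoJ2 X) : GoodRow X := by
  obtain ⟨t, u, Q, v, ρ, D⟩ := Cfsg.Agent.KFacts.J2.Facts.exists_dat_of h
  refine goodRow_of_classes (fun s => s = t ∨ s = u) (fun a ha => ?_) ?_
  · have haa : a * a = 1 := by rw [← pow_two, ← ha, pow_orderOf_eq_one]
    rcases D.F.cover a ha with h | h
    · obtain ⟨g, hg⟩ := isConj_iff.1 h
      exact ⟨g, t, Or.inl rfl, hg.symm⟩
    · obtain ⟨g, hg⟩ := isConj_iff.1 h
      exact ⟨g, u, Or.inr rfl, hg.symm⟩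
  · rintro s (rfl | rfl)
    · exact four_t D
    · exact four_u D

/-- the field `j2` of `Rows` -/
theorem j2 [Finite Cfsg.Spor.J2] : GoodRow Cfsg.Spor.J2 := good_of_iso ⟨MulEquiv.refl _⟩

end Cfsg.Agent.AschComp.GoodJTwo

end

-- merged: Cfsg.Agent.AschComp.GoodHe
section

/-!
# S1308: the row `He` (helper57)

`C(a) = 2².L₃(4).2`: the centralizer of `2².L₃(4)` in `He` is its centre `2²`.
-/

set_option autoImplicit false

namespace Cfsg.Agent.AschComp.GoodHe

open Subgroup Cfsg Cfsg.Spor Cfsg.Spor.He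
open Cfsg.Agent.SporadicRecognition.HeldModel
open Cfsg.Agent.KFacts.He.Lv Cfsg.Agent.KFacts.He.TwoACent Cfsg.Agent.KFacts.He.TwoAPlane
open Cfsg.Agent.CTwoTab Cfsg.Agent.CTwoTab.He Cfsg.Agent.AschComp Cfsg.Agent.AschComp.GoodTools

theorem four_a : Four Cfsg.Spor.He (gn .a) := by
  have hfin := Cfsg.Agent.KFacts.He.Hyp.finHe
  refine four_of_eq (N := L) (V := V) (fun K hK => ?_) card_V ?_
  · exact comp_eq Cfsg.Agent.KFacts.He.TwoA.isQuasisimple_L L_le_cent perfect_le_L hK
  · intro x _ hx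
    exact mem_V.2 hx

/-- **`He`**: the field `he` of `Rows` -/
theorem he : GoodRow Cfsg.Spor.He := by
  have hfin := Cfsg.Agent.KFacts.He.Hyp.finHe
  refine goodRow_of_classes (fun s => s = z ∨ s = gn .a) (fun a ha => ?_) ?_
  · have haa : a * a = 1 := by rw [← pow_two, ← ha, pow_orderOf_eq_one]
    have ha1 : a ≠ 1 := by
      rintro rfl
      rw [orderOf_one] at ha
      omega
    rcases classes haa ha1 with h | h
    · obtain ⟨g, hg⟩ := isConj_iff.1 h
      exact ⟨g, z, Or.inl rfl, hg.symm⟩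
    · obtain ⟨g, hg⟩ := isConj_iff.1 h
      exact ⟨g, gn .a, Or.inr rfl, hg.symm⟩
  · rintro s (rfl | rfl)
    · exact four_of_no no_comp_z
    · exact four_a

end Cfsg.Agent.AschComp.GoodHe

end

-- merged: Cfsg.Agent.AschComp.GoodSuz
section

/-!
# S1308: the row `Suz` (helper57)

`C(e) = (2² × L₃(4)).2`: `C(e) ∩ C(L₃(4)) = 2²`.
-/

set_option autoImplicit false

namespace Cfsg.Agent.AschComp.GoodSuz

open Subgroup Cfsg Cfsg.Spor
open Cfsg.Agent.SporadicRecognition.SuzOrder Cfsg.Agent.SuzThree.Basic Cfsg.Agent.SuzThree.CentA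
  Cfsg.Agent.KFacts.SuzLFour Cfsg.Agent.KFacts.SuzTwoB Cfsg.Agent.CTwoTab.SuzPlane
open Cfsg.Agent.CTwoTab Cfsg.Agent.CTwoTab.Suz Cfsg.Agent.AschComp Cfsg.Agent.AschComp.GoodTools

theorem four_e : Four Cfsg.Spor.Suz e0 := by
  have hfin := finSuz
  refine four_of_eq (N := L) (V := V) (fun K hK => ?_) card_V ?_
  · exact comp_eq quasi_L L_le_CE perfect_le_L hK
  · intro x hx hxL
    exact cent_L (fun l hl => (hxL l hl).symm) hx

/-- **`Suz`**: the field `suz` of `Rows` -/
theorem suz : GoodRow Cfsg.Spor.Suz := by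
  have hfin := finSuz
  refine goodRow_of_classes (fun s => s = z0 ∨ s = e0) (fun a ha => ?_) ?_
  · have haa : a * a = 1 := by rw [← pow_two, ← ha, pow_orderOf_eq_one]
    have ha1 : a ≠ 1 := by
      rintro rfl
      rw [orderOf_one] at ha
      omega
    rcases classes haa ha1 with h | h
    · obtain ⟨g, hg⟩ := isConj_iff.1 h
      exact ⟨g, z0, Or.inl rfl, hg.symm⟩
    · obtain ⟨g, hg⟩ := isConj_iff.1 h
      exact ⟨g, e0, Or.inr rfl, hg.symm⟩
  · rintro s (rfl | rfl)
    · exact four_of_no (no_comp_of_large KFacts.SuzLarge.large)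
    · exact four_e

end Cfsg.Agent.AschComp.GoodSuz

end

-- merged: Cfsg.Agent.AschComp.GoodRu
section

/-!
# S1308: the row `Ru`

`C(v a) = 2² × Sz(8)`: the centralizer of `Sz(8)` in it is `V = 2²`.
-/

set_option autoImplicit false

namespace Cfsg.Agent.AschComp.GoodRu

open Subgroup Cfsg Cfsg.Agent.RuB Cfsg.Agent.RuB.Core
open Cfsg.Agent.KFacts.Ru
open Cfsg.Agent.CTwoTab Cfsg.Agent.CTwoTab.Ru Cfsg.Agent.AschComp Cfsg.Agent.AschComp.GoodTools

variable {G : Type*} [Group G]

/-- the four-group `V` -/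
def VV (C : Core G) : Subgroup G where
  carrier := {x | ∃ a, x = C.v a}
  mul_mem' := by
    rintro _ _ ⟨a, rfl⟩ ⟨b, rfl⟩
    exact ⟨a + b, (C.v_add a b).symm⟩
  one_mem' := ⟨0, C.v_zero.symm⟩
  inv_mem' := by
    rintro _ ⟨a, rfl⟩
    exact ⟨a, inv_eq_of_mul_eq_one_left (C.v_sq a)⟩

theorem v_inj (C : Core G) {a b : A4} (h : C.v a = C.v b) : a = b := by
  have h1 : C.v (a + b) = 1 := by rw [C.v_add, h, C.v_sq]
  have h2 : a + b = 0 := C.v_notin _ (by rw [h1]; exact C.L.one_mem)
  have h3 : ∀ a b : A4, a + b = 0 → a = b := by decide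
  exact h3 a b h2

theorem card_VV (C : Core G) : Nat.card ↥(VV C) = 4 := by
  have h4 : Nat.card A4 = 4 := by
    rw [Nat.card_prod, Nat.card_zmod]
  rw [← h4]
  symm
  refine Nat.card_congr (Equiv.ofBijective (fun a : A4 => (⟨C.v a, a, rfl⟩ : ↥(VV C))) ⟨?_, ?_⟩)
  · intro a b h
    exact v_inj C (congrArg Subtype.val h)
  · rintro ⟨_, a, rfl⟩
    exact ⟨a, rfl⟩

theorem four_v [Finite G] (C : Core G) (hs : IsSimpleGroup ↥C.L) {a : A4} (ha : a ≠ 0) : Four G (C.v a) := by
  refine four_of_eq (N := C.L) (V := VV C) (fun K hK => ?_) (card_VV C) ?_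
  · exact comp_eq (isQuasisimple_of_simple (na_L C)) (le_cent C a) (perfect_le_L C ha) hK
  · intro x hx hxL
    obtain ⟨b, l, hl, rfl⟩ := C.cent a ha x hx
    have hcen : center ↥C.L = ⊥ := center_eq_bot_of_simple (na_L C)
    have hl1 : (⟨l, hl⟩ : ↥C.L) ∈ center ↥C.L := by
      rw [mem_center_iff]
      intro m
      apply Subtype.ext
      have h2 : C.v b * (l * (m : G)) = C.v b * ((m : G) * l) := by
        calc C.v b * (l * (m : G)) = C.v b * l * m := by group
          _ = m * (C.v b * l) := (hxL m m.2).symm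
          _ = m * C.v b * l := by group
          _ = C.v b * m * l := by rw [C.v_comm b m m.2]
          _ = _ := by group
      exact (mul_left_cancel h2).symm
    rw [hcen, mem_bot] at hl1
    have hl2 : l = 1 := congrArg Subtype.val hl1
    rw [hl2, mul_one]
    exact ⟨b, rfl⟩

theorem ru_of_iso {X : Type*} [Group X] [Finite X] (h : Spor.IsoRu X) : GoodRow X := by
  obtain ⟨C, hsz, -⟩ := exists_core_sz h
  have hs : IsSimpleGroup ↥C.L := simple_sz hsz
  refine goodRow_of_classes (fun s => s = C.z 1 ∨ ∃ a, a ≠ 0 ∧ s = C.v a) (fun x hx => ?_) ?_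
  · have hxx : x * x = 1 := by rw [← pow_two, ← hx, pow_orderOf_eq_one]
    have hx1 : x ≠ 1 := by
      rintro rfl
      rw [orderOf_one] at hx
      omega
    rcases InvC.invol_cases C hxx hx1 with ⟨g, hg⟩ | ⟨g, a, ha, hg⟩
    · exact ⟨g, C.z 1, Or.inl rfl, hg.symm⟩
    · exact ⟨g, C.v a, Or.inr ⟨a, ha, rfl⟩, hg.symm⟩
  · rintro s (rfl | ⟨a, ha, rfl⟩)
    · exact four_of_no (no_comp_z C)
    · exact four_v C hs ha

/-- **`Ru`**: the field `ru` of `Rows` -/
theorem ru : GoodRow Spor.Ru := by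
  have hiso : Spor.IsoRu Spor.Ru := ⟨MulEquiv.refl _⟩
  obtain ⟨t, s, w, f, d, y, hL⟩ := exists_lets hiso
  have : Finite Spor.Ru := hL.finite
  exact ru_of_iso hiso

end Cfsg.Agent.AschComp.GoodRu

end

-- merged: Cfsg.Agent.AschComp.GoodCoOne
section

/-!
# S1308: the row `Co₁` (helper57)

`C(w) = (2² × G₂(4)).2`: `C(w) ∩ C(G₂(4)) = 2²`.
-/

set_option autoImplicit false

namespace Cfsg.Agent.AschComp.GoodCoOne

open Subgroup Cfsg
open Cfsg.Agent.SporadicA.Co0Mono
open Cfsg.Agent.CoOneType.ClosingFacts (mk mk_mul mk_inv exists_mk mk_eq_one mk_eq)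
open Cfsg.Agent.KFacts.Co1D4
open Cfsg.Agent.CTwoTab Cfsg.Agent.CTwoTab.Co1 Cfsg.Agent.AschComp Cfsg.Agent.AschComp.GoodTools

theorem four_w : Four Spor.Co1 TwoB.w := by
  have S := Main.setup
  refine four_of_eq (N := GTwo.L) (V := S.Z) (fun K hK => comp_twoB hK) S.card_Z ?_
  intro x hx hxL
  exact S.mem_Z.2 (S.cent x hx fun l hl => (hxL l hl).symm)

/-- **`Co₁`**: the field `co1` of `Rows` -/
theorem co1 : GoodRow Spor.Co1 := by
  refine goodRow_of_classes Rep exists_rep ?_
  rintro s (⟨o, ho, rfl⟩ | ⟨d, hd, rfl⟩ | rfl)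
  · exact four_of_no (ctr_octad ho).no_comp
  · exact four_of_no (ctr_dodecad hd).no_comp
  · exact four_w

end Cfsg.Agent.AschComp.GoodCoOne

end

-- merged: Cfsg.Agent.AschComp.SpFi22
section

/-!
# S1308: the row `Fi22` (helper32)
-/

set_option autoImplicit false

namespace Cfsg.Agent.AschComp.SpFi22

open Subgroup Cfsg Cfsg.Agent.R01.FiFusion Cfsg.Agent.R01.FiFacts Cfsg.Agent.StdFi22.TLev
open Cfsg.Agent.CTwoTab.Fi22 (facts card_center finite)
open Cfsg.Agent.StdFi22.MainFi22 (bas)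
open Cfsg.Agent.R08.AutT (T)

/-- a transposition `d` : `C(d) = 2·U₆(2)` -/
theorem fi22 : RankOne Spor.Fi22 := by
  have := finite
  obtain ⟨t, htT, -⟩ := bas.fix (f := (1 : Spor.Fi22)) (one_mul 1)
  obtain ⟨b, c, h⟩ := bas.exists_tri htT
  obtain ⟨R, F⟩ := facts htT h.my h.xy h.cxy
  exact SpTool.rankOne_of_quasi (orderOf_eq_prime (by rw [pow_two]; exact F.dd) F.d_ne) F.quasi (card_center F)

end Cfsg.Agent.AschComp.SpFi22

end

-- merged: Cfsg.Agent.AschComp.SpFi23
section

/-!
# S1308: the row `Fi23` (helper32)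
-/

set_option autoImplicit false

namespace Cfsg.Agent.AschComp.SpFi23

open Subgroup Cfsg
open Cfsg.Agent.KFacts.FiTTh Cfsg.Agent.Fischer.Fi23Z Cfsg.Agent.Fischer.Fi23Class

/-- a transposition `z` : `C(z) = 2·Fi22` -/
theorem fi23 : RankOne Spor.Fi23 := by
  have hz1 : z0 ≠ 1 := by
    intro h
    apply z0_ncomm
    rw [h, one_mul, mul_one]
  have ht : orderOf z0 = 2 := orderOf_eq_prime (by rw [pow_two]; exact Cent.zz) hz1
  refine SpTool.rankOne_of (K := centralizer ({z0} : Set Spor.Fi23)) ht le_rfl Quasi.qs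
    (fun g hg x hx => mul_mem (mul_mem hg hx) (inv_mem hg)) ?_
  intro u hu h
  exact Quasi.cen u fun y hy => (h y (mem_centralizer_singleton_iff.2 hy)).symm

end Cfsg.Agent.AschComp.SpFi23

end

-- merged: Cfsg.Agent.AschComp.SpFi24
section

/-!
# S1308: the row `Fi24'` (helper32)
-/

set_option autoImplicit false

namespace Cfsg.Agent.AschComp.SpFi24

open Cfsg Cfsg.Spor Cfsg.Agent.R01 Cfsg.Agent.R08 Cfsg.Agent.R08.FiTwentyFour
open Cfsg.Agent.R08.TetTwo Cfsg.Agent.R08.TetThree Cfsg.Agent.R08.TetBasic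
open Subgroup
open Cfsg.Agent.CTwoTab.FiTF

local notation "Pr" => Cfsg.Agent.R08.TetFi24A.At

/-- the product `t` of two commuting transpositions : `C(t) = 2·Fi22.2` -/
theorem rankOne_pair {a b : Fi24} (P : Pr a b) {t : Spor.Fi24'} (ht : (t : Fi24) = a * b) : RankOne Spor.Fi24' := by
  have ht2 : orderOf t = 2 := by
    apply orderOf_eq_prime
    · apply Subtype.ext
      show ((t : Spor.Fi24') : Fi24) ^ 2 = 1
      rw [ht, P.ab.mul_pow, pow_two, pow_two, P.aa, FiTwentyFour.sq P.hb, one_mul]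
    · intro h
      have h1 : ((t : Spor.Fi24') : Fi24) = 1 := congrArg Subtype.val h
      rw [ht] at h1
      apply P.ne
      have h2 := eq_inv_of_mul_eq_one_left h1
      rw [h2, inv_eq_of_mul_eq_one_left (FiTwentyFour.sq P.hb)]
  refine SpTool.rankOne_of ht2 (N_le ht) (qs_N P) ?_ ?_
  · intro g hg x hx
    rw [mem_N] at hx ⊢
    obtain ⟨hx1, hx2, hx3⟩ := mem_Cab.1 hx
    have e : ((g * x * g⁻¹ : Spor.Fi24') : Fi24) = (g : Fi24) * x * (g : Fi24)⁻¹ := by push_cast; rfl
    rw [mem_Cab]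
    have hgi := fix_or_swap P ht (inv_mem hg)
    have key : ∀ u v : Fi24, (g : Fi24)⁻¹ * u * g = v → (x : Fi24) * v = v * x →
        ((g * x * g⁻¹ : Spor.Fi24') : Fi24) * u = u * ((g * x * g⁻¹ : Spor.Fi24') : Fi24) := by
      intro u v huv hv
      rw [e]
      have h1 : u = (g : Fi24) * v * (g : Fi24)⁻¹ := by rw [← huv]; group
      rw [h1]
      calc (g : Fi24) * x * (g : Fi24)⁻¹ * ((g : Fi24) * v * (g : Fi24)⁻¹) = g * (x * v) * (g : Fi24)⁻¹ := by group
        _ = g * (v * x) * (g : Fi24)⁻¹ := by rw [hv]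
        _ = _ := by group
    refine ⟨mem_commutator_iff.1 (g * x * g⁻¹ : Spor.Fi24').2, ?_, ?_⟩
    · rcases hgi with ⟨h1, h2⟩ | ⟨h1, h2⟩
      · exact key a a (by simpa using h1) hx2
      · exact key a b (by simpa using h1) hx3
    · rcases hgi with ⟨h1, h2⟩ | ⟨h1, h2⟩
      · exact key b b (by simpa using h2) hx3
      · exact key b a (by simpa using h2) hx2
  · intro u hu hc
    obtain ⟨c, hN⟩ := OddHalf.D4.Spor.FiTF.exists_nb P
    have h1 : (u : Fi24) * (a * c) * (u : Fi24)⁻¹ = a * c := by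
      have hm : (⟨a * c, mem_commutator_iff.2 (mem_Cab.1 (P.x hN).2).1⟩ : Spor.Fi24') ∈ N a b := by
        rw [mem_N]
        exact (P.x hN).2
      have h2 := congrArg Subtype.val (hc _ hm)
      have h3 : a * c * (u : Fi24) = (u : Fi24) * (a * c) := h2
      rw [← h3]
      group
    have h2 := OddHalf.D4.Spor.FiTF.pair_fix P.ha hN.hc hN.ca.symm hN.na.symm h1
    have h3 := fix_or_swap P ht hu
    have h4 : (u : Fi24) * a * (u : Fi24)⁻¹ = a ∧ (u : Fi24) * b * (u : Fi24)⁻¹ = b := by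
      rcases h3 with h3 | h3
      · exact h3
      · exfalso
        rcases h2 with h2 | h2
        · exact P.ne (h2.1.symm.trans h3.1)
        · exact hN.nb (h2.1.symm.trans h3.1)
    have hu' : (u : Fi24) ∈ Cab a b :=
      mem_Cab.2 ⟨mem_commutator_iff.1 u.2, mul_inv_eq_iff_eq_mul.1 h4.1, mul_inv_eq_iff_eq_mul.1 h4.2⟩
    have h5 : P.π ⟨u, hu'⟩ = 1 := by
      have h6 : P.π ⟨u, hu'⟩ ∈ center Fi22 := by
        rw [mem_center_iff]
        intro g
        obtain ⟨x, rfl⟩ := P.lift.ext.surj g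
        rw [← map_mul, ← map_mul]
        have hm : (⟨x, mem_commutator_iff.2 (mem_Cab.1 x.2).1⟩ : Spor.Fi24') ∈ N a b := by
          rw [mem_N]
          exact x.2
        have h7 : (x : Fi24) * (u : Fi24) = (u : Fi24) * (x : Fi24) :=
          congrArg (fun y : Spor.Fi24' => (y : Fi24)) (hc _ hm)
        exact congrArg P.π (Subtype.ext h7)
      rw [center_Fi22] at h6
      exact h6
    rw [P.lift.ext.ker] at h5
    rcases h5 with h5 | h5
    · left
      have h6 : (u : Fi24) = 1 := congrArg (fun y : Cab a b => (y : Fi24)) h5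
      exact Subtype.ext h6
    · right
      apply Subtype.ext
      have h6 : (u : Fi24) = (P.z : Fi24) := congrArg (fun y : Cab a b => (y : Fi24)) h5
      rw [h6, P.hz, ht]

theorem fi24 : RankOne Spor.Fi24' := by
  have h := KFacts.FiTF.Tet.isTet (t := 0) (by norm_num)
  generalize KFacts.FiTF.Defs.D 0 0 = a at h
  generalize KFacts.FiTF.Defs.D 0 1 = b at h
  generalize KFacts.FiTF.Defs.D 0 2 = c at h
  generalize KFacts.FiTF.Defs.D 0 3 = d at h
  obtain ⟨P⟩ := TetFi24A.exists_at h.ha h.hb h.nab h.ab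
  have hm : a * b ∈ commutator Fi24 := by
    rw [← P.hz]
    exact Cab_le P.z.2
  exact rankOne_pair P (t := ⟨a * b, hm⟩) rfl

end Cfsg.Agent.AschComp.SpFi24

end

-- merged: Cfsg.Agent.AschComp.SpHN
section

/-!
# S1308: the row `HN` (helper32)

The involution `Q 0` of `HN` has the centralizer `H₀ = 2·HS.2`; an element of `H₀` which centralizes `2·HS` acts
trivially on the 100 points.
-/

set_option autoImplicit false

namespace Cfsg.Agent.AschComp.SpHN

open Subgroup Cfsg Cfsg.Agent.KFacts.HN Cfsg.Agent.HN.XWords Cfsg.Agent.HN.XStruct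
open Cfsg.Agent.HN Cfsg.Agent.HN.Pres Cfsg.Agent.HN.P1408 Cfsg.Agent.HN.H0Basic Cfsg.Agent.HN.DoubleCover
open Cfsg.Agent.SporadicRecognition.RankThree
open Cfsg.Agent.CTwoTab.HN (N eN N_le qs_N)

/-- an element which commutes with `2·HS` fixes the points -/
theorem phi_eq_one {u : H0} (h : ∀ k ∈ HS100.K, k * u = u * k) : HS100.φ u = 1 := by
  have hQ : ∀ q ∈ HS100.Q, q * HS100.φ u = HS100.φ u * q := by
    rintro _ ⟨k, hk, rfl⟩
    rw [← map_mul, h k hk, map_mul]
  have hr := rank_Q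
  have h0 : HS100.φ u 0 = 0 := by
    have key : ∀ b : Fin 100, Orb (↥HS100.Q) (0 : Fin 100) b 0 (HS100.φ u 0) →
        (MulAction.orbit (MulAction.stabilizer (↥HS100.Q) (0 : Fin 100)) b).ncard = 1 := by
      rintro b ⟨g, hg, hgb⟩
      rw [Set.ncard_eq_one]
      refine ⟨b, ?_⟩
      ext y
      constructor
      · rintro ⟨s, rfl⟩
        have hs : s.1 • (0 : Fin 100) = 0 := s.2
        rw [Set.mem_singleton_iff]
        change s.1 • b = b
        have h1 : b = g⁻¹ • (HS100.φ u 0) := by rw [← hgb, inv_smul_smul]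
        have hg' : g • (0 : Fin 100) = 0 := hg
        have h2 : (g * s.1 * g⁻¹) • (HS100.φ u 0) = HS100.φ u 0 := by
          have h3 : (g * s.1 * g⁻¹) • (0 : Fin 100) = 0 := by
            rw [mul_smul, mul_smul, inv_smul_eq_iff.2 hg'.symm, hs, hg']
          have h4 := hQ _ (g * s.1 * g⁻¹).2
          have h5 := congrArg (fun p : Equiv.Perm (Fin 100) => p 0) h4
          change ((g * s.1 * g⁻¹ : ↥HS100.Q) : Equiv.Perm (Fin 100)) (HS100.φ u 0) = HS100.φ u 0
          change ((g * s.1 * g⁻¹ : ↥HS100.Q) : Equiv.Perm (Fin 100)) 0 = 0 at h3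
          rw [Equiv.Perm.mul_apply, Equiv.Perm.mul_apply, h3] at h5
          exact h5
        have h6 : s.1 • (g⁻¹ • (HS100.φ u 0)) = g⁻¹ • (HS100.φ u 0) := by
          rw [eq_inv_smul_iff, ← mul_smul, ← mul_smul]
          exact h2
        rw [h1]
        exact h6
      · intro hy
        rw [Set.mem_singleton_iff] at hy
        rw [hy]
        exact MulAction.mem_orbit_self b
    rcases hr.cases_base (HS100.φ u 0) with h1 | h1 | h1
    · exact h1
    · exfalso
      have h2 := key _ h1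
      rw [hr.cb] at h2
      omega
    · exfalso
      have h2 := key _ h1
      rw [hr.cc] at h2
      omega
  have := hr.trans
  apply Equiv.Perm.ext
  intro x
  obtain ⟨q, rfl⟩ := MulAction.exists_smul_eq (↥HS100.Q) (0 : Fin 100) x
  have h1 := congrArg (fun p : Equiv.Perm (Fin 100) => p 0) (hQ _ q.2)
  change HS100.φ u ((q : Equiv.Perm (Fin 100)) 0) = (q : Equiv.Perm (Fin 100)) 0
  rw [Equiv.Perm.mul_apply, Equiv.Perm.mul_apply, h0] at h1
  exact h1.symm

theorem cent_K {u : H0} (h : ∀ k ∈ HS100.K, k * u = u * k) : u = 1 ∨ u = τ := by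
  have h1 := phi_eq_one h
  have huK : u ∈ HS100.K := DoubleCover.ker_le h1
  have hm : ∀ (v : H0) (hv : v ∈ HS100.K), HS100.φ v = 1 → (⟨v, hv⟩ : ↥HS100.K) ∈ φK.ker := by
    intro v hv h2
    rw [MonoidHom.mem_ker]
    apply Subtype.ext
    rw [φK_coe]
    exact h2
  obtain ⟨w, -, hw⟩ := (Nat.card_eq_two_iff' (1 : ↥φK.ker)).1 (DoubleCover.card_ker card_H0 gx_sq_ne_one)
  by_cases hu1 : u = 1
  · exact Or.inl hu1
  right
  have hτ : τ ∈ HS100.K := DoubleCover.ker_le φ_τ
  have e1 := hw ⟨_, hm u huK h1⟩ (fun h2 => hu1 (congrArg (fun t : ↥φK.ker => ((t : ↥HS100.K) : H0)) h2))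
  have e2 := hw ⟨_, hm τ hτ φ_τ⟩ (fun h2 => τ_ne_one (congrArg (fun t : ↥φK.ker => ((t : ↥HS100.K) : H0)) h2))
  exact congrArg (fun t : ↥φK.ker => ((t : ↥HS100.K) : H0)) (e1.trans e2.symm)

theorem hn : RankOne Spor.HN := by
  have hQ2 : orderOf (Q 0) = 2 := by
    apply orderOf_eq_prime
    · rw [pow_two]
      exact Q0_sq
    · intro h
      rw [Q0_eq] at h
      exact τ_ne_one (emb.inj (by rw [h, map_one]))
  refine SpTool.rankOne_of hQ2 N_le qs_N ?_ ?_
  · rintro g hg _ ⟨k, hk, rfl⟩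
    obtain ⟨v, rfl⟩ := mem_range_of_comm (mem_centralizer_singleton_iff.1 hg)
    have hK : HS100.K.Normal := HS100.K_normal
    exact ⟨v * k * v⁻¹, hK.conj_mem k hk v, by simp⟩
  · intro u hu h
    obtain ⟨v, rfl⟩ := mem_range_of_comm (mem_centralizer_singleton_iff.1 hu)
    have h1 : ∀ k ∈ HS100.K, k * v = v * k := by
      intro k hk
      apply emb.inj
      rw [map_mul, map_mul]
      exact h _ ⟨k, hk, rfl⟩
    rcases cent_K h1 with h2 | h2
    · left
      rw [h2, map_one]
    · right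
      rw [h2, Q0_eq]

end Cfsg.Agent.AschComp.SpHN

end

-- merged: Cfsg.Agent.AschComp.SpMonster
section

/-!
# S1308: the row of the Monster (helper32)
-/

set_option autoImplicit false

namespace Cfsg.Agent.AschComp.SpMonster

open Subgroup Cfsg Cfsg.Agent.MonsterX Cfsg.Agent.MonsterX.MainPack Cfsg.Agent.MonsterU Cfsg.Agent.MonsterP

/-- an involution `t` of class `2A` : `C(t) = 2·B` -/
theorem m : RankOne Spor.Monster := by
  obtain ⟨x, hx, hc⟩ := Uncond.all.cover (NodesGrp.prel NodesU.hyp) (NodesNe.ne NodesU.hyp) NodesU.conj_ten S1704.result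
  have : Finite InstData.M.G := Cfsg.Agent.MonsterX.MainBasic.G_finite Uncond.all.hO
  have hq := CTwoTab.MonsterOf.quasisimple_cover S1704.result hc
  have h := SpTool.rankOne_of_quasi hx hq hc.1
  obtain ⟨e⟩ := MonsterP.Equiv.equiv
  exact h.of_equiv e.symm

end Cfsg.Agent.AschComp.SpMonster

end

-- merged: Cfsg.Agent.AschComp.SpBaby
section

/-!
# S1308: the row of the Baby Monster (helper61, from `CTwoTab/BInst.lean` and `SpSec.lean`)
-/

set_option autoImplicit false

namespace Cfsg.Agent.AschComp.SpBaby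

open Cfsg

/-- an involution `t` of the class of `t1` : `C(t)' = 2·²E₆(2)` -/
theorem b : RankOne Spor.BabyMonster := by
  obtain ⟨K, iF, iT, hK, t, X₀, σ, H, -, -⟩ := CTwoTab.BInst.exists_sec
  have hs : IsSimpleGroup (Lie.twistedE6 K 2) := MonsterN.EInst.isSimple K hK
  exact SpSec.rankOne_of_data H (BabyComp.EFacts.noncomm K hK)

end Cfsg.Agent.AschComp.SpBaby

end

-- merged: Cfsg.Agent.AschSpor.McLLy
section

/-!
# S1308, the rows `McL`, `Ly` (helper65): the centralizers `2.A₈`, `2.A₁₁`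
-/

set_option autoImplicit false

namespace Cfsg.Agent.AschSpor

open Subgroup Cfsg Cfsg.Agent.AschComp Cfsg.Agent.TypeM.Two Cfsg.Agent.TypeM.CoverTools

/-- the centralizer of an involution is a double cover `2.A_n` -/
theorem rankOne_of_mt {n : ℕ} (hn : 7 ≤ n) {G : Type*} [Group G] [Finite G] (L : MT n G) : RankOne G :=
  rankOne_of_card L.orderOf_t (SevenLow.DoubleCover.quasisimple_of_cover (by omega) L.K)
    (card_center L.K (by omega)).le

/-- **The row `McL`.** -/
theorem mcl {G : Type*} [Group G] [Finite G] (h : Spor.IsoMcL G) : RankOne G := by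
  obtain ⟨-, -, -, ⟨L⟩⟩ := Cfsg.Agent.TypeM.FactsMcL.facts h
  exact rankOne_of_mt (by norm_num) L

/-- **The row `Ly`.** -/
theorem ly {G : Type*} [Group G] [Finite G] (h : Spor.IsoLy G) : RankOne G := by
  obtain ⟨-, -, -, ⟨L⟩⟩ := Cfsg.Agent.TypeM.FactsLy.facts h
  exact rankOne_of_mt (by norm_num) L

end Cfsg.Agent.AschSpor

end

-- merged: Cfsg.Agent.AschSpor.Co3
section

/-!
# S1308, the row `Co3` (helper65): the centralizer `2.Sp₆(2)`
-/

set_option autoImplicit false

namespace Cfsg.Agent.AschSpor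

open Subgroup Cfsg Cfsg.Agent.AschComp Cfsg.Agent.KFacts.Co3.Sheet

/-- **The row `Co3`.** -/
theorem co3 {K : Type*} [Group K] (h : Spor.IsoCo3 K) : RankOne K := by
  obtain ⟨z, F⟩ := exists_facts h
  refine rankOne_of_quasi (orderOf_eq_prime (by rw [pow_two]; exact F.basic.zz) F.basic.z1) F.quasi fun x hx => ?_
  refine F.center x ?_ fun y hy => (hx y (mem_centralizer_singleton_iff.1 hy)).symm
  rw [mem_centralizer_singleton_iff]
  exact hx z rfl

end Cfsg.Agent.AschSpor

end

-- merged: Cfsg.Agent.AschSpor.ONan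
section

/-!
# S1308, the row `O'N` (helper65): the centralizer `4.L₃(4).2`
-/

set_option autoImplicit false

namespace Cfsg.Agent.AschSpor

open Subgroup Cfsg Cfsg.Agent.AschComp Cfsg.Agent.KFacts.ON.Words Cfsg.Agent.KFacts.ON.Struct
open Cfsg.Agent.KFacts.ON.Qs
open Cfsg.Agent.SporadicB.ON45Word (on)

theorem f_ne : on .f ≠ 1 := KFacts.ON.Struct.f_ne_one

/-- **The row `O'N`.** -/
theorem onan : RankOne Spor.ON := by
  have hff : on .f * on .f = 1 := KFacts.ON.Struct.ff
  have hJ : J ≤ centralizer ({on .f} : Set Spor.ON) := fun x hx =>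
    mem_centralizer_singleton_iff.2 (KFacts.ON.Struct.mem_K0.1 (J_le hx))
  refine rankOne_of_invol (orderOf_eq_prime (by rw [pow_two]; exact hff) f_ne) (N := J) hJ
    ⟨fun n hn g => ?_⟩ qs fun x hx _ h => ?_
  · rw [mem_subgroupOf] at hn ⊢
    exact J_normal (KFacts.ON.Struct.mem_K0.2 (mem_centralizer_singleton_iff.1 g.2)) hn
  · have hfv : on .f * v * (on .f * v) = on .f := by
      have h1 : v * on .f = on .f * v := by rw [← vv, mul_assoc]
      calc on .f * v * (on .f * v) = on .f * (v * on .f) * v := by group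
        _ = on .f * on .f * (v * v) := by rw [h1]; group
        _ = on .f := by rw [hff, vv, one_mul]
    rcases zv_cases (cent_J h) with h1 | h1 | h1 | h1
    · exact Or.inl h1
    · rw [h1, vv] at hx
      exact absurd hx f_ne
    · exact Or.inr h1
    · rw [h1, hfv] at hx
      exact absurd hx f_ne

end Cfsg.Agent.AschSpor

end

-- merged: Cfsg.Agent.AschSpor.HS
section

/-!
# S1308, the row `HS` (helper65): the centralizer `2 × Aut(A₆)`
-/

set_option autoImplicit false

namespace Cfsg.Agent.AschSpor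

open Subgroup Cfsg Cfsg.Agent.AschComp Cfsg.Agent.KFacts.HS Cfsg.Agent.KFacts.HS.DFour

/-- **The row `HS`.** -/
theorem hs {X : Type*} [Group X] (h : Spor.IsoHS X) : RankOne X := by
  obtain ⟨D⟩ := exists_mod h
  have hle : LA D ≤ centralizer ({wB D} : Set X) := fun _ hl => mem_centralizer_singleton_iff.2 (LA_comm D hl)
  have e : ↥(LA D) ≃* ↥(alternatingGroup (Fin 6)) := (MonoidHom.ofInjective (rho_inj D)).symm
  refine rankOne_of_normal (orderOf_eq_prime (by rw [pow_two]; exact wB_sq D) (wB_ne D)) hle ⟨fun n hn g => ?_⟩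
    (CTwoTab.quasi_alt (n := 6) (by norm_num) e) fun x _ h => cent_LA D h
  rw [mem_subgroupOf] at hn ⊢
  exact norm_LA D (mem_centralizer_singleton_iff.1 g.2) hn

end Cfsg.Agent.AschSpor

end

-- merged: Cfsg.Agent.AschSpor.JOne
section

/-!
# S1308, the row `J₁` (helper65): the centralizer `2 × A₅`
-/

set_option autoImplicit false

namespace Cfsg.Agent.AschSpor

open Subgroup Cfsg Cfsg.Agent.AschComp

namespace JOne

open Cfsg.Agent.UGT.EndJ1.Abs Cfsg.Agent.Lib.AltCarmichael
open Cfsg.Agent.OddHalf.Quat.NoThreeSpor.J1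

set_option maxRecDepth 100000 in
theorem e1_ne : SporadicB.J1.Main.e 1 ≠ 1 :=
  (SporadicB.J1.Main.rep_e 1).ne SporadicB.J1.Main.Rep.one (by decide +kernel)

theorem card_A5 : Nat.card (alternatingGroup (Fin 5)) = 60 := by
  have h := two_mul_nat_card_alternatingGroup (α := Fin 5)
  rw [Nat.card_perm, Nat.card_fin] at h
  have h5 : Nat.factorial 5 = 120 := rfl
  omega

/-- a group with an involution whose centralizer has order 120 and a subgroup `A₅` -/
theorem of_rel {K : Type*} [Group K] [Finite K] {t : K} (ht : orderOf t = 2)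
    (hC : Nat.card ↥(centralizer ({t} : Set K)) = 120) {y : ℕ → K}
    (hy : Rel 3 y) (hc : ∀ i, y i * t = t * y i) (hne : y 0 ≠ 1) : RankOne K := by
  obtain ⟨f⟩ := nonempty_gen_equiv (m := 3) le_rfl hy ⟨0, by norm_num, hne⟩
  have hle : gen 3 y ≤ centralizer ({t} : Set K) := by
    refine (closure_le _).2 ?_
    rintro _ ⟨i, -, rfl⟩
    exact mem_centralizer_singleton_iff.2 (hc i)
  have h60 : Nat.card ↥(gen 3 y) = 60 := (Nat.card_congr f.toEquiv).trans card_A5
  have hi : ((gen 3 y).subgroupOf (centralizer ({t} : Set K))).index = 2 := by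
    have h := ((gen 3 y).subgroupOf (centralizer ({t} : Set K))).card_mul_index
    rw [Nat.card_congr (subgroupOfEquivOfLe hle).toEquiv, h60, hC] at h
    omega
  have hq := CTwoTab.quasi_alt (n := 5) le_rfl f
  have hs := CTwoTab.simple_alt (n := 5) le_rfl f
  refine rankOne_of_normal_card ht hle ?_ hq ?_
  · intro g hg x hx
    have h1 := (normal_of_index_eq_two hi).conj_mem ⟨x, hle hx⟩ (mem_subgroupOf.2 hx) ⟨g, hg⟩
    exact mem_subgroupOf.1 h1
  · have hz : center ↥(gen 3 y) = ⊥ := by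
      rcases (inferInstance : (center ↥(gen 3 y)).Normal).eq_bot_or_eq_top with h | h
      · exact h
      · exact absurd ⟨⟨fun a b => (mem_center_iff.1 (h ▸ mem_top b : b ∈ center ↥(gen 3 y)) a)⟩⟩
          (CTwoTab.na_alt (n := 5) le_rfl f)
    have h1 : Nat.card (↥(gen 3 y) ⧸ center ↥(gen 3 y)) = 60 := by
      rw [hz, ← h60]
      exact Nat.card_congr QuotientGroup.quotientBot.toEquiv
    rw [h1, hC]
    norm_num

theorem row : RankOne Spor.J1 := by
  obtain ⟨D⟩ := Cfsg.Agent.UGT.EndJ1.Data.exists_dat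
  have hfin := D.fin
  obtain ⟨g', hg'⟩ := D.conj_t (u := SporadicB.J1.Main.e 1) (Cfsg.Agent.UGT.EndJ1.Data.e_sq 1) e1_ne
  have hcard : Nat.card ↥(centralizer ({SporadicB.J1.Main.e 1} : Set Spor.J1)) = 120 := by
    have h1 := CTwoTab.map_centralizer_singleton (MulAut.conj g') D.t
    rw [MulAut.conj_apply, hg'] at h1
    rw [← h1, Subgroup.card_map_of_injective (MulAut.conj g').injective, D.card_C]
  exact of_rel (orderOf_eq_prime (by rw [pow_two]; exact Cfsg.Agent.UGT.EndJ1.Data.e_sq 1) e1_ne) hcard rel comm y0_ne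

end JOne

/-- **The row `J₁`.** -/
theorem j1 : RankOne ↥Spor.J1 := JOne.row

end Cfsg.Agent.AschSpor

end

-- merged: Cfsg.Agent.AschComp.AllRows
section

/-!
# S1308: the two tables of rows (helper61)

The rows were proved by helper17, helper32 (with helper30), helper35, helper37, helper57, helper65, helper82.
-/

set_option autoImplicit false

namespace Cfsg.Agent.AschComp.AllRows

open Cfsg

theorem three : RowsThree where
  psl3 := fun F _ _ n h3 hn => PslThree.row F n h3 hn
  psu3 := fun F _ _ n h9 hn => Psu3.psu3 F n h9 hn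
  psp3 := fun F _ _ m h3 hm => PspThree.row F m h3 hm
  odd3 := fun F _ _ m h3 hm => Orth3.odd3 F m h3 hm
  plus3 := fun F _ _ m h3 hm => Orth3.plus3 F m h3 hm
  minus3 := fun F _ _ m b c h3 hm hbc => Orth3.minus3 F m b c h3 hm hbc
  f4 := fun F _ _ h3 => ExcData.f4 F h3
  e6 := fun F _ _ h3 => ExcData.e6 F h3
  e7 := fun F _ _ h3 => ExcData.e7 F h3
  e8 := fun F _ _ h3 => ExcData.e8 F h3
  e6t := fun F _ _ h => ExcTwE.e6t F h
  d4t := fun F _ _ h => ExcD4.d4t F h

theorem mcl : RankOne ↥Spor.McL := by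
  have hf : Finite ↥Spor.McL := Cfsg.Agent.TypeM.FactsMcL.exists_mt_mcl.1
  exact AschSpor.mcl ⟨MulEquiv.refl _⟩

theorem ly : RankOne Spor.Ly := by
  have hf : Finite Spor.Ly := Cfsg.Agent.Ly.Setup.finite_ly
  exact AschSpor.ly ⟨MulEquiv.refl _⟩

theorem j2 : GoodRow Spor.J2 := by
  have hf : Finite Spor.J2 := Nat.finite_of_card_ne_zero (by rw [Cfsg.Agent.S1619.result.2.2.2]; norm_num)
  exact GoodJTwo.j2

theorem spor : RowsSpor where
  m12 := AschSpor.m12
  j1 := AschSpor.j1
  j2 := j2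
  mcl := mcl
  ly := ly
  hs := AschSpor.hs ⟨MulEquiv.refl _⟩
  he := GoodHe.he
  on := AschSpor.onan
  suz := GoodSuz.suz
  ru := GoodRu.ru
  co3 := AschSpor.co3 ⟨MulEquiv.refl _⟩
  co1 := GoodCoOne.co1
  fi22 := SpFi22.fi22
  fi23 := SpFi23.fi23
  fi24 := SpFi24.fi24
  hn := SpHN.hn
  b := SpBaby.b
  m := SpMonster.m

end Cfsg.Agent.AschComp.AllRows

end
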